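import Mathlib
import Cfsg.Prelude.Def_Sporadic_a

/-!
Counting in Steiner systems: blocks through a set, and the intersection numbers with a small set.
-/

set_option autoImplicit false

namespace Cfsg.Agent.Lib.Design

open Finset

variable {α : Type*} [Fintype α] [DecidableEq α]

/-- `λ_s · C(k-s, t-s) = C(v-s, t-s)`. -/
theorem card_blocks_through {t k : ℕ} {B : Finset (Finset α)}
    (hB : Cfsg.IsSteinerSystem t k (B : Set (Finset α))) {S : Finset α} (hS : S.card ≤ t) :
    (B.filter fun b => S ⊆ b).card * (k - S.card).choose (t - S.card) =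
      (Fintype.card α - S.card).choose (t - S.card) := by
  classical
  have hsup : ∀ U : Finset α, S ⊆ U →
      ((U.powersetCard t).filter fun T => S ⊆ T).card = (U.card - S.card).choose (t - S.card) := by
    intro U hU
    rw [← card_sdiff_of_subset hU, ← card_powersetCard]
    refine card_bij' (fun T _ => T \ S) (fun R _ => R ∪ S) ?_ ?_ ?_ ?_
    · intro T hT
      simp only [mem_filter, mem_powersetCard] at hT
      exact mem_powersetCard.2 ⟨sdiff_subset_sdiff hT.1.1 le_rfl,
        by rw [card_sdiff_of_subset hT.2, hT.1.2]⟩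
    · intro R hR
      rw [mem_powersetCard] at hR
      simp only [mem_filter, mem_powersetCard]
      refine ⟨⟨union_subset (hR.1.trans sdiff_subset) hU, ?_⟩, subset_union_right⟩
      rw [card_union_of_disjoint (disjoint_of_subset_left hR.1 sdiff_disjoint), hR.2]
      omega
    · intro T hT
      simp only [mem_filter] at hT
      exact sdiff_union_of_subset hT.2
    · intro R hR
      rw [mem_powersetCard] at hR
      rw [union_sdiff_cancel_right (disjoint_of_subset_left hR.1 sdiff_disjoint)]
  rw [← card_univ, ← hsup univ (subset_univ S)]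
  have hset : ((univ : Finset α).powersetCard t).filter (fun T => S ⊆ T) =
      (B.filter fun b => S ⊆ b).biUnion fun b => (b.powersetCard t).filter fun T => S ⊆ T := by
    ext T
    simp only [mem_filter, mem_powersetCard, mem_biUnion]
    constructor
    · rintro ⟨⟨-, hT⟩, hST⟩
      obtain ⟨b, ⟨hb, hTb⟩, -⟩ := hB.2 T hT
      exact ⟨b, ⟨mem_coe.1 hb, hST.trans hTb⟩, ⟨hTb, hT⟩, hST⟩
    · rintro ⟨b, -, ⟨-, hT⟩, hST⟩
      exact ⟨⟨subset_univ T, hT⟩, hST⟩
  rw [hset, card_biUnion]
  · refine (sum_const_nat fun b hb => ?_).symm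
    rw [mem_filter] at hb
    rw [hsup b hb.2, hB.1 b (mem_coe.2 hb.1)]
  · intro b hb b' hb' hne
    simp only [coe_filter, Set.mem_setOf_eq] at hb hb'
    simp only [Function.onFun, disjoint_left, mem_filter, mem_powersetCard]
    rintro T ⟨⟨hTb, hT⟩, -⟩ ⟨⟨hTb', -⟩, -⟩
    exact hne ((hB.2 T hT).unique ⟨mem_coe.2 hb.1, hTb⟩ ⟨mem_coe.2 hb'.1, hTb'⟩)

/-- Double counting: the `j`-subsets of `Y` against the blocks. -/
theorem sum_choose_inter (B : Finset (Finset α)) (Y : Finset α) (j : ℕ) :
    ∑ b ∈ B, (b ∩ Y).card.choose j =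
      ∑ P ∈ Y.powersetCard j, (B.filter fun b => P ⊆ b).card := by
  classical
  simp only [card_filter]
  rw [sum_comm]
  refine sum_congr rfl fun b _ => ?_
  rw [← card_powersetCard, ← card_filter]
  congr 1
  ext P
  simp only [mem_powersetCard, mem_filter, subset_inter_iff]
  tauto

theorem sum_choose_inter_steiner {B : Finset (Finset α)}
    (hB : Cfsg.IsSteinerSystem 5 8 (B : Set (Finset α))) (hα : Fintype.card α = 24) (Y : Finset α)
    {j : ℕ} (hj : j ≤ 5) :
    (∑ b ∈ B, (b ∩ Y).card.choose j) * (8 - j).choose (5 - j) =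
      Y.card.choose j * (24 - j).choose (5 - j) := by
  rw [sum_choose_inter, sum_mul, ← card_powersetCard]
  refine sum_const_nat fun P hP => ?_
  rw [mem_powersetCard] at hP
  have := card_blocks_through hB (S := P) (by omega)
  rwa [hP.2, hα] at this

/-- The numbers of blocks of an S(5, 8, 24) meeting a 3-set in 3, 2, 1, 0 points. -/
theorem inter_three_counts {B : Finset (Finset α)}
    (hB : Cfsg.IsSteinerSystem 5 8 (B : Set (Finset α))) (hα : Fintype.card α = 24) {Y : Finset α}
    (hY : Y.card = 3) :
    (B.filter fun b => (b ∩ Y).card = 3).card = 21 ∧ (B.filter fun b => (b ∩ Y).card = 2).card = 168 ∧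
      (B.filter fun b => (b ∩ Y).card = 1).card = 360 ∧
        (B.filter fun b => (b ∩ Y).card = 0).card = 210 := by
  have key : ∀ j, ∑ b ∈ B, (b ∩ Y).card.choose j =
      ∑ i ∈ range 4, (B.filter fun b => (b ∩ Y).card = i).card * i.choose j := by
    intro j
    rw [← sum_fiberwise_of_maps_to (g := fun b => (b ∩ Y).card) (t := range 4)
      (f := fun b => (b ∩ Y).card.choose j) (s := B) fun b _ => ?_]
    · refine sum_congr rfl fun i _ => ?_
      rw [sum_const_nat (m := i.choose j) fun b hb => by rw [(mem_filter.1 hb).2]]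
    · have := card_le_card (inter_subset_right : b ∩ Y ⊆ Y)
      rw [mem_range]; omega
  have h0 := sum_choose_inter_steiner hB hα Y (j := 0) (by norm_num)
  have h1 := sum_choose_inter_steiner hB hα Y (j := 1) (by norm_num)
  have h2 := sum_choose_inter_steiner hB hα Y (j := 2) (by norm_num)
  have h3 := sum_choose_inter_steiner hB hα Y (j := 3) (by norm_num)
  rw [key, hY] at h0 h1 h2 h3
  simp only [sum_range_succ, sum_range_zero, Nat.choose] at h0 h1 h2 h3
  omega

end Cfsg.Agent.Lib.Design
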