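import Cfsg.Agent.Lib.Design.WittModel
import Cfsg.Agent.Lib.Golay.Simple
import Cfsg.Agent.Lib.Golay.Sextet

/-!
Automorphism groups of the large Witt systems: they are the group of the Golay code, its point
stabiliser, and its stabiliser of a pair of points.
-/

set_option autoImplicit false

namespace Cfsg.Agent.Lib.WittAut

open Cfsg Finset
open scoped symmDiff Pointwise

variable {α : Type*} [Fintype α] [DecidableEq α]

theorem mem_aut_iff {B : Set (Finset α)} {σ : Equiv.Perm α} :
    σ ∈ setSystemAut B ↔ ∀ s ∈ B, s.image σ ∈ B := by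
  rw [show σ ∈ setSystemAut B ↔ ∀ s ∈ B, σ • s ∈ B from
    MulAction.mem_stabilizer_set' (Set.toFinite _)]
  rfl

theorem M24_mem_octads_iff {g : Equiv.Perm GolayPt} (hg : g ∈ M24) {o : Finset GolayPt} :
    g • o ∈ octads ↔ o ∈ octads := by
  refine ⟨fun h => ?_, Golay.M24_octad hg⟩
  have := Golay.M24_octad (inv_mem hg) h
  rwa [inv_smul_smul] at this

/-! ### S(5, 8, 24) -/

theorem mem_aut24 {B : Set (Finset α)} {e : α ≃ GolayPt}
    (he : ∀ s : Finset α, s ∈ B ↔ s.image e ∈ octads) (σ : Equiv.Perm α) :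
    σ ∈ setSystemAut B ↔ e.permCongr σ ∈ M24 := by
  rw [Golay.M24_eq_setSystemAut_octads, mem_aut_iff, mem_aut_iff]
  have key : ∀ s : Finset α, (s.image e).image (e.permCongr σ) = (s.image σ).image e := fun s => by
    rw [image_image, image_image]
    exact image_congr fun x _ => by simp [Equiv.permCongr_apply]
  constructor
  · intro h o ho
    obtain ⟨s, rfl⟩ : ∃ s : Finset α, s.image e = o :=
      ⟨o.image e.symm, by simp [image_image]⟩
    rw [key]
    exact (he _).1 (h s ((he s).2 ho))
  · intro h s hs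
    rw [he, ← key]
    exact h _ ((he s).1 hs)

/-- The automorphism group of an S(5, 8, 24) is the group of the code. -/
theorem aut24 {B : Set (Finset α)} {e : α ≃ GolayPt}
    (he : ∀ s : Finset α, s ∈ B ↔ s.image e ∈ octads) :
    ∃ φ : setSystemAut B ≃* M24, ∀ (g : setSystemAut B) (x : α),
      (φ g : Equiv.Perm GolayPt) (e x) = e ((g : Equiv.Perm α) x) := by
  refine ⟨{
    toFun := fun g => ⟨e.permCongr g.1, (mem_aut24 he g.1).1 g.2⟩
    invFun := fun g => ⟨e.symm.permCongr g.1, (mem_aut24 he _).2 (by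
      convert g.2 using 1
      ext p; simp [Equiv.permCongr_apply])⟩
    left_inv := fun g => Subtype.ext (Equiv.ext fun x => by simp [Equiv.permCongr_apply])
    right_inv := fun g => Subtype.ext (Equiv.ext fun x => by simp [Equiv.permCongr_apply])
    map_mul' := fun g h => Subtype.ext (Equiv.ext fun x => by simp [Equiv.permCongr_apply]) },
    fun g x => by simp [Equiv.permCongr_apply]⟩

/-! ### Extending automorphisms of the smaller systems -/

/-- The embedding of a point set. -/
def lift1 (e : Option α ≃ GolayPt) (s : Finset α) : Finset GolayPt := (insertNone s).image e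

theorem lift1_image (e : Option α ≃ GolayPt) (σ : Equiv.Perm α) (s : Finset α) :
    e.permCongr σ.optionCongr • lift1 e s = lift1 e (s.image σ) := by
  rw [Golay.smul_finset_eq_image, lift1, lift1, image_image]
  ext p
  simp only [mem_image, Function.comp_apply, Equiv.permCongr_apply, Equiv.symm_apply_apply]
  constructor
  · rintro ⟨(_ | a), ha, rfl⟩
    · exact ⟨none, none_mem_insertNone, rfl⟩
    · exact ⟨some (σ a), some_mem_insertNone.2 (mem_image_of_mem σ (some_mem_insertNone.1 ha)), rfl⟩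
  · rintro ⟨(_ | a), ha, rfl⟩
    · exact ⟨none, none_mem_insertNone, rfl⟩
    · obtain ⟨b, hb, rfl⟩ := mem_image.1 (some_mem_insertNone.1 ha)
      exact ⟨some b, some_mem_insertNone.2 hb, rfl⟩

theorem octads_lift1 {e : Option α ≃ GolayPt} {o : Finset GolayPt} (ho : e none ∈ o) :
    ∃ s : Finset α, lift1 e s = o := by
  refine ⟨eraseNone (o.image e.symm), ?_⟩
  have : none ∈ o.image e.symm := mem_image.2 ⟨_, ho, by simp⟩
  rw [lift1, ← WittModel.eq_insertNone this, image_image]
  simp

/-- An automorphism of an S(4, 7, 23) extends to the code. -/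
theorem ext23 {B : Set (Finset α)} {e : Option α ≃ GolayPt}
    (he : ∀ s : Finset α, s ∈ B ↔ lift1 e s ∈ octads) {σ : Equiv.Perm α}
    (hσ : σ ∈ setSystemAut B) : e.permCongr σ.optionCongr ∈ M24 := by
  set g := e.permCongr σ.optionCongr with hg
  have hthrough : ∀ o ∈ octads, e none ∈ o → g • o ∈ octads := by
    intro o ho hmem
    obtain ⟨s, rfl⟩ := octads_lift1 hmem
    rw [hg, lift1_image, ← he]
    exact mem_aut_iff.1 hσ s ((he s).2 ho)
  rw [Golay.M24_eq_setSystemAut_octads, mem_aut_iff]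
  intro o ho
  show g • o ∈ octads
  by_cases hmem : e none ∈ o
  · exact hthrough o ho hmem
  have h8 := Golay.octad_card ho
  obtain ⟨t, hto, ht⟩ := exists_subset_card_eq (s := o) (n := 4) (by omega)
  obtain ⟨b, ⟨hb, hsub⟩, -⟩ := Golay.octads_steiner.2 (insert (e none) t)
    (by rw [card_insert_of_notMem fun h => hmem (hto h), ht])
  have hne : o ≠ b := fun h => hmem (h ▸ hsub (mem_insert_self _ _))
  have h4 : (o ∩ b).card = 4 := by
    have hle : 4 ≤ (o ∩ b).card := ht ▸ card_le_card (subset_inter hto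
      ((subset_insert _ _).trans hsub))
    rcases Golay.octad_inter_cases ho hb hne with h | h | h <;> omega
  have hc := Golay.octad_symmDiff ho hb h4
  have hcmem : e none ∈ o ∆ b := mem_symmDiff.2 (Or.inr ⟨hsub (mem_insert_self _ _), hmem⟩)
  have e1 : g • o = (g • (o ∆ b)) ∆ (g • b) := by
    rw [← Golay.smul_symmDiff_finset, symmDiff_symmDiff_cancel_right]
  rw [Golay.mem_octads_iff, card_smul_finset, h8, e1]
  exact ⟨((Golay.mem_octads_iff.1 (hthrough _ hc hcmem)).1.symmDiff
    (Golay.mem_octads_iff.1 (hthrough _ hb (hsub (mem_insert_self _ _)))).1), rfl⟩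

theorem removeNone_mem {B : Set (Finset α)} {e : Option α ≃ GolayPt}
    (he : ∀ s : Finset α, s ∈ B ↔ lift1 e s ∈ octads) {g : Equiv.Perm GolayPt} (hg : g ∈ M24)
    (hfix : g (e none) = e none) :
    (e.symm.permCongr g).removeNone ∈ setSystemAut B := by
  rw [mem_aut_iff]
  intro s hs
  have hE : e.symm.permCongr g none = none := by simp [Equiv.permCongr_apply, hfix]
  rw [he, lift1, ← WittModel.image_insertNone _ hE]
  have : ((insertNone s).image (e.symm.permCongr g)).image e = g • lift1 e s := by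
    rw [Golay.smul_finset_eq_image, lift1, image_image, image_image]
    exact image_congr fun x _ => by simp [Equiv.permCongr_apply]
  rw [this]
  exact Golay.M24_octad hg ((he s).1 hs)

theorem optionCongr_removeNone {E : Equiv.Perm (Option α)} (hE : E none = none) :
    (E.removeNone).optionCongr = E := by
  refine Equiv.ext fun x => ?_
  cases x with
  | none => simp [hE]
  | some a =>
    simp only [Equiv.optionCongr_apply, Option.map_some]
    refine E.removeNone_some ?_
    cases h : E (some a) with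
    | none => exact absurd (E.injective (h.trans hE.symm)) (by simp)
    | some b => exact ⟨b, rfl⟩

/-- The automorphism group of an S(4, 7, 23) is a point stabiliser. -/
theorem aut23 {B : Set (Finset α)} {e : Option α ≃ GolayPt}
    (he : ∀ s : Finset α, s ∈ B ↔ lift1 e s ∈ octads) :
    ∃ φ : setSystemAut B ≃* MulAction.stabilizer M24 (e none),
      ∀ (g : setSystemAut B) (x : α),
        ((φ g).1 : Equiv.Perm GolayPt) (e (some x)) = e (some ((g : Equiv.Perm α) x)) := by
  refine ⟨{
    toFun := fun g => ⟨⟨e.permCongr (g.1).optionCongr, ext23 he g.2⟩, by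
      rw [MulAction.mem_stabilizer_iff]
      show e.permCongr (g.1).optionCongr (e none) = e none
      simp [Equiv.permCongr_apply]⟩
    invFun := fun g => ⟨(e.symm.permCongr g.1.1).removeNone,
      removeNone_mem he g.1.2 g.2⟩
    left_inv := fun g => Subtype.ext (by
      show (e.symm.permCongr (e.permCongr (g.1).optionCongr)).removeNone = g.1
      rw [show e.symm.permCongr (e.permCongr (g.1).optionCongr) = (g.1).optionCongr by
        ext x; simp [Equiv.permCongr_apply]]
      exact Equiv.removeNone_optionCongr _)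
    right_inv := fun g => Subtype.ext (Subtype.ext (by
      have hfix : (g.1.1 : Equiv.Perm GolayPt) (e none) = e none := g.2
      show e.permCongr ((e.symm.permCongr g.1.1).removeNone).optionCongr = g.1.1
      rw [optionCongr_removeNone (by simp [Equiv.permCongr_apply, hfix])]
      ext x; simp [Equiv.permCongr_apply]))
    map_mul' := fun g h => Subtype.ext (Subtype.ext (Equiv.ext fun p => by
      obtain ⟨x, rfl⟩ := e.surjective p
      cases x <;> simp [Equiv.permCongr_apply])) },
    fun g x => by simp [Equiv.permCongr_apply]⟩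

/-! ### S(3, 6, 22) -/

/-- The two base points. -/
noncomputable def ptA : GolayPt := Golay.pt ⟨23, by norm_num⟩

/-- The second base point. -/
noncomputable def ptB : GolayPt := Golay.pt ⟨0, by norm_num⟩

theorem ptA_ne_ptB : ptA ≠ ptB := fun h => by
  have := congrArg (fun p => (Golay.idx p).val) h
  simp only [ptA, ptB, Golay.idx_pt] at this
  omega

/-- Octads through both base points and the whole set, spanning the words with equal values there,
followed by one octad through the first point only. -/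
def spanL : List ℕ := [16777215, 8391797, 8398155, 8412681, 8421811, 8471941, 8524371, 8657159,
  8922769, 9440193, 10486557]

def oneOct : ℕ := 8394986

def spanCoef : List ℕ := [1809, 1731, 3429, 561, 2922, 3788, 2669, 990, 1978, 149, 3632, 2957]

theorem span_check :
    (Golay.genRows.zip spanCoef).all (fun x => Golay.combine (spanL ++ [oneOct]) x.2 == x.1) = true ∧
    Golay.genRows.length = spanCoef.length ∧
    spanL.all (fun m => Golay.isCodeMask m && (m == 2 ^ 24 - 1 ||
      (Golay.popCount m == 8 && m.testBit 23 && m.testBit 0))) = true ∧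
    (Golay.isCodeMask oneOct && oneOct.testBit 23 && !oneOct.testBit 0) = true := by
  decide +kernel

/-- A property closed under symmetric difference holds for all code sets once it holds on the
spanning list and the extra octad. -/
theorem code_induction {P : Finset GolayPt → Prop} (h0 : P ∅)
    (hd : ∀ s t, P s → P t → P (s ∆ t)) (hL : ∀ m ∈ spanL, P (Golay.ptsOf m))
    (h1 : P (Golay.ptsOf oneOct)) {s : Finset GolayPt} (hs : Golay.IsCodeSet s) : P s := by
  have hrow : ∀ g ∈ Golay.genRows, P (Golay.ptsOf g) := by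
    intro g hg
    obtain ⟨i, hi, rfl⟩ := List.mem_iff_getElem.1 hg
    have hi' : i < spanCoef.length := span_check.2.1 ▸ hi
    have h : Golay.combine (spanL ++ [oneOct]) spanCoef[i] = Golay.genRows[i] :=
      beq_iff_eq.1 (List.all_eq_true.1 span_check.1 (Golay.genRows[i], spanCoef[i])
        (List.mem_iff_getElem.2 ⟨i, by simp [hi, hi'], List.getElem_zip⟩))
    refine (congrArg (fun m => P (Golay.ptsOf m)) h).mp ?_
    refine Golay.combine_mem (P := fun m => P (Golay.ptsOf m)) (by rwa [Golay.ptsOf_zero])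
      (fun a b ha hb => by rw [Golay.ptsOf_xor]; exact hd _ _ ha hb) _ (fun m hm => ?_) _
    rcases List.mem_append.1 hm with hm | hm
    · exact hL m hm
    · rw [List.mem_singleton.1 hm]; exact h1
  obtain ⟨x, -, rfl⟩ := hs.exists_eq
  exact Golay.combine_mem (P := fun m => P (Golay.ptsOf m)) (by rwa [Golay.ptsOf_zero])
    (fun a b ha hb => by rw [Golay.ptsOf_xor]; exact hd _ _ ha hb) _ hrow x

theorem golay_isGolay : BinCode24.IsGolay golayCode where
  card_pts := Golay.card_golayPt
  dim := Golay.finrank_golayCode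
  orth := fun v hv w hw => Golay.dot_eq_zero hv hw
  min := fun w hw hne => by
    have := hammingNorm_pos_iff.2 hne
    rcases Golay.hammingNorm_cases hw with h | h | h | h | h <;> omega

/-- A set meeting every code set evenly is a code set. -/
theorem isCodeSet_of_even {Y : Finset GolayPt}
    (h : ∀ s, Golay.IsCodeSet s → Even (s ∩ Y).card) : Golay.IsCodeSet Y := by
  have := BinCode24.mem_of_orth_octads golay_isGolay (v := BinCode24.word Y) fun w hw _ => by
    rw [BinCode24.dot_word, BinCode24.supp_word, ZMod.natCast_eq_zero_iff_even]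
    exact h _ (Golay.mem_golayCode_iff.1 hw)
  rwa [Golay.mem_golayCode_iff, show support₂ (BinCode24.word Y) = Y from BinCode24.supp_word Y]
    at this

/-- A property closed under symmetric difference holds for the code sets with equal values on
the pair once it holds on the spanning list. -/
theorem pair_induction {P : Finset GolayPt → Prop} (h0 : P ∅)
    (hd : ∀ s t, P s → P t → P (s ∆ t)) (hL : ∀ m ∈ spanL, P (Golay.ptsOf m))
    (hiffL : ∀ m ∈ spanL, ptA ∈ Golay.ptsOf m ↔ ptB ∈ Golay.ptsOf m)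
    (hA : ptA ∈ Golay.ptsOf oneOct) (hB : ptB ∉ Golay.ptsOf oneOct)
    {s : Finset GolayPt} (hs : Golay.IsCodeSet s) (hiff : ptA ∈ s ↔ ptB ∈ s) : P s := by
  refine (code_induction (P := fun s => ((ptA ∈ s ↔ ptB ∈ s) → P s) ∧
    (¬(ptA ∈ s ↔ ptB ∈ s) → P (s ∆ Golay.ptsOf oneOct))) ?_ ?_ ?_ ?_ hs).1 hiff
  · exact ⟨fun _ => h0, fun h => absurd (by simp) h⟩
  · intro u v hu hv
    have hdiff : (ptA ∈ u ∆ v ↔ ptB ∈ u ∆ v) ↔
        ((ptA ∈ u ↔ ptB ∈ u) ↔ (ptA ∈ v ↔ ptB ∈ v)) := by
      simp only [mem_symmDiff]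
      by_cases a : ptA ∈ u <;> by_cases b : ptB ∈ u <;> by_cases c : ptA ∈ v <;>
        by_cases d : ptB ∈ v <;> simp [a, b, c, d]
    by_cases hu' : ptA ∈ u ↔ ptB ∈ u <;> by_cases hv' : ptA ∈ v ↔ ptB ∈ v
    · exact ⟨fun _ => hd _ _ (hu.1 hu') (hv.1 hv'), fun h => absurd (hdiff.2 (iff_of_true hu' hv')) h⟩
    · refine ⟨fun h => absurd ((hdiff.1 h).1 hu') hv', fun _ => ?_⟩
      rw [symmDiff_assoc]
      exact hd _ _ (hu.1 hu') (hv.2 hv')
    · refine ⟨fun h => absurd ((hdiff.1 h).2 hv') hu', fun _ => ?_⟩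
      rw [symmDiff_comm u v, symmDiff_assoc]
      exact hd _ _ (hv.1 hv') (hu.2 hu')
    · refine ⟨fun _ => ?_, fun h => absurd (hdiff.2 (iff_of_false hu' hv')) h⟩
      have := hd _ _ (hu.2 hu') (hv.2 hv')
      rwa [symmDiff_comm v, symmDiff_assoc, symmDiff_symmDiff_cancel_left] at this
  · intro m hm
    exact ⟨fun _ => hL m hm, fun h => absurd (hiffL m hm) h⟩
  · refine ⟨fun h => absurd (h.1 hA) hB, fun _ => ?_⟩
    rw [symmDiff_self, bot_eq_empty]
    exact h0

theorem mem_smul_fix {g : Equiv.Perm GolayPt} {p : GolayPt} (hp : g p = p) (s : Finset GolayPt) :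
    p ∈ g • s ↔ p ∈ s := by
  rw [← Finset.inv_smul_mem_iff, Equiv.Perm.smul_def, Equiv.Perm.inv_eq_iff_eq.2 hp.symm]

theorem swap_smul_mem (s : Finset GolayPt) (p : GolayPt) :
    p ∈ Equiv.swap ptA ptB • s ↔ Equiv.swap ptA ptB p ∈ s := by
  rw [← Finset.inv_smul_mem_iff, Equiv.Perm.smul_def, Equiv.swap_inv]

theorem swap_fix {s : Finset GolayPt} (h : ptA ∈ s ↔ ptB ∈ s) : Equiv.swap ptA ptB • s = s := by
  ext p
  rw [swap_smul_mem]
  rcases eq_or_ne p ptA with rfl | hpa
  · rw [Equiv.swap_apply_left]; exact h.symm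
  · rcases eq_or_ne p ptB with rfl | hpb
    · rw [Equiv.swap_apply_right]; exact h
    · rw [Equiv.swap_apply_of_ne_of_ne hpa hpb]

theorem oneOct_props : Golay.IsCodeSet (Golay.ptsOf oneOct) ∧ ptA ∈ Golay.ptsOf oneOct ∧
    ptB ∉ Golay.ptsOf oneOct := by
  have h := span_check.2.2.2
  simp only [Bool.and_eq_true, Bool.not_eq_true'] at h
  refine ⟨Golay.isCodeSet_of_isCodeMask h.1.1, ?_, ?_⟩
  · rw [Golay.mem_ptsOf, ptA, Golay.idx_pt]; exact h.1.2
  · rw [Golay.mem_ptsOf, ptB, Golay.idx_pt]; simp [h.2]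

theorem spanL_props {g : Equiv.Perm GolayPt}
    (hg : ∀ o ∈ octads, ptA ∈ o → ptB ∈ o → g • o ∈ octads) {m : ℕ} (hm : m ∈ spanL) :
    Golay.IsCodeSet (g • Golay.ptsOf m) ∧ (ptA ∈ Golay.ptsOf m ↔ ptB ∈ Golay.ptsOf m) := by
  have h := List.all_eq_true.1 span_check.2.2.1 m hm
  simp only [Bool.and_eq_true, Bool.or_eq_true, beq_iff_eq] at h
  obtain ⟨hc, h | ⟨⟨h8, hb23⟩, hb0⟩⟩ := h
  · have hu : Golay.ptsOf m = univ := by
      ext p; rw [Golay.mem_ptsOf, h, Nat.testBit_two_pow_sub_one]; simp
    rw [hu, smul_finset_univ]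
    exact ⟨Golay.isCodeSet_univ, by simp⟩
  · have hA : ptA ∈ Golay.ptsOf m := by rw [Golay.mem_ptsOf, ptA, Golay.idx_pt]; exact hb23
    have hB : ptB ∈ Golay.ptsOf m := by rw [Golay.mem_ptsOf, ptB, Golay.idx_pt]; exact hb0
    exact ⟨(Golay.mem_octads_iff.1 (hg _ (Golay.mem_octads_iff.2
      ⟨Golay.isCodeSet_of_isCodeMask hc, by rw [Golay.card_ptsOf, h8]⟩) hA hB)).1,
      iff_of_true hA hB⟩

theorem mem_of_span {h : Equiv.Perm GolayPt}
    (h1 : ∀ m ∈ spanL, Golay.IsCodeSet (h • Golay.ptsOf m))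
    (h2 : Golay.IsCodeSet (h • Golay.ptsOf oneOct)) : h ∈ M24 := by
  rw [Golay.mem_M24_iff]
  exact fun s hs => code_induction (P := fun s => Golay.IsCodeSet (h • s))
    (by rw [smul_finset_empty]; exact Golay.isCodeSet_empty)
    (fun s t hs ht => by rw [Golay.smul_symmDiff_finset]; exact hs.symmDiff ht) h1 h2 hs

theorem isCodeSet_of_pair_even {Z : Finset GolayPt}
    (h1 : ∀ s, Golay.IsCodeSet s → (ptA ∈ s ↔ ptB ∈ s) → Even (s ∩ Z).card)
    (h2 : Even (Golay.ptsOf oneOct ∩ Z).card) : Golay.IsCodeSet Z := by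
  obtain ⟨ho, hA, hB⟩ := oneOct_props
  refine isCodeSet_of_even fun s hs => ?_
  by_cases hiff : ptA ∈ s ↔ ptB ∈ s
  · exact h1 s hs hiff
  · have h5 := h1 (s ∆ Golay.ptsOf oneOct) (hs.symmDiff ho) (by
      rw [mem_symmDiff, mem_symmDiff]
      by_cases a : ptA ∈ s <;> by_cases b : ptB ∈ s <;> simp_all)
    have e1 : (s ∆ Golay.ptsOf oneOct) ∩ Z = (s ∩ Z) ∆ (Golay.ptsOf oneOct ∩ Z) := by
      ext p; simp only [mem_inter, mem_symmDiff]; tauto
    have e2 := Golay.card_symmDiff_add (s ∩ Z) (Golay.ptsOf oneOct ∩ Z)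
    rw [e1] at h5
    rw [Nat.even_iff] at h5 h2 ⊢
    omega

/-- A permutation sending octads through the pair to such octads lies in the group, perhaps after
exchanging the pair. -/
theorem ext22_cases {g : Equiv.Perm GolayPt} (hA : g ptA = ptA) (hB : g ptB = ptB)
    (hg : ∀ o ∈ octads, ptA ∈ o → ptB ∈ o → g • o ∈ octads) :
    g ∈ M24 ∨ Equiv.swap ptA ptB * g ∈ M24 := by
  obtain ⟨ho, hoA, hoB⟩ := oneOct_props
  have hL := fun m hm => spanL_props (m := m) hg hm
  have hall : ∀ s, Golay.IsCodeSet s → (ptA ∈ s ↔ ptB ∈ s) → Golay.IsCodeSet (g • s) :=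
    fun s hs hiff => pair_induction (P := fun s => Golay.IsCodeSet (g • s))
      (by rw [smul_finset_empty]; exact Golay.isCodeSet_empty)
      (fun s t hs ht => by rw [Golay.smul_symmDiff_finset]; exact hs.symmDiff ht)
      (fun m hm => (hL m hm).1) (fun m hm => (hL m hm).2) hoA hoB hs hiff
  have hiffg : ∀ u, (ptA ∈ g • u ↔ ptB ∈ g • u) ↔ (ptA ∈ u ↔ ptB ∈ u) := fun u => by
    rw [mem_smul_fix hA, mem_smul_fix hB]
  have hpre : ∀ s, Golay.IsCodeSet s → (ptA ∈ s ↔ ptB ∈ s) →
      ∃ u, Golay.IsCodeSet u ∧ (ptA ∈ u ↔ ptB ∈ u) ∧ g • u = s := by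
    intro s hs hiff
    let W : Set (Finset GolayPt) := {s | Golay.IsCodeSet s ∧ (ptA ∈ s ↔ ptB ∈ s)}
    have hmaps : Set.MapsTo (fun u => g • u) W W :=
      fun u hu => ⟨hall u hu.1 hu.2, (hiffg u).2 hu.2⟩
    obtain ⟨u, hu, e⟩ := (((Set.toFinite W).injOn_iff_bijOn_of_mapsTo hmaps).1
      (MulAction.injective g).injOn).surjOn (show s ∈ W from ⟨hs, hiff⟩)
    exact ⟨u, hu.1, hu.2, e⟩
  set Y := g • Golay.ptsOf oneOct with hY
  have hevW : ∀ s, Golay.IsCodeSet s → (ptA ∈ s ↔ ptB ∈ s) → Even (s ∩ Y).card := by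
    intro s hs hiff
    obtain ⟨u, hu, -, rfl⟩ := hpre s hs hiff
    rw [hY, ← smul_finset_inter, card_smul_finset]
    exact Golay.even_card_inter hu ho
  by_cases hev : Even (Golay.ptsOf oneOct ∩ Y).card
  · exact Or.inl (mem_of_span (fun m hm => (hL m hm).1) (isCodeSet_of_pair_even hevW hev))
  · right
    refine mem_of_span (fun m hm => ?_) ?_
    · rw [mul_smul, swap_fix ((hiffg _).2 (hL m hm).2)]; exact (hL m hm).1
    · rw [mul_smul, ← hY]
      refine isCodeSet_of_pair_even (fun s hs hiff => ?_) ?_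
      · rw [← swap_fix hiff, ← smul_finset_inter, card_smul_finset]
        exact hevW s hs hiff
      · have hYA : ptA ∈ Y := (mem_smul_fix hA _).2 hoA
        have hYB : ptB ∉ Y := fun h => hoB ((mem_smul_fix hB _).1 h)
        have e1 : Golay.ptsOf oneOct ∩ (Equiv.swap ptA ptB • Y)
            = (Golay.ptsOf oneOct ∩ Y).erase ptA := by
          ext p
          rw [mem_inter, mem_erase, mem_inter, swap_smul_mem]
          rcases eq_or_ne p ptA with rfl | hpa
          · simp [Equiv.swap_apply_left, hYB]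
          · rcases eq_or_ne p ptB with rfl | hpb
            · simp [hoB]
            · simp [Equiv.swap_apply_of_ne_of_ne hpa hpb, hpa]
        rw [e1, card_erase_of_mem (mem_inter.2 ⟨hoA, hYA⟩), Nat.even_iff]
        rw [Nat.even_iff] at hev
        omega

end Cfsg.Agent.Lib.WittAut
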