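import Mathlib.Data.Fintype.Powerset
import Mathlib.Combinatorics.Enumerative.DoubleCounting
import Mathlib.Algebra.BigOperators.Ring.Finset
import Mathlib.Algebra.Order.BigOperators.Ring.Finset
import Mathlib.Tactic.Ring
import Mathlib.Tactic.Linarith
import Mathlib.Data.Finset.Card
import Mathlib.Algebra.Group.Action.Defs

/-!
A relation with values 0, 1, 2 on 15 objects satisfying the second-moment identities of the
pairs of a 6-set; the sets of five pairwise related objects then behave like stars.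
-/

set_option autoImplicit false

namespace Cfsg.Agent.Lib.Classes15

open Finset

/-- The identities satisfied by `k`. -/
structure Rel15 {Q : Type*} [Fintype Q] [DecidableEq Q] (k : Q → Q → ℤ) : Prop where
  card : Fintype.card Q = 15
  self : ∀ x, k x x = 2
  nonneg : ∀ x y, 0 ≤ k x y
  le_one : ∀ x y, x ≠ y → k x y ≤ 1
  symm : ∀ x y, k x y = k y x
  row : ∀ x, ∑ y, k x y = 10
  sq : ∀ x z, ∑ y, k x y * k z y = 4 + 4 * k x z

variable {Q : Type*} [Fintype Q] [DecidableEq Q] {k : Q → Q → ℤ} (h : Rel15 k)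
include h

theorem ne_of_lt_two {x y : Q} (hk : k x y < 2) : x ≠ y := fun e => by
  rw [e, h.self] at hk; omega

theorem cases3 (x y : Q) : (x = y ∧ k x y = 2) ∨ (x ≠ y ∧ k x y = 0) ∨ (x ≠ y ∧ k x y = 1) := by
  rcases eq_or_ne x y with rfl | hne
  · exact Or.inl ⟨rfl, h.self x⟩
  · have := h.nonneg x y
    have := h.le_one x y hne
    rcases (by omega : k x y = 0 ∨ k x y = 1) with e | e
    · exact Or.inr (Or.inl ⟨hne, e⟩)
    · exact Or.inr (Or.inr ⟨hne, e⟩)

/-- Number of common zeros. -/
theorem card_zero_zero {x z : Q} (hne : x ≠ z) :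
    ((univ.filter fun y => k x y = 0 ∧ k z y = 0).card : ℤ) = 1 + 2 * k x z := by
  have e : ∀ y, (if k x y = 0 ∧ k z y = 0 then (1 : ℤ) else 0)
      = 1 - (k x y - if y = x then 1 else 0) - (k z y - if y = z then 1 else 0)
        + (k x y * k z y - (if y = x then k x z else 0) - (if y = z then k x z else 0)) := by
    intro y
    by_cases e1 : y = x
    · rw [e1, h.self, h.symm z x]
      rcases cases3 h x z with ⟨e, -⟩ | ⟨-, h2⟩ | ⟨-, h2⟩
      · exact absurd e hne
      all_goals simp [h2, hne]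
    by_cases e2 : y = z
    · rw [e2, h.self]
      rcases cases3 h x z with ⟨e, -⟩ | ⟨-, h2⟩ | ⟨-, h2⟩
      · exact absurd e hne
      all_goals simp [h2, Ne.symm hne]
    rcases cases3 h x y with ⟨e, -⟩ | ⟨-, h1⟩ | ⟨-, h1⟩
    · exact absurd e.symm e1
    all_goals
      rcases cases3 h z y with ⟨e, -⟩ | ⟨-, h2⟩ | ⟨-, h2⟩
      · exact absurd e.symm e2
      all_goals simp [h1, h2, e1, e2]
  have hs := sum_congr (s₁ := (univ : Finset Q)) rfl (fun y _ => e y)
  rw [sum_boole] at hs
  simp only [sum_add_distrib, sum_sub_distrib, sum_ite_eq', mem_univ, if_true, sum_const,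
    card_univ, h.card, h.row, h.sq] at hs
  rw [hs]
  simp
  ring

theorem card_ones (x : Q) : ((univ.filter fun y => k x y = 1).card : ℤ) = 8 := by
  have e : ∀ y, (if k x y = 1 then (1 : ℤ) else 0) = k x y - if y = x then 2 else 0 := by
    intro y
    rcases cases3 h x y with ⟨rfl, h1⟩ | ⟨n1, h1⟩ | ⟨n1, h1⟩
    · simp [h1]
    all_goals simp [h1, Ne.symm n1]
  have hs := sum_congr (s₁ := (univ : Finset Q)) rfl (fun y _ => e y)
  rw [sum_boole, sum_sub_distrib, h.row, sum_ite_eq', if_pos (mem_univ x)] at hs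
  omega

theorem card_one_one {x z : Q} (hk : k x z = 1) :
    ((univ.filter fun y => k x y = 1 ∧ k z y = 1).card : ℤ) = 4 := by
  have hne : x ≠ z := ne_of_lt_two h (by omega)
  have e : ∀ y, (if k x y = 1 ∧ k z y = 1 then (1 : ℤ) else 0)
      = k x y * k z y - (if y = x then 2 else 0) - (if y = z then 2 else 0) := by
    intro y
    by_cases e1 : y = x
    · rw [e1, h.self, h.symm z x]
      rcases cases3 h x z with ⟨e, -⟩ | ⟨-, h2⟩ | ⟨-, h2⟩
      · exact absurd e hne
      all_goals simp_all
    by_cases e2 : y = z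
    · rw [e2, h.self]
      rcases cases3 h x z with ⟨e, -⟩ | ⟨-, h2⟩ | ⟨-, h2⟩
      · exact absurd e hne
      all_goals simp_all [Ne.symm hne]
    rcases cases3 h x y with ⟨e, -⟩ | ⟨-, h1⟩ | ⟨-, h1⟩
    · exact absurd e.symm e1
    all_goals
      rcases cases3 h z y with ⟨e, -⟩ | ⟨-, h2⟩ | ⟨-, h2⟩
      · exact absurd e.symm e2
      all_goals simp [h1, h2, e1, e2]
  have hs := sum_congr (s₁ := (univ : Finset Q)) rfl (fun y _ => e y)
  rw [sum_boole] at hs
  simp only [sum_sub_distrib, sum_ite_eq', mem_univ, if_true, h.sq, hk] at hs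
  omega

theorem unique_zero {x z a b : Q} (hk : k x z = 0) (h1 : k x a = 0) (h2 : k z a = 0)
    (h3 : k x b = 0) (h4 : k z b = 0) : a = b := by
  have hc := card_zero_zero h (ne_of_lt_two h (x := x) (y := z) (by omega))
  rw [hk] at hc
  exact card_le_one.1 (le_of_eq (by omega : (univ.filter fun y => k x y = 0 ∧ k z y = 0).card = 1))
    a (by simp [h1, h2]) b (by simp [h3, h4])

theorem exists_third {x z : Q} (hk : k x z = 0) : ∃ y, k x y = 0 ∧ k z y = 0 := by
  have hc := card_zero_zero h (ne_of_lt_two h (x := x) (y := z) (by omega))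
  rw [hk] at hc
  obtain ⟨y, hy⟩ := card_pos.1 (by omega : 0 < (univ.filter fun y => k x y = 0 ∧ k z y = 0).card)
  exact ⟨y, (mem_filter.1 hy).2⟩

/-- Three mutually zero objects sum to 2. -/
theorem line_sum {x y t : Q} (h1 : k x y = 0) (h2 : k x t = 0) (h3 : k y t = 0) (z : Q) :
    k x z + k y z + k t z = 2 := by
  have hs : ∑ z, (k x z + k y z + k t z - 2) ^ 2 = 0 := by
    have e : ∀ z, (k x z + k y z + k t z - 2) ^ 2 = k x z * k x z + k y z * k y z + k t z * k t z
        + 2 * (k x z * k y z) + 2 * (k x z * k t z) + 2 * (k y z * k t z)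
        - 4 * k x z - 4 * k y z - 4 * k t z + 4 := fun z => by ring
    simp only [e, sum_add_distrib, sum_sub_distrib, ← mul_sum, h.sq, h.row, h.self, sum_const,
      card_univ, h.card, h1, h2, h3]
    norm_num
  have := (sum_eq_zero_iff_of_nonneg fun z _ => sq_nonneg _).1 hs z (mem_univ z)
  rw [sq_eq_zero_iff] at this
  omega

theorem ones_of_common {x u a b : Q} (hk : k x u = 1) (ha : k x a = 0) (ha' : k u a = 0)
    (hb : k x b = 0) (hb' : k u b = 0) (hab : a ≠ b) : k a b = 1 := by
  rcases cases3 h a b with ⟨e, -⟩ | ⟨-, e⟩ | ⟨-, e⟩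
  · exact absurd e hab
  · have := unique_zero h e (a := x) (b := u) (by rw [h.symm]; exact ha) (by rw [h.symm]; exact hb)
      (by rw [h.symm]; exact ha') (by rw [h.symm]; exact hb')
    rw [this, h.self] at hk; omega
  · exact e

/-- A third object with the same common zeros. -/
theorem exists_twin {x u a b c : Q} (hk : k x u = 1) (ha : k x a = 0) (ha' : k u a = 0)
    (hb : k x b = 0) (hb' : k u b = 0) (hc : k x c = 0) (hc' : k u c = 0) (hab : a ≠ b)
    (hac : a ≠ c) (hbc : b ≠ c) :
    ∃ t, t ≠ x ∧ t ≠ u ∧ k a t = 0 ∧ k b t = 0 ∧ k c t = 0 := by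
  have s := h.symm
  have kab := ones_of_common h hk ha ha' hb hb' hab
  have kac := ones_of_common h hk ha ha' hc hc' hac
  have kbc := ones_of_common h hk hb hb' hc hc' hbc
  obtain ⟨y, hy1, hy2⟩ := exists_third h ha'
  obtain ⟨m, hm1, hm2⟩ := exists_third h hb
  have Ly := line_sum h ha' hy1 hy2
  have Lm := line_sum h hb hm1 hm2
  have kyx : k y x = 1 := by have := Ly x; rw [s u x, s a x] at this; omega
  have kam : k m a = 1 := by have := Lm a; rw [s b a] at this; omega
  have kum : k m u = 1 := by have := Lm u; rw [s b u] at this; omega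
  have kcy : k y c = 1 := by have := Ly c; omega
  have kcm : k m c = 1 := by have := Lm c; omega
  have kby : k y b = 1 := by have := Ly b; omega
  have kym : k y m = 0 := by have := Ly m; rw [s u m, s a m] at this; omega
  obtain ⟨P, hP1, hP2⟩ := exists_third h kym
  have LP := line_sum h kym hP1 hP2
  have kPx : k P x = 1 := by have := LP x; rw [s m x] at this; omega
  have kPu : k P u = 1 := by have := LP u; rw [s y u] at this; omega
  have kPa : k P a = 1 := by have := LP a; rw [s y a] at this; omega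
  have kPb : k P b = 1 := by have := LP b; rw [s m b] at this; omega
  have kPc : k c P = 0 := by have := LP c; rw [s P c] at this; omega
  obtain ⟨t, ht1, ht2⟩ := exists_third h kPc
  have Lt := line_sum h kPc ht1 ht2
  refine ⟨t, ?_, ?_, ?_, ?_, ht1⟩
  · rintro rfl; omega
  · rintro rfl; omega
  · have := Lt a; rw [s c a, s t a] at this; omega
  · have := Lt b; rw [s c b, s t b] at this; omega

/-- Sets of five objects pairwise of value 1. -/
def IsStar (k : Q → Q → ℤ) (K : Finset Q) : Prop :=
  K.card = 5 ∧ ∀ x ∈ K, ∀ y ∈ K, x ≠ y → k x y = 1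

theorem existsUnique_star {x u : Q} (hk : k x u = 1) :
    ∃! K : Finset Q, IsStar k K ∧ x ∈ K ∧ u ∈ K := by
  have s := h.symm
  have hxu : x ≠ u := ne_of_lt_two h (by omega)
  have h3 := card_zero_zero h hxu
  rw [hk] at h3
  obtain ⟨a, b, c, hab, hac, hbc, hZ⟩ := card_eq_three.1
    (by omega : (univ.filter fun y => k x y = 0 ∧ k u y = 0).card = 3)
  have mem : ∀ y, (y = a ∨ y = b ∨ y = c) → k x y = 0 ∧ k u y = 0 := by
    intro y hy
    have : y ∈ univ.filter fun y => k x y = 0 ∧ k u y = 0 := by rw [hZ]; simp [hy]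
    exact (mem_filter.1 this).2
  obtain ⟨ha, ha'⟩ := mem a (Or.inl rfl)
  obtain ⟨hb, hb'⟩ := mem b (Or.inr (Or.inl rfl))
  obtain ⟨hc, hc'⟩ := mem c (Or.inr (Or.inr rfl))
  obtain ⟨t, htx, htu, hta, htb, htc⟩ := exists_twin h hk ha ha' hb hb' hc hc' hab hac hbc
  have kab := ones_of_common h hk ha ha' hb hb' hab
  have kac := ones_of_common h hk ha ha' hc hc' hac
  have kbc := ones_of_common h hk hb hb' hc hc' hbc
  have one : ∀ z, z ≠ t → k z a = 0 → k z b = 0 → k z t = 1 := by
    intro z hz h1 h2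
    rcases cases3 h z t with ⟨e, -⟩ | ⟨-, e⟩ | ⟨-, e⟩
    · exact absurd e hz
    · exact absurd (unique_zero h e h1 (by rw [s]; exact hta) h2 (by rw [s]; exact htb)) hab
    · exact e
  have kxt := one x (Ne.symm htx) ha hb
  have kut := one u (Ne.symm htu) ha' hb'
  obtain ⟨p, hp1, hp2⟩ := exists_third h hta
  obtain ⟨q, hq1, hq2⟩ := exists_third h htb
  obtain ⟨r, hr1, hr2⟩ := exists_third h htc
  have Lp := line_sum h hta hp1 hp2
  have Lq := line_sum h htb hq1 hq2
  have Lr := line_sum h htc hr1 hr2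
  have pq : ∀ {a' b' p' q' : Q}, k a' b' = 1 → k a' t = 0 → k b' t = 0 → k a' p' = 0 →
      k t p' = 0 → k b' q' = 0 → k t q' = 0 → p' ≠ q' ∧ k p' q' = 1 := by
    intro a' b' p' q' n h1 h2 h4 h5 h6 h7
    have hne : p' ≠ q' := by
      rintro rfl
      have := unique_zero h h5 (a := a') (b := b') (by rw [s]; exact h1) (by rw [s]; exact h4)
        (by rw [s]; exact h2) (by rw [s]; exact h6)
      rw [this, h.self] at n; omega
    refine ⟨hne, ?_⟩
    rcases cases3 h p' q' with ⟨e, -⟩ | ⟨-, e⟩ | ⟨-, e⟩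
    · exact absurd e hne
    · have := unique_zero h h5 (a := a') (b := q') (by rw [s]; exact h1) (by rw [s]; exact h4) h7 e
      rw [this, s, h6] at n; omega
    · exact e
  obtain ⟨npq, kpq⟩ := pq kab hta htb hp1 hp2 hq1 hq2
  obtain ⟨npr, kpr⟩ := pq kac hta htc hp1 hp2 hr1 hr2
  obtain ⟨nqr, kqr⟩ := pq kbc htb htc hq1 hq2 hr1 hr2
  have kpx : k p x = 1 := by have := Lp x; rw [s a x, s t x] at this; omega
  have kqx : k q x = 1 := by have := Lq x; rw [s b x, s t x] at this; omega
  have krx : k r x = 1 := by have := Lr x; rw [s c x, s t x] at this; omega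
  have kpu : k p u = 1 := by have := Lp u; rw [s a u, s t u] at this; omega
  have kqu : k q u = 1 := by have := Lq u; rw [s b u, s t u] at this; omega
  have kru : k r u = 1 := by have := Lr u; rw [s c u, s t u] at this; omega
  have hsub : ({t, p, q, r} : Finset Q) ⊆ univ.filter fun y => k x y = 1 ∧ k u y = 1 := by
    intro y hy
    simp only [mem_insert, mem_singleton] at hy
    rcases hy with rfl | rfl | rfl | rfl <;>
      simp only [mem_filter, mem_univ, true_and, s x, s u] <;> constructor <;>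
      first | assumption | (rw [s]; assumption)
  have ntp : t ≠ p := ne_of_lt_two h (by omega)
  have ntq : t ≠ q := ne_of_lt_two h (by omega)
  have ntr : t ≠ r := ne_of_lt_two h (by omega)
  have hfour : univ.filter (fun y => k x y = 1 ∧ k u y = 1) = {t, p, q, r} := by
    refine (eq_of_subset_of_card_le hsub (le_of_eq ?_)).symm
    rw [card_eq_four.2 ⟨t, p, q, r, ntp, ntq, ntr, npq, npr, nqr, rfl⟩]
    have := card_one_one h hk
    omega
  have npx : p ≠ x := ne_of_lt_two h (by omega)
  have nqx : q ≠ x := ne_of_lt_two h (by omega)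
  have nrx : r ≠ x := ne_of_lt_two h (by omega)
  have npu : p ≠ u := ne_of_lt_two h (by omega)
  have nqu : q ≠ u := ne_of_lt_two h (by omega)
  have nru : r ≠ u := ne_of_lt_two h (by omega)
  have hK : ({x, u, p, q, r} : Finset Q).card = 5 := by
    simp [hxu, npq, npr, nqr, Ne.symm npx, Ne.symm nqx, Ne.symm nrx, Ne.symm npu, Ne.symm nqu,
      Ne.symm nru]
  refine ⟨{x, u, p, q, r}, ⟨⟨hK, ?_⟩, by simp, by simp⟩, ?_⟩
  · intro y hy z hz hne
    simp only [mem_insert, mem_singleton] at hy hz
    rcases hy with rfl | rfl | rfl | rfl | rfl <;> rcases hz with rfl | rfl | rfl | rfl | rfl <;>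
      first | exact absurd rfl hne | assumption | (rw [s]; assumption)
  · rintro K' ⟨⟨hc5, hK'⟩, hx, hu⟩
    have hin : ∀ y ∈ K', y ≠ x → y ≠ u → y = t ∨ y = p ∨ y = q ∨ y = r := by
      intro y hy h1 h2
      have : y ∈ univ.filter fun y => k x y = 1 ∧ k u y = 1 := by
        simp [hK' x hx y hy (Ne.symm h1), hK' u hu y hy (Ne.symm h2)]
      rw [hfour] at this
      simpa using this
    have ht : t ∉ K' := by
      intro ht
      have : K' ⊆ {x, u, t} := by
        intro y hy
        by_contra hy'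
        simp only [mem_insert, mem_singleton, not_or] at hy'
        obtain ⟨h1, h2, h3⟩ := hy'
        have h0 := hK' t ht y hy (Ne.symm h3)
        rcases hin y hy h1 h2 with rfl | rfl | rfl | rfl
        · exact h3 rfl
        all_goals omega
      have := card_le_card this
      have : ({x, u, t} : Finset Q).card ≤ 3 := card_le_three
      omega
    refine eq_of_subset_of_card_le ?_ (by omega)
    intro y hy
    simp only [mem_insert, mem_singleton]
    rcases eq_or_ne y x with e | h1
    · exact Or.inl e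
    rcases eq_or_ne y u with e | h2
    · exact Or.inr (Or.inl e)
    rcases hin y hy h1 h2 with rfl | e | e | e
    · exact absurd hy ht
    all_goals tauto

/-- Each object lies in exactly two stars. -/
theorem card_stars_through (x : Q) (S : Finset (Finset Q)) (hS : ∀ K, K ∈ S ↔ IsStar k K) :
    (S.filter fun K => x ∈ K).card = 2 := by
  have key := sum_card_bipartiteAbove_eq_sum_card_bipartiteBelow
    (s := S.filter fun K => x ∈ K) (t := univ.filter fun y => k x y = 1) (fun K y => y ∈ K)
  have e4 : ∀ K ∈ S.filter (fun K => x ∈ K),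
      ((univ.filter fun y => k x y = 1).bipartiteAbove (fun K y => y ∈ K) K).card = 4 := by
    intro K hK
    rw [mem_filter, hS] at hK
    rw [bipartiteAbove, filter_filter,
      show univ.filter (fun y => k x y = 1 ∧ y ∈ K) = K.erase x by
        ext y
        simp only [mem_filter, mem_univ, true_and, mem_erase]
        exact ⟨fun ⟨e, hy⟩ => ⟨Ne.symm (ne_of_lt_two h (by omega)), hy⟩,
          fun ⟨e, hy⟩ => ⟨hK.1.2 x hK.2 y hy (Ne.symm e), hy⟩⟩,
      card_erase_of_mem hK.2, hK.1.1]
  have e1 : ∀ y ∈ univ.filter (fun y => k x y = 1),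
      ((S.filter fun K => x ∈ K).bipartiteBelow (fun K y => y ∈ K) y).card = 1 := by
    intro y hy
    obtain ⟨K, hK, huniq⟩ := existsUnique_star h (mem_filter.1 hy).2
    rw [bipartiteBelow, card_eq_one]
    refine ⟨K, ?_⟩
    ext K'
    simp only [mem_filter, hS, mem_singleton]
    exact ⟨fun ⟨⟨h1, h2⟩, h3⟩ => huniq K' ⟨h1, h2, h3⟩,
      fun e => e ▸ ⟨⟨hK.1, hK.2.1⟩, hK.2.2⟩⟩
  rw [sum_congr rfl e4, sum_congr rfl e1, sum_const, sum_const, Nat.nsmul_eq_mul, Nat.nsmul_eq_mul,
    mul_one] at key
  have := card_ones h x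
  omega

/-- There are six stars. -/
theorem card_stars (S : Finset (Finset Q)) (hS : ∀ K, K ∈ S ↔ IsStar k K) : S.card = 6 := by
  have key := sum_card_bipartiteAbove_eq_sum_card_bipartiteBelow
    (s := S) (t := (univ : Finset Q)) (fun K y => y ∈ K)
  have e5 : ∀ K ∈ S, ((univ : Finset Q).bipartiteAbove (fun K y => y ∈ K) K).card = 5 := by
    intro K hK
    rw [bipartiteAbove, filter_mem_eq_inter, univ_inter, ((hS K).1 hK).1]
  have e2 : ∀ y ∈ (univ : Finset Q), (S.bipartiteBelow (fun K y => y ∈ K) y).card = 2 :=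
    fun y _ => card_stars_through h y S hS
  rw [sum_congr rfl e5, sum_congr rfl e2, sum_const, sum_const, Nat.nsmul_eq_mul, Nat.nsmul_eq_mul,
    card_univ, h.card] at key
  omega

end Cfsg.Agent.Lib.Classes15
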