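import Mathlib
import Cfsg.Agent.Lib.BinCode24.Basic

/-!
Doubly even self-orthogonal words on 24 points extend to a Golay code when no set of four points
meets all of them evenly.  The dimension comes from the sum of `i ^ weight` over the dual code.
-/

set_option autoImplicit false

namespace Cfsg.Agent.Lib.CodeExtend

open Finset
open Cfsg.Agent.Lib.BinCode24

variable {α : Type*} [Fintype α] [DecidableEq α]

/-- The sign of a bit. -/
def sgn (x : ZMod 2) : GaussianInt := if x = 0 then 1 else -1

/-- One or the imaginary unit. -/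
def phase (x : ZMod 2) : GaussianInt := if x = 0 then 1 else ⟨0, 1⟩

theorem sgn_add : ∀ x y : ZMod 2, sgn (x + y) = sgn x * sgn y := by
  decide

theorem sgn_sum {ι : Type*} (s : Finset ι) (f : ι → ZMod 2) :
    sgn (∑ i ∈ s, f i) = ∏ i ∈ s, sgn (f i) := by
  classical
  induction s using Finset.induction with
  | empty => rfl
  | insert a s ha ih => rw [sum_insert ha, prod_insert ha, sgn_add, ih]

theorem prod_phase (w : α → ZMod 2) :
    ∏ i, phase (w i) = (⟨0, 1⟩ : GaussianInt) ^ hammingNorm w := by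
  rw [hammingNorm_eq, ← prod_const]
  refine (prod_congr rfl fun i _ => ?_).trans ((prod_filter (fun i => w i ≠ 0) _).symm)
  by_cases h : w i = 0 <;> simp [phase, h]

/-- The dot product. -/
def dot (v w : α → ZMod 2) : ZMod 2 := ∑ i, v i * w i

theorem dot_comm (v w : α → ZMod 2) : dot v w = dot w v :=
  sum_congr rfl fun i _ => mul_comm _ _

theorem dot_add_left (u v w : α → ZMod 2) : dot (u + v) w = dot u w + dot v w := by
  simp [dot, add_mul, sum_add_distrib]

theorem dot_add_right (u v w : α → ZMod 2) : dot u (v + w) = dot u v + dot u w := by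
  simp [dot, mul_add, sum_add_distrib]

theorem dot_zero_left (w : α → ZMod 2) : dot 0 w = 0 := by simp [dot]

theorem dot_self (w : α → ZMod 2) : dot w w = (hammingNorm w : ZMod 2) := by
  rw [dot, dot_word, inter_self, hammingNorm_eq]

theorem bit_cases (a : ZMod 2) : a = 0 ∨ a = 1 := by revert a; decide

theorem add_self_word (w : α → ZMod 2) : w + w = 0 := funext fun _ => CharTwo.add_self_eq_zero _

/-- A doubly even self-orthogonal code. -/
def IsEven (C : Submodule (ZMod 2) (α → ZMod 2)) : Prop :=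
  (∀ v ∈ C, ∀ w ∈ C, dot v w = 0) ∧ ∀ w ∈ C, 4 ∣ hammingNorm w

theorem four_dvd_add {x y : α → ZMod 2} (hx : 4 ∣ hammingNorm x) (hy : 4 ∣ hammingNorm y)
    (h : dot x y = 0) : 4 ∣ hammingNorm (x + y) := by
  rw [dot, dot_word, ZMod.natCast_eq_zero_iff_even] at h
  obtain ⟨k, hk⟩ := h
  rw [← sub_eq_add', hammingNorm_eq, supp_sub]
  rw [hammingNorm_eq] at hx hy
  have := symmDiff_card (supp x) (supp y)
  omega

theorem isEven_span {G : Set (α → ZMod 2)} (h0 : ∀ v ∈ G, ∀ w ∈ G, dot v w = 0)
    (h4 : ∀ w ∈ G, 4 ∣ hammingNorm w) : IsEven (Submodule.span (ZMod 2) G) := by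
  have h1 : ∀ v ∈ Submodule.span (ZMod 2) G, ∀ w ∈ Submodule.span (ZMod 2) G, dot v w = 0 := by
    intro v hv w hw
    induction hv using Submodule.span_induction with
    | mem x hx =>
      induction hw using Submodule.span_induction with
      | mem y hy => exact h0 x hx y hy
      | zero => rw [dot_comm]; exact dot_zero_left x
      | add y z _ _ hy hz => rw [dot_add_right, hy, hz, add_zero]
      | smul a y _ hy =>
        rcases bit_cases a with rfl | rfl
        · rw [zero_smul, dot_comm]; exact dot_zero_left x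
        · rwa [one_smul]
    | zero => exact dot_zero_left w
    | add x y _ _ hx hy => rw [dot_add_left, hx, hy, add_zero]
    | smul a x _ hx =>
      rcases bit_cases a with rfl | rfl
      · rw [zero_smul]; exact dot_zero_left w
      · rwa [one_smul]
  refine ⟨h1, fun w hw => ?_⟩
  induction hw using Submodule.span_induction with
  | mem x hx => exact h4 x hx
  | zero => simp
  | add x y hx hy ihx ihy => exact four_dvd_add ihx ihy (h1 x hx y hy)
  | smul a x _ ihx =>
    rcases bit_cases a with rfl | rfl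
    · simp
    · rwa [one_smul]

open Classical in
/-- The words orthogonal to a code. -/
noncomputable def dual (C : Submodule (ZMod 2) (α → ZMod 2)) : Finset (α → ZMod 2) :=
  univ.filter fun v => ∀ c ∈ C, dot c v = 0

theorem mem_dual {C : Submodule (ZMod 2) (α → ZMod 2)} {v : α → ZMod 2} :
    v ∈ dual C ↔ ∀ c ∈ C, dot c v = 0 := by
  simp [dual]

open Classical in
theorem sum_sgn (C : Submodule (ZMod 2) (α → ZMod 2)) (v : α → ZMod 2) :
    ∑ c : C, sgn (dot c.1 v) = if v ∈ dual C then (Nat.card C : GaussianInt) else 0 := by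
  split
  · next h =>
    rw [mem_dual] at h
    simp [sgn, fun c : C => h c.1 c.2, Nat.card_eq_fintype_card]
  · next h =>
    rw [mem_dual] at h
    push Not at h
    obtain ⟨c0, hc0, hne⟩ := h
    have e : dot c0 v = 1 := (bit_cases _).resolve_left hne
    have key : ∑ c : C, sgn (dot c.1 v) = -∑ c : C, sgn (dot c.1 v) := by
      conv_lhs => rw [← Equiv.sum_comp (Equiv.addLeft (⟨c0, hc0⟩ : C))]
      rw [← sum_neg_distrib]
      refine sum_congr rfl fun c _ => ?_
      show sgn (dot (c0 + c.1) v) = _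
      rw [dot_add_left, sgn_add, e]
      rcases bit_cases (dot c.1 v) with h | h <;> rw [h] <;> decide
    exact add_self_eq_zero.1 (eq_neg_iff_add_eq_zero.1 key)

open Classical in
theorem card_mul_dual (C : Submodule (ZMod 2) (α → ZMod 2)) :
    Nat.card C * (dual C).card = 2 ^ Fintype.card α := by
  have h1 : ∀ c : C, ∑ v : α → ZMod 2, sgn (dot c.1 v)
      = if c = 0 then (2 ^ Fintype.card α : GaussianInt) else 0 := by
    intro c
    simp only [dot, sgn_sum]
    rw [← Fintype.prod_sum (fun i x => sgn (c.1 i * x))]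
    split
    · next h => subst h; simp [sgn, show (univ : Finset (ZMod 2)) = {0, 1} from by decide]
    · next h =>
      obtain ⟨i, hi⟩ : ∃ i, c.1 i ≠ 0 := by
        by_contra h'
        push Not at h'
        exact h (Subtype.ext (funext h'))
      refine prod_eq_zero (mem_univ i) ?_
      rw [(bit_cases _).resolve_left hi]
      decide
  have h2 := sum_comm (s := (univ : Finset C)) (t := (univ : Finset (α → ZMod 2)))
    (f := fun c v => sgn (dot c.1 v))
  simp only [h1, sum_sgn, sum_ite_eq', mem_univ, if_true, sum_ite_mem, univ_inter, sum_const,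
    nsmul_eq_mul] at h2
  have h3 : ((2 ^ Fintype.card α : ℕ) : GaussianInt) = ((dual C).card * Nat.card C : ℕ) := by
    push_cast; exact h2
  rw [mul_comm]
  exact (Nat.cast_injective h3).symm

open Classical in
theorem gauss_sum {C : Submodule (ZMod 2) (α → ZMod 2)} (hα : Fintype.card α = 24)
    (hC : IsEven C) :
    ∑ v ∈ dual C, (⟨0, 1⟩ : GaussianInt) ^ hammingNorm v = 4096 := by
  have h1 : ∀ c : C, ∑ v : α → ZMod 2, sgn (dot c.1 v) * ∏ i, phase (v i) = 4096 := by
    intro c
    simp only [dot, sgn_sum, ← prod_mul_distrib]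
    rw [← Fintype.prod_sum (fun i x => sgn (c.1 i * x) * phase x)]
    have e : ∀ i, ∑ x : ZMod 2, sgn (c.1 i * x) * phase x
        = (⟨1, 1⟩ : GaussianInt) * if c.1 i ≠ 0 then ⟨0, -1⟩ else 1 := fun i => by
      generalize c.1 i = a
      revert a; decide
    simp only [e, prod_mul_distrib, prod_const, card_univ, hα, ← prod_filter]
    obtain ⟨k, hk⟩ := hC.2 c.1 c.2
    rw [show (univ.filter fun i => c.1 i ≠ 0).card = 4 * k from hk, pow_mul]
    rw [show (⟨0, -1⟩ : GaussianInt) ^ 4 = 1 by decide, one_pow, mul_one]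
    decide
  have h2 := sum_comm (s := (univ : Finset C)) (t := (univ : Finset (α → ZMod 2)))
    (f := fun c v => sgn (dot c.1 v) * ∏ i, phase (v i))
  rw [sum_congr rfl fun c _ => h1 c, sum_const, card_univ, nsmul_eq_mul] at h2
  simp only [← sum_mul, sum_sgn, ite_mul, zero_mul, sum_ite_mem, univ_inter, ← mul_sum,
    prod_phase] at h2
  rw [← Nat.card_eq_fintype_card] at h2
  have hne : (Nat.card C : GaussianInt) ≠ 0 := Nat.cast_ne_zero.2 Nat.card_pos.ne'
  exact (mul_left_cancel₀ hne h2).symm

/-- A maximal doubly even self-orthogonal code through the all-one word has dimension 12. -/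
theorem finrank_of_maximal {C : Submodule (ZMod 2) (α → ZMod 2)} (hα : Fintype.card α = 24)
    (hC : IsEven C) (h1 : (1 : α → ZMod 2) ∈ C)
    (hmax : ∀ v ∈ dual C, 4 ∣ hammingNorm v → v ∈ C) : Module.finrank (ZMod 2) C = 12 := by
  classical
  have hsum := congrArg Zsqrtd.re (gauss_sum hα hC)
  have hsub : univ.filter (fun v => v ∈ C) ⊆ dual C := fun v hv =>
    mem_dual.2 fun c hc => hC.1 c hc v (mem_filter.1 hv).2
  rw [← sum_sdiff hsub] at hsum
  have e1 : ∀ v ∈ univ.filter (fun v => v ∈ C), (⟨0, 1⟩ : GaussianInt) ^ hammingNorm v = 1 := by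
    intro v hv
    obtain ⟨k, hk⟩ := hC.2 v (mem_filter.1 hv).2
    rw [hk, pow_mul, show (⟨0, 1⟩ : GaussianInt) ^ 4 = 1 by decide, one_pow]
  have e2 : ∀ v ∈ dual C \ univ.filter (fun v => v ∈ C),
      (⟨0, 1⟩ : GaussianInt) ^ hammingNorm v = -1 := by
    intro v hv
    rw [mem_sdiff, mem_filter] at hv
    have hn4 : ¬ 4 ∣ hammingNorm v := fun h => hv.2 ⟨mem_univ v, hmax v hv.1 h⟩
    have he := mem_dual.1 hv.1 1 h1
    have e : dot 1 v = (hammingNorm v : ZMod 2) := by
      rw [dot, hammingNorm_eq, dot_word]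
      congr 2
      ext i; simp [supp]
    rw [e, ZMod.natCast_eq_zero_iff_even] at he
    obtain ⟨k, hk⟩ : ∃ k, hammingNorm v = 4 * k + 2 := by
      obtain ⟨r, hr⟩ := he
      exact ⟨r / 2, by omega⟩
    rw [hk, pow_add, pow_mul, show (⟨0, 1⟩ : GaussianInt) ^ 4 = 1 by decide, one_pow, one_mul]
    decide
  rw [sum_congr rfl e2, sum_congr rfl e1, sum_const, sum_const, card_sdiff_of_subset hsub] at hsum
  have hcardC : (univ.filter fun v => v ∈ C).card = 2 ^ Module.finrank (ZMod 2) C := by
    rw [← Fintype.card_subtype, ← Nat.card_eq_fintype_card]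
    show Nat.card C = _
    rw [Module.natCard_eq_pow_finrank (K := ZMod 2) (V := C), Nat.card_zmod]
  have hD := card_mul_dual C
  rw [hα, Module.natCard_eq_pow_finrank (K := ZMod 2) (V := C), Nat.card_zmod] at hD
  have hle : (univ.filter fun v => v ∈ C).card ≤ (dual C).card := card_le_card hsub
  simp only [nsmul_eq_mul, Zsqrtd.re_add, mul_one, mul_neg, Zsqrtd.re_neg, Zsqrtd.re_natCast,
    Zsqrtd.re_ofNat] at hsum
  rw [hcardC] at hsum hle
  set k := Module.finrank (ZMod 2) C
  have hk : k ≤ 24 := by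
    have := Submodule.finrank_le C
    rwa [Module.finrank_fintype_fun_eq_card, hα] at this
  have hD' : (dual C).card = 2 ^ (24 - k) := by
    refine Nat.eq_of_mul_eq_mul_left (Nat.pow_pos (n := k) (by norm_num : 0 < 2)) (hD.trans ?_)
    rw [← pow_add, Nat.add_sub_cancel' hk]
  rw [hD'] at hsum hle
  have hk12 : k ≤ 24 - k := (Nat.pow_le_pow_iff_right (by norm_num)).1 hle
  have hk' : k ≤ 12 := by omega
  clear hD hD'
  interval_cases k <;> first | rfl | norm_num at hsum

/-- The extension theorem. -/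
theorem exists_isGolay (hα : Fintype.card α = 24) (S : Set (Finset α))
    (h4 : ∀ b ∈ S, 4 ∣ b.card) (heven : ∀ b ∈ S, ∀ c ∈ S, Even (b ∩ c).card)
    (hno : ∀ T : Finset α, T.card = 4 → ∃ b ∈ S, ¬ Even (T ∩ b).card) :
    ∃ C : Submodule (ZMod 2) (α → ZMod 2), IsGolay C ∧ ∀ b ∈ S, word b ∈ C := by
  classical
  let G : Set (α → ZMod 2) := insert 1 (word '' S)
  have hone : supp (1 : α → ZMod 2) = univ := by ext i; simp [supp]
  have hnorm : ∀ w ∈ G, 4 ∣ hammingNorm w := by
    rintro w (rfl | ⟨b, hb, rfl⟩)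
    · rw [hammingNorm_eq, hone, card_univ, hα]; norm_num
    · rw [hammingNorm_word]; exact h4 b hb
  have hdot : ∀ v ∈ G, ∀ w ∈ G, dot v w = 0 := by
    have hb2 : ∀ b ∈ S, Even b.card := fun b hb => by
      obtain ⟨k, hk⟩ := h4 b hb; exact ⟨2 * k, by omega⟩
    rintro v (rfl | ⟨b, hb, rfl⟩) w (rfl | ⟨c, hc, rfl⟩) <;>
      rw [dot, dot_word, ZMod.natCast_eq_zero_iff_even]
    · rw [hone, inter_self, card_univ, hα]; decide
    · rw [hone, univ_inter, supp_word]; exact hb2 c hc
    · rw [hone, inter_univ, supp_word]; exact hb2 b hb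
    · rw [supp_word, supp_word]; exact heven b hb c hc
  obtain ⟨C, ⟨hC, hGC⟩, hmax⟩ := Set.Finite.exists_maximal
    (Set.toFinite {C : Submodule (ZMod 2) (α → ZMod 2) | IsEven C ∧ G ⊆ C})
    ⟨Submodule.span (ZMod 2) G, isEven_span hdot hnorm, Submodule.subset_span⟩
  have h1 : (1 : α → ZMod 2) ∈ C := hGC (Set.mem_insert _ _)
  have hbC : ∀ b ∈ S, word b ∈ C := fun b hb => hGC (Or.inr ⟨b, hb, rfl⟩)
  have hclosed : ∀ v ∈ dual C, 4 ∣ hammingNorm v → v ∈ C := by
    intro v hv hv4
    have hd := mem_dual.1 hv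
    have hvv : dot v v = 0 := by
      rw [dot_self, ZMod.natCast_eq_zero_iff_even]
      obtain ⟨k, hk⟩ := hv4
      exact ⟨2 * k, by omega⟩
    have hE : IsEven (Submodule.span (ZMod 2) (insert v (C : Set (α → ZMod 2)))) := by
      refine isEven_span ?_ ?_
      · rintro x (rfl | hx) y (rfl | hy)
        · exact hvv
        · rw [dot_comm]; exact hd y hy
        · exact hd x hx
        · exact hC.1 x hx y hy
      · rintro x (rfl | hx)
        · exact hv4
        · exact hC.2 x hx
    have hle : C ≤ Submodule.span (ZMod 2) (insert v (C : Set (α → ZMod 2))) :=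
      fun x hx => Submodule.subset_span (Or.inr hx)
    exact hmax ⟨hE, hGC.trans hle⟩ hle (Submodule.subset_span (Or.inl rfl))
  refine ⟨C, ⟨hα, finrank_of_maximal hα hC h1 hclosed, fun v hv w hw => hC.1 v hv w hw, ?_⟩, hbC⟩
  intro w hw hne
  by_contra hlt
  obtain ⟨k, hk⟩ := hC.2 w hw
  have hpos := hammingNorm_pos_iff.2 hne
  have h4w : (supp w).card = 4 := by rw [← hammingNorm_eq]; omega
  obtain ⟨b, hb, hodd⟩ := hno (supp w) h4w
  refine hodd ?_
  have := hC.1 w hw _ (hbC b hb)
  rwa [dot, dot_word, supp_word, ZMod.natCast_eq_zero_iff_even] at this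

end Cfsg.Agent.Lib.CodeExtend
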