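import Cfsg.Agent.Lib.Golay.Steiner
import Cfsg.Prelude.Def_Sporadic_a

/-!
The block graph (77 vertices) and the point-block graph (100 vertices) of an S(3, 6, 22).
-/

set_option autoImplicit false

namespace Cfsg.Agent.Lib.Design

open Cfsg Finset
open Cfsg.Agent.Lib.Golay

variable {α : Type*} [Fintype α] [DecidableEq α] {B : Finset (Finset α)}

theorem card_blocks22 (hα : Fintype.card α = 22)
    (hB : IsSteinerSystem 3 6 (B : Set (Finset α))) : B.card = 77 := by
  have h := card_blocks_through hB (S := ∅) (by simp)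
  rw [filter_true_of_mem fun b _ => empty_subset b, hα, card_empty] at h
  norm_num [Nat.choose] at h
  omega

theorem card_through22 (hα : Fintype.card α = 22)
    (hB : IsSteinerSystem 3 6 (B : Set (Finset α))) (p : α) :
    (B.filter fun d => p ∈ d).card = 21 := by
  have h := card_blocks_through hB (S := {p}) (by simp)
  simp only [singleton_subset_iff, hα, card_singleton] at h
  norm_num [Nat.choose] at h
  omega

theorem card_through22_two (hα : Fintype.card α = 22)
    (hB : IsSteinerSystem 3 6 (B : Set (Finset α))) {p q : α} (hpq : p ≠ q) :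
    (B.filter fun d => p ∈ d ∧ q ∈ d).card = 5 := by
  have h := card_blocks_through hB (S := {p, q}) (by rw [card_pair hpq]; norm_num)
  simp only [insert_subset_iff, singleton_subset_iff, hα, card_pair hpq] at h
  norm_num [Nat.choose] at h
  omega

theorem inter_22 (hα : Fintype.card α = 22) (hB : IsSteinerSystem 3 6 (B : Set (Finset α)))
    {b c : Finset α} (hb : b ∈ B) (hc : c ∈ B) (hne : b ≠ c) :
    (b ∩ c).card = 0 ∨ (b ∩ c).card = 2 :=
  inter_22_cases hα hB (mem_coe.2 hb) (mem_coe.2 hc) hne

theorem card_disjoint22 (hα : Fintype.card α = 22)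
    (hB : IsSteinerSystem 3 6 (B : Set (Finset α))) {b : Finset α} (hb : b ∈ B) :
    (B.filter fun d => Disjoint b d).card = 16 := by
  rw [← (inter_numbers_22 hα hB hb).1, interNum]
  exact congrArg Finset.card (filter_congr fun d _ => by
    rw [card_eq_zero, ← disjoint_iff_inter_eq_empty, disjoint_comm])

theorem card_inter_union (d b c : Finset α) :
    (d ∩ (b ∪ c)).card + (d ∩ (b ∩ c)).card = (d ∩ b).card + (d ∩ c).card := by
  rw [inter_union_distrib_left, inter_inter_distrib_left]
  exact card_union_add_card_inter _ _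

/-- Blocks disjoint from two disjoint blocks: none. -/
theorem card_disjoint_both_zero (hα : Fintype.card α = 22)
    (hB : IsSteinerSystem 3 6 (B : Set (Finset α))) {b c : Finset α} (hb : b ∈ B) (hc : c ∈ B)
    (hbc : Disjoint b c) : (B.filter fun d => Disjoint b d ∧ Disjoint c d).card = 0 := by
  have hb6 : b.card = 6 := hB.1 b (mem_coe.2 hb)
  have hc6 : c.card = 6 := hB.1 c (mem_coe.2 hc)
  have hne : b ≠ c := fun e => by
    rw [e] at hbc
    have : c = ∅ := (disjoint_self.1 hbc : c = ⊥)
    rw [this, card_empty] at hc6; omega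
  have hY : (b ∪ c).card = 12 := by rw [card_union_of_disjoint hbc, hb6, hc6]
  have h0 := choose_sum_inter hB (b ∪ c) (j := 0) (by norm_num)
  have h1 := choose_sum_inter hB (b ∪ c) (j := 1) (by norm_num)
  have h2 := choose_sum_inter hB (b ∪ c) (j := 2) (by norm_num)
  have hd : ∀ d ∈ B, (d ∩ (b ∪ c)).card = 0 ∨ (d ∩ (b ∪ c)).card = 2 ∨
      (d ∩ (b ∪ c)).card = 4 ∨ ((d = b ∨ d = c) ∧ (d ∩ (b ∪ c)).card = 6) := by
    intro d hdB
    have e := card_inter_union d b c
    rw [disjoint_iff_inter_eq_empty.1 hbc, inter_empty, card_empty, add_zero] at e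
    rcases eq_or_ne d b with rfl | hdb
    · right; right; right
      refine ⟨Or.inl rfl, ?_⟩
      rw [e, inter_self, hb6, disjoint_iff_inter_eq_empty.1 hbc, card_empty]
    rcases eq_or_ne d c with rfl | hdc
    · right; right; right
      refine ⟨Or.inr rfl, ?_⟩
      rw [e, inter_self, hc6, inter_comm, disjoint_iff_inter_eq_empty.1 hbc, card_empty]
    rcases inter_22 hα hB hdB hb hdb with u | u <;> rcases inter_22 hα hB hdB hc hdc with v | v <;>
      rw [u, v] at e <;> omega
  have hz : ∀ i, i = 1 ∨ i = 3 ∨ i = 5 ∨ 7 ≤ i → interNum B (b ∪ c) i = 0 := by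
    intro i hi
    rw [interNum, card_eq_zero, filter_eq_empty_iff]
    intro d hdB e
    rcases hd d hdB with u | u | u | ⟨-, u⟩ <;> omega
  have h6 : interNum B (b ∪ c) 6 = 2 := by
    rw [interNum, ← card_pair hne]
    congr 1
    ext d
    simp only [mem_filter, mem_insert, mem_singleton]
    constructor
    · rintro ⟨hdB, e⟩
      rcases hd d hdB with u | u | u | ⟨u, -⟩ <;> first | omega | exact u
    · rintro (rfl | rfl)
      · refine ⟨hb, ?_⟩
        rw [inter_eq_left.2 subset_union_left, hb6]
      · refine ⟨hc, ?_⟩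
        rw [inter_eq_left.2 subset_union_right, hc6]
  simp only [sum_choose_eq_interNum, hY, hα, sum_range_succ, sum_range_zero,
    hz 1 (by omega), hz 3 (by omega), hz 5 (by omega), hz 7 (by omega), hz 8 (by omega),
    hz 9 (by omega), hz 10 (by omega), hz 11 (by omega), hz 12 (by omega), h6] at h0 h1 h2
  norm_num [Nat.choose] at h0 h1 h2
  have : interNum B (b ∪ c) 0 = 0 := by omega
  rw [← this, interNum]
  exact congrArg Finset.card (filter_congr fun d _ => by
    rw [card_eq_zero, ← disjoint_iff_inter_eq_empty, disjoint_union_right, disjoint_comm (a := d),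
      disjoint_comm (a := d)])

/-- Blocks disjoint from two meeting blocks: four. -/
theorem card_disjoint_both_four (hα : Fintype.card α = 22)
    (hB : IsSteinerSystem 3 6 (B : Set (Finset α))) {b c : Finset α} (hb : b ∈ B) (hc : c ∈ B)
    (hbc : (b ∩ c).card = 2) : (B.filter fun d => Disjoint b d ∧ Disjoint c d).card = 4 := by
  have hb6 : b.card = 6 := hB.1 b (mem_coe.2 hb)
  have hc6 : c.card = 6 := hB.1 c (mem_coe.2 hc)
  have hne : b ≠ c := fun e => by rw [e, inter_self, hc6] at hbc; omega
  have hY : (b ∪ c).card = 10 := by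
    have := card_union_add_card_inter b c
    omega
  have h0 := choose_sum_inter hB (b ∪ c) (j := 0) (by norm_num)
  have h1 := choose_sum_inter hB (b ∪ c) (j := 1) (by norm_num)
  have h2 := choose_sum_inter hB (b ∪ c) (j := 2) (by norm_num)
  have h3 := choose_sum_inter hB (b ∪ c) (j := 3) (by norm_num)
  have hd : ∀ d ∈ B, (d ∩ (b ∪ c)).card = 0 ∨ (d ∩ (b ∪ c)).card = 2 ∨ (d ∩ (b ∪ c)).card = 3 ∨
      (d ∩ (b ∪ c)).card = 4 ∨ ((d = b ∨ d = c) ∧ (d ∩ (b ∪ c)).card = 6) := by
    intro d hdB
    rcases eq_or_ne d b with rfl | hdb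
    · right; right; right; right
      exact ⟨Or.inl rfl, by rw [inter_eq_left.2 subset_union_left, hb6]⟩
    rcases eq_or_ne d c with rfl | hdc
    · right; right; right; right
      exact ⟨Or.inr rfl, by rw [inter_eq_left.2 subset_union_right, hc6]⟩
    have e := card_inter_union d b c
    have e1 : (d ∩ (b ∩ c)).card ≤ (d ∩ b).card :=
      card_le_card (inter_subset_inter le_rfl inter_subset_left)
    have e2 : (d ∩ (b ∩ c)).card ≤ (d ∩ c).card :=
      card_le_card (inter_subset_inter le_rfl inter_subset_right)
    rcases inter_22 hα hB hdB hb hdb with u | u <;> rcases inter_22 hα hB hdB hc hdc with v | v <;>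
      omega
  have hz : ∀ i, i = 1 ∨ i = 5 ∨ 7 ≤ i → interNum B (b ∪ c) i = 0 := by
    intro i hi
    rw [interNum, card_eq_zero, filter_eq_empty_iff]
    intro d hdB e
    rcases hd d hdB with u | u | u | u | ⟨-, u⟩ <;> omega
  have h6 : interNum B (b ∪ c) 6 = 2 := by
    rw [interNum, ← card_pair hne]
    congr 1
    ext d
    simp only [mem_filter, mem_insert, mem_singleton]
    constructor
    · rintro ⟨hdB, e⟩
      rcases hd d hdB with u | u | u | u | ⟨u, -⟩ <;> first | omega | exact u
    · rintro (rfl | rfl)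
      · exact ⟨hb, by rw [inter_eq_left.2 subset_union_left, hb6]⟩
      · exact ⟨hc, by rw [inter_eq_left.2 subset_union_right, hc6]⟩
  simp only [sum_choose_eq_interNum, hY, hα, sum_range_succ, sum_range_zero,
    hz 1 (by omega), hz 5 (by omega), hz 7 (by omega), hz 8 (by omega),
    hz 9 (by omega), hz 10 (by omega), h6] at h0 h1 h2 h3
  norm_num [Nat.choose] at h0 h1 h2 h3
  have : interNum B (b ∪ c) 0 = 4 := by omega
  rw [← this, interNum]
  exact congrArg Finset.card (filter_congr fun d _ => by
    rw [card_eq_zero, ← disjoint_iff_inter_eq_empty, disjoint_union_right, disjoint_comm (a := d),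
      disjoint_comm (a := d)])

/-- Blocks through a point off a block and disjoint from it: six. -/
theorem card_point_disjoint (hα : Fintype.card α = 22)
    (hB : IsSteinerSystem 3 6 (B : Set (Finset α))) {b : Finset α} (hb : b ∈ B) {p : α}
    (hp : p ∉ b) : (B.filter fun d => p ∈ d ∧ Disjoint b d).card = 6 := by
  have hb6 : b.card = 6 := hB.1 b (mem_coe.2 hb)
  have hT := card_through22 hα hB p
  have hsum : ∑ d ∈ B.filter (fun d => p ∈ d), (d ∩ b).card = 30 := by
    have e : ∀ d : Finset α, (d ∩ b).card = ∑ x ∈ b, if x ∈ d then 1 else 0 := fun d => by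
      rw [← card_filter, filter_mem_eq_inter, inter_comm]
    simp only [e]
    rw [sum_comm]
    refine (sum_const_nat (m := 5) fun x hx => ?_).trans (by rw [hb6])
    rw [← card_filter, filter_filter]
    exact card_through22_two hα hB fun e => hp (by rw [e]; exact hx)
  have hsplit : ∑ d ∈ B.filter (fun d => p ∈ d), (d ∩ b).card =
      2 * ((B.filter fun d => p ∈ d).filter fun d => ¬ Disjoint b d).card := by
    rw [card_filter, mul_sum]
    refine sum_congr rfl fun d hd => ?_
    rw [mem_filter] at hd
    rcases inter_22 hα hB hd.1 hb (fun e => hp (e ▸ hd.2)) with u | u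
    · rw [if_neg (not_not.2 (by
        rw [disjoint_comm, disjoint_iff_inter_eq_empty, ← card_eq_zero, u])), u, mul_zero]
    · rw [if_pos (fun hdis => by
        rw [disjoint_comm, disjoint_iff_inter_eq_empty, ← card_eq_zero] at hdis
        omega), u, mul_one]
  have hpart := card_filter_add_card_filter_not
    (s := B.filter fun d => p ∈ d) (fun d => Disjoint b d)
  rw [filter_filter] at hpart
  omega

/-! ### The graphs -/

theorem card_filter_subtype {ι : Type*} [DecidableEq ι] (s : Finset ι) [Fintype ↥(s : Set ι)]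
    (P : ι → Prop) [DecidablePred P] :
    (univ.filter fun x : ↥(s : Set ι) => P x.1).card = (s.filter P).card := by
  rw [← card_map (Function.Embedding.subtype fun x => x ∈ (s : Set ι))]
  congr 1
  ext x
  simp only [mem_map, mem_filter, mem_univ, true_and, Function.Embedding.coe_subtype]
  constructor
  · rintro ⟨⟨a, ha⟩, hPa, rfl⟩; exact ⟨mem_coe.1 ha, hPa⟩
  · rintro ⟨hx, hPx⟩; exact ⟨⟨x, mem_coe.2 hx⟩, hPx, rfl⟩

theorem blockGraph_adj {b c : ↥(B : Set (Finset α))} :
    (blockGraph (B : Set (Finset α))).Adj b c ↔ b ≠ c ∧ Disjoint b.1 c.1 := by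
  rw [blockGraph, SimpleGraph.fromRel_adj, disjoint_comm (a := c.1), or_self]

theorem ne_of_disjoint (hB : IsSteinerSystem 3 6 (B : Set (Finset α)))
    {b c : ↥(B : Set (Finset α))} (h : Disjoint b.1 c.1) : b ≠ c := by
  rintro rfl
  have h6 := hB.1 b.1 b.2
  rw [(disjoint_self.1 h : b.1 = ⊥)] at h6
  simp at h6

theorem blockGraph_srg (hα : Fintype.card α = 22) (hB : IsSteinerSystem 3 6 (B : Set (Finset α)))
    [Fintype ↥(B : Set (Finset α))] [DecidableRel (blockGraph (B : Set (Finset α))).Adj] :
    (blockGraph (B : Set (Finset α))).IsSRGWith 77 16 0 4 := by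
  classical
  have hadj : ∀ b c : ↥(B : Set (Finset α)),
      (blockGraph (B : Set (Finset α))).Adj b c ↔ Disjoint b.1 c.1 := fun b c => by
    rw [blockGraph_adj]; exact ⟨fun h => h.2, fun h => ⟨ne_of_disjoint hB h, h⟩⟩
  have hcn : ∀ b c : ↥(B : Set (Finset α)),
      Fintype.card ((blockGraph (B : Set (Finset α))).commonNeighbors b c) =
        (B.filter fun d => Disjoint b.1 d ∧ Disjoint c.1 d).card := fun b c => by
    rw [← card_filter_subtype B (fun d => Disjoint b.1 d ∧ Disjoint c.1 d), Fintype.card_subtype]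
    refine congrArg Finset.card (filter_congr fun d _ => ?_)
    simp [SimpleGraph.mem_commonNeighbors, hadj]
  refine ⟨?_, fun b => ?_, fun b c h => ?_, fun b c hne h => ?_⟩
  · rw [← card_blocks22 hα hB, ← Nat.card_eq_fintype_card, Nat.card_coe_set_eq, Set.ncard_coe_finset]
  · rw [← SimpleGraph.card_neighborFinset_eq_degree, SimpleGraph.neighborFinset_eq_filter,
      ← card_disjoint22 hα hB (mem_coe.1 b.2), ← card_filter_subtype B (fun d => Disjoint b.1 d)]
    exact congrArg Finset.card (filter_congr fun d _ => hadj b d)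
  · rw [hcn]
    exact card_disjoint_both_zero hα hB b.2 c.2 ((hadj b c).1 h)
  · rw [hcn]
    refine card_disjoint_both_four hα hB b.2 c.2
      ((inter_22 hα hB b.2 c.2 (Subtype.coe_injective.ne hne)).resolve_left fun e => h ?_)
    rw [hadj, disjoint_iff_inter_eq_empty, ← card_eq_zero, e]

theorem card_three_parts {β γ : Type*} [Fintype β] [Fintype γ] (P : Option (β ⊕ γ) → Prop)
    [DecidablePred P] :
    (univ.filter P).card = (if P none then 1 else 0) +
      (univ.filter fun a => P (some (Sum.inl a))).card +
        (univ.filter fun d => P (some (Sum.inr d))).card := by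
  rw [card_filter, card_filter, card_filter, Fintype.sum_option, Fintype.sum_sum_type, add_assoc]

theorem pointBlock_srg (hα : Fintype.card α = 22) (hB : IsSteinerSystem 3 6 (B : Set (Finset α)))
    [Fintype ↥(B : Set (Finset α))] [DecidableRel (pointBlockGraph (B : Set (Finset α))).Adj] :
    (pointBlockGraph (B : Set (Finset α))).IsSRGWith 100 22 0 6 := by
  classical
  have h00 : ¬ (pointBlockGraph (B : Set (Finset α))).Adj none none := SimpleGraph.irrefl (pointBlockGraph (B : Set (Finset α)))
  have h0p : ∀ p, (pointBlockGraph (B : Set (Finset α))).Adj none (some (Sum.inl p)) := fun p => by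
    simp [pointBlockGraph, pointBlockRel]
  have hp0 : ∀ p, (pointBlockGraph (B : Set (Finset α))).Adj (some (Sum.inl p)) none := fun p => (h0p p).symm
  have h0b : ∀ b, ¬ (pointBlockGraph (B : Set (Finset α))).Adj none (some (Sum.inr b)) := fun b => by
    simp [pointBlockGraph, pointBlockRel]
  have hb0 : ∀ b, ¬ (pointBlockGraph (B : Set (Finset α))).Adj (some (Sum.inr b)) none := fun b h => h0b b h.symm
  have hpq : ∀ p q, ¬ (pointBlockGraph (B : Set (Finset α))).Adj (some (Sum.inl p)) (some (Sum.inl q)) := fun p q => by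
    simp [pointBlockGraph, pointBlockRel]
  have hpb : ∀ p b, (pointBlockGraph (B : Set (Finset α))).Adj (some (Sum.inl p)) (some (Sum.inr b)) ↔ p ∈ b.1 := fun p b => by
    simp [pointBlockGraph, pointBlockRel]
  have hbp : ∀ p b, (pointBlockGraph (B : Set (Finset α))).Adj (some (Sum.inr b)) (some (Sum.inl p)) ↔ p ∈ b.1 := fun p b => by
    rw [(pointBlockGraph (B : Set (Finset α))).adj_comm]; exact hpb p b
  have hbc : ∀ b c, (pointBlockGraph (B : Set (Finset α))).Adj (some (Sum.inr b)) (some (Sum.inr c)) ↔ Disjoint b.1 c.1 := fun b c => by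
    simp only [pointBlockGraph, SimpleGraph.fromRel_adj, pointBlockRel,
      disjoint_comm (a := c.1), or_self, ne_eq, Option.some.injEq, Sum.inr.injEq]
    exact ⟨fun h => h.2, fun h => ⟨ne_of_disjoint hB h, h⟩⟩
  have hcn : ∀ v w, Fintype.card ((pointBlockGraph (B : Set (Finset α))).commonNeighbors v w) =
      (if (pointBlockGraph (B : Set (Finset α))).Adj v none ∧ (pointBlockGraph (B : Set (Finset α))).Adj w none then 1 else 0) +
        (univ.filter fun a => (pointBlockGraph (B : Set (Finset α))).Adj v (some (Sum.inl a)) ∧ (pointBlockGraph (B : Set (Finset α))).Adj w (some (Sum.inl a))).card +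
        (univ.filter fun d => (pointBlockGraph (B : Set (Finset α))).Adj v (some (Sum.inr d)) ∧ (pointBlockGraph (B : Set (Finset α))).Adj w (some (Sum.inr d))).card := by
    intro v w
    rw [← card_three_parts fun x => (pointBlockGraph (B : Set (Finset α))).Adj v x ∧ (pointBlockGraph (B : Set (Finset α))).Adj w x, Fintype.card_subtype]
    exact congrArg Finset.card (filter_congr fun d _ => by simp [SimpleGraph.mem_commonNeighbors])
  have hblk : ∀ (P : Finset α → Prop) [DecidablePred P],
      (univ.filter fun d : ↥(B : Set (Finset α)) => P d.1).card = (B.filter P).card :=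
    fun P _ => card_filter_subtype B P
  have hmem : ∀ b : Finset α, (univ.filter fun a => a ∈ b).card = b.card := fun b => by
    rw [filter_mem_eq_inter, univ_inter]
  refine ⟨?_, fun v => ?_, fun v w h => ?_, fun v w hne h => ?_⟩
  · rw [Fintype.card_option, Fintype.card_sum, hα, ← Nat.card_eq_fintype_card,
      Nat.card_coe_set_eq, Set.ncard_coe_finset, card_blocks22 hα hB]
  · rw [← SimpleGraph.card_neighborFinset_eq_degree, SimpleGraph.neighborFinset_eq_filter,
      card_three_parts]
    rcases v with _ | p | b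
    · simp [h00, h0p, h0b, hα]
    · simp only [hp0, hpq, hpb, if_true, filter_false, card_empty, hblk (fun d => p ∈ d),
        card_through22 hα hB]
    · have hb : b.1.card = 6 := hB.1 b.1 b.2
      simp only [hb0, hbp, hbc, if_false, hblk (fun d => Disjoint b.1 d),
        card_disjoint22 hα hB (mem_coe.1 b.2), hmem, hb]
  · rw [hcn]
    have key : ∀ (p : α) (b : ↥(B : Set (Finset α))), p ∈ b.1 → (B.filter fun d => p ∈ d ∧ Disjoint b.1 d).card = 0 :=
      fun p b hp => by
        rw [card_eq_zero, filter_eq_empty_iff]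
        exact fun d _ hd => disjoint_left.1 hd.2 hp hd.1
    rcases v with _ | p | b <;> rcases w with _ | q | c
    · exact absurd h h00
    · simp [h00, h0p, h0b, hp0, hpq]
    · exact absurd h (h0b c)
    · simp [h00, h0p, h0b, hp0, hpq]
    · exact absurd h (hpq p q)
    · simp only [hp0, hb0, hpq, hpb, hbp, hbc, and_false, false_and, if_false, filter_false,
        card_empty, hblk (fun d => p ∈ d ∧ Disjoint c.1 d), key p c ((hpb p c).1 h)]
    · exact absurd h (hb0 b)
    · simp only [hp0, hb0, hpq, hpb, hbp, hbc, and_false, false_and, if_false, filter_false,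
        card_empty, and_comm (a := Disjoint b.1 _), hblk (fun d => q ∈ d ∧ Disjoint b.1 d),
        key q b ((hbp q b).1 h)]
    · have hd := (hbc b c).1 h
      simp only [hb0, hbp, hbc, and_false, false_and, if_false,
        hblk (fun d => Disjoint b.1 d ∧ Disjoint c.1 d), card_disjoint_both_zero hα hB b.2 c.2 hd]
      rw [show (univ.filter fun a => a ∈ b.1 ∧ a ∈ c.1) = ∅ from
        filter_eq_empty_iff.2 fun a _ ha => disjoint_left.1 hd ha.1 ha.2, card_empty]
  · rw [hcn]
    rcases v with _ | p | b <;> rcases w with _ | q | c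
    · exact absurd rfl hne
    · exact absurd (h0p q) h
    · have hc : c.1.card = 6 := hB.1 c.1 c.2
      simp only [h00, h0p, h0b, hb0, hbp, false_and, if_false, true_and, filter_false, card_empty,
        hmem, hc]
    · exact absurd (hp0 p) h
    · have hne' : p ≠ q := fun e => hne (by rw [e])
      simp only [hp0, hpq, hpb, and_self, if_true, filter_false, card_empty,
        hblk (fun d => p ∈ d ∧ q ∈ d), card_through22_two hα hB hne']
    · have hp : p ∉ c.1 := fun hp => h ((hpb p c).2 hp)
      simp only [hp0, hb0, hpq, hpb, hbp, hbc, and_false, false_and, if_false, filter_false,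
        card_empty, hblk (fun d => p ∈ d ∧ Disjoint c.1 d),
        card_point_disjoint hα hB (mem_coe.1 c.2) hp]
    · have hb : b.1.card = 6 := hB.1 b.1 b.2
      simp only [h00, h0p, h0b, hb0, hbp, and_false, if_false, and_true, filter_false, card_empty,
        hmem, hb]
    · have hq : q ∉ b.1 := fun hq => h ((hbp q b).2 hq)
      simp only [hp0, hb0, hpq, hpb, hbp, hbc, and_false, false_and, if_false, filter_false,
        card_empty, and_comm (a := Disjoint b.1 _), hblk (fun d => q ∈ d ∧ Disjoint b.1 d),
        card_point_disjoint hα hB (mem_coe.1 b.2) hq]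
    · have hnd : ¬ Disjoint b.1 c.1 := fun hd => h ((hbc b c).2 hd)
      have hi : (b.1 ∩ c.1).card = 2 := by
        refine (inter_22 hα hB b.2 c.2 fun e => hne (by rw [Subtype.ext e])).resolve_left fun e => ?_
        exact hnd (disjoint_iff_inter_eq_empty.2 (card_eq_zero.1 e))
      simp only [hb0, hbp, hbc, and_false, if_false,
        hblk (fun d => Disjoint b.1 d ∧ Disjoint c.1 d), card_disjoint_both_four hα hB b.2 c.2 hi]
      rw [show (univ.filter fun a => a ∈ b.1 ∧ a ∈ c.1) = b.1 ∩ c.1 from by ext; simp, hi]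

/-! ### Versions for sets of blocks -/

theorem blockGraph_srg_set {α : Type*} [Fintype α] (hα : Fintype.card α = 22)
    {B : Set (Finset α)} (hB : IsSteinerSystem 3 6 B) [Fintype B]
    [DecidableRel (blockGraph B).Adj] : (blockGraph B).IsSRGWith 77 16 0 4 := by
  classical
  obtain ⟨B0, rfl⟩ : ∃ B0 : Finset (Finset α), (B0 : Set (Finset α)) = B :=
    ⟨B.toFinite.toFinset, Set.Finite.coe_toFinset _⟩
  exact blockGraph_srg hα hB

theorem pointBlock_srg_set {α : Type*} [Fintype α] (hα : Fintype.card α = 22)
    {B : Set (Finset α)} (hB : IsSteinerSystem 3 6 B) [Fintype B]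
    [DecidableRel (pointBlockGraph B).Adj] : (pointBlockGraph B).IsSRGWith 100 22 0 6 := by
  classical
  obtain ⟨B0, rfl⟩ : ∃ B0 : Finset (Finset α), (B0 : Set (Finset α)) = B :=
    ⟨B.toFinite.toFinset, Set.Finite.coe_toFinset _⟩
  exact pointBlock_srg hα hB

end Cfsg.Agent.Lib.Design
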