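import Cfsg.Agent.Lib.Design.RankThree100
import Cfsg.Agent.Lib.Leech.ConfigHSGen
import Cfsg.Agent.Lib.Leech.SporConway

/-!
A group with a faithful rank 3 action on 100 points, subdegrees 1, 22, 77 and order 44352000
is the Higman–Sims group.
-/

set_option autoImplicit false

namespace Cfsg.Agent.Lib.RankThree100

open Cfsg MulAction
open Cfsg.Agent.Lib.Leech

theorem isoHS_of_action {G V : Type*} [Group G] [Fintype V] [MulAction G V] [FaithfulSMul G V]
    [IsPretransitive G V] (hV : Fintype.card V = 100) (hG : Nat.card G = 44352000) {a b c : V}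
    (hb : (orbit (stabilizer G a) b).ncard = 22) (hc : (orbit (stabilizer G a) c).ncard = 77) :
    Spor.IsoHS G := by
  classical
  obtain ⟨-, hv, -, -, -, hw, hvw⟩ := spor_vectors
  set v : leechLattice := Spor.leechV with hvdef
  set w : leechLattice := -(Spor.leechV + Spor.leechU') with hwdef
  have hv' : sqNorm (v : GolayPt → ℤ) = 48 := hv
  have hw' : sqNorm (w : GolayPt → ℤ) = 48 := hw
  have hvw' : dotInt (v : GolayPt → ℤ) (w : GolayPt → ℤ) = -32 := hvw
  let e : Spor.HS ≃* ↥(stabilizer Co0 v ⊓ stabilizer Co0 w) :=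
    hsEquiv.trans (MulEquiv.subgroupCongr stab_HS_eq)
  set K := stabilizer Co0 v ⊓ stabilizer Co0 w
  haveI : IsSimpleGroup K := haveI := isSimpleGroup_HS; e.symm.isSimpleGroup
  have hK : Nat.card K = 44352000 := (Nat.card_congr e.toEquiv).symm.trans card_HS
  let S := hsSet v w
  have hSinv : ∀ (k : K) {x : leechLattice}, x ∈ S → k.1 • x ∈ S := fun k _ hx =>
    pairConfig_inv ⟨k.1, k.2.1, k.2.2⟩ _ hx
  letI : MulAction K S :=
    { smul := fun k x => ⟨k.1 • x.1, hSinv k x.2⟩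
      one_smul := fun x => Subtype.ext (one_smul Co0 x.1)
      mul_smul := fun k l x => Subtype.ext (mul_smul k.1 l.1 x.1) }
  have hS100 : Nat.card S = 100 :=
    (Nat.card_coe_set_eq S).trans (hsSet_ncard v w hv' hw' hvw')
  haveI : Finite S := Nat.finite_of_card_ne_zero (by omega)
  haveI : Fintype S := Fintype.ofFinite _
  haveI : IsPretransitive K S := ⟨fun x y => by
    obtain ⟨g, g1, g2, g3⟩ := hsSet_smul_eq hv' hw' hvw' x.2 y.2
    exact ⟨⟨g, g1, g2⟩, Subtype.ext g3⟩⟩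
  haveI : FaithfulSMul K S := by
    refine ⟨fun {k l} hkl => ?_⟩
    rcases (MonoidHom.normal_ker (MulAction.toPermHom K S)).eq_bot_or_eq_top with h | h
    · exact (MonoidHom.ker_eq_bot_iff _).1 h (Equiv.ext hkl)
    · exfalso
      haveI : Nontrivial S := Fintype.one_lt_card_iff_nontrivial.1 (by
        rw [← Nat.card_eq_fintype_card, hS100]; norm_num)
      obtain ⟨x, y, hxy⟩ := exists_pair_ne S
      obtain ⟨g, hg⟩ := exists_smul_eq K x y
      have hg' : g ∈ (MulAction.toPermHom K S).ker := h ▸ Subgroup.mem_top g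
      exact hxy ((show g • x = x from Equiv.ext_iff.1 (MonoidHom.mem_ker.1 hg') x) ▸ hg)
  obtain ⟨x, hx⟩ : S.Nonempty := Set.nonempty_of_ncard_ne_zero (by
    rw [hsSet_ncard v w hv' hw' hvw']; norm_num)
  obtain ⟨h22, h77, htr⟩ := hsSet_rank3 hv' hw' hvw' hx
  obtain ⟨y, hy, hyd⟩ := Set.nonempty_of_ncard_ne_zero (h22.trans_ne (by norm_num))
  obtain ⟨z, hz, hzx, hzd⟩ := Set.nonempty_of_ncard_ne_zero (h77.trans_ne (by norm_num))
  have horb : ∀ u (hu : u ∈ S), u ≠ x →
      Subtype.val '' orbit (stabilizer K (⟨x, hx⟩ : S)) (⟨u, hu⟩ : S) =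
        {t | t ∈ S ∧ t ≠ x ∧ (dotInt (x : GolayPt → ℤ) (t : GolayPt → ℤ) = 8 ↔
          dotInt (x : GolayPt → ℤ) (u : GolayPt → ℤ) = 8)} := by
    intro u hu hux
    ext t
    constructor
    · rintro ⟨_, ⟨k, rfl⟩, rfl⟩
      have hkx : k.1.1 • x = x := congrArg Subtype.val k.2
      refine ⟨hSinv k.1 hu, fun e => hux (MulAction.injective k.1.1 (e.trans hkx.symm)), ?_⟩
      show dotInt (x : GolayPt → ℤ) ((k.1.1 • u : leechLattice) : GolayPt → ℤ) = 8 ↔ _
      have hd := dotInt_smul k.1.1 x u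
      rw [hkx] at hd
      rw [hd]
    · rintro ⟨ht, htx, hd⟩
      obtain ⟨g, g1, g2, g3, g4⟩ := htr u hu t ht hux htx hd.symm
      exact ⟨_, ⟨⟨⟨g, g1, g2⟩, Subtype.ext g3⟩, rfl⟩, g4⟩
  have hyx : y ≠ x := by
    rintro rfl
    rw [dotInt_self, hy.1] at hyd
    omega
  have hb' : (orbit (stabilizer K (⟨x, hx⟩ : S)) (⟨y, hy⟩ : S)).ncard = 22 := by
    rw [← Set.ncard_image_of_injective _ Subtype.val_injective, horb y hy hyx]
    refine Eq.trans (congrArg Set.ncard ?_) h22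
    ext t
    simp only [Set.mem_ofPred_eq, hyd, iff_true]
    refine ⟨fun ⟨h1, _, h3⟩ => ⟨h1, h3⟩, fun ⟨h1, h3⟩ => ⟨h1, ?_, h3⟩⟩
    rintro rfl
    rw [dotInt_self, h1.1] at h3
    omega
  have hc' : (orbit (stabilizer K (⟨x, hx⟩ : S)) (⟨z, hz⟩ : S)).ncard = 77 := by
    rw [← Set.ncard_image_of_injective _ Subtype.val_injective, horb z hz hzx]
    refine Eq.trans (congrArg Set.ncard ?_) h77
    ext t
    simp only [Set.mem_ofPred_eq, iff_false, hzd]
    rfl
  obtain ⟨f⟩ := mulEquiv_of_actions (G := G) (H := K) hV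
    (by rw [← Nat.card_eq_fintype_card]; exact hS100) hG hK hb hc hb' hc'
  exact ⟨f.trans e.symm⟩

end Cfsg.Agent.Lib.RankThree100
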