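import Cfsg.Agent.Lib.Design.WittAutThree
import Cfsg.Prelude.Def_Sporadic

/-!
Orders, transitivity and simplicity for the automorphism groups of the large Witt systems.
-/

set_option autoImplicit false
set_option maxRecDepth 20000

namespace Cfsg.Agent.Lib.WittAut

open Cfsg Finset
open scoped Pointwise

variable {α : Type*} [Fintype α] [DecidableEq α]

theorem result24 (hα : Fintype.card α = 24) {B : Set (Finset α)} (hB : IsSteinerSystem 5 8 B) :
    IsM24 (setSystemAut B) ∧ MulAction.IsMultiplyPretransitive (setSystemAut B) α 5 := by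
  obtain ⟨e, he⟩ := WittModel.model24 hα hB
  obtain ⟨φ, hφ⟩ := aut24 he
  haveI : IsSimpleGroup ↥M24 := Golay.isSimpleGroup_M24
  refine ⟨⟨φ.isSimpleGroup, (Nat.card_congr φ.toEquiv).trans Golay.card_M24⟩, ?_⟩
  rw [MulAction.isMultiplyPretransitive_iff]
  intro x y
  obtain ⟨g, hg, hxy⟩ := Golay.five_transitive (x.trans e.toEmbedding) (y.trans e.toEmbedding)
  refine ⟨φ.symm ⟨g, hg⟩, Function.Embedding.ext fun i => e.injective ?_⟩
  show e (((φ.symm ⟨g, hg⟩ : setSystemAut B) : Equiv.Perm α) (x i)) = e (y i)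
  rw [← hφ, φ.apply_symm_apply]
  exact hxy i

theorem result23 (hα : Fintype.card α = 23) {B : Set (Finset α)} (hB : IsSteinerSystem 4 7 B) :
    IsM23 (setSystemAut B) ∧ MulAction.IsMultiplyPretransitive (setSystemAut B) α 4 := by
  obtain ⟨e, -, he⟩ := WittModel.model23 hα hB
  obtain ⟨φ, hφ⟩ := aut23 he
  haveI : IsSimpleGroup ↥(MulAction.stabilizer ↥M24 (e none)) := Golay.isSimpleGroup_stab1 _
  refine ⟨⟨φ.isSimpleGroup, ?_⟩, ?_⟩
  · obtain ⟨i⟩ := Golay.stab1_iso (e none)
    rw [Nat.card_congr φ.toEquiv, ← Nat.card_congr i.toEquiv, Golay.card_fix1]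
  rw [MulAction.isMultiplyPretransitive_iff]
  intro x y
  let P : (Fin 4 ↪ α) → List GolayPt := fun x =>
    e none :: (List.finRange 4).map fun i => e (some (x i))
  have hnd : ∀ x, (P x).Nodup := fun x => List.nodup_cons.2 ⟨by simp,
    (List.nodup_finRange 4).map fun i j h => x.injective (Option.some_injective _ (e.injective h))⟩
  obtain ⟨g, hg, hxy⟩ := Golay.exists_map_list (P x) (P y) (by simp [P]) (by simp [P]) (hnd x) (hnd y)
  simp only [P, List.map_cons, List.map_map, List.cons.injEq] at hxy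
  refine ⟨φ.symm ⟨⟨g, hg⟩, hxy.1⟩, Function.Embedding.ext fun i => ?_⟩
  refine Option.some_injective _ (e.injective ?_)
  show e (some (((φ.symm ⟨⟨g, hg⟩, hxy.1⟩ : setSystemAut B) : Equiv.Perm α) (x i))) = _
  rw [← hφ, φ.apply_symm_apply]
  exact List.map_inj_left.1 hxy.2 i (List.mem_finRange i)

theorem result22 (hα : Fintype.card α = 22) {B : Set (Finset α)} (hB : IsSteinerSystem 3 6 B) :
    Nat.card (setSystemAut B) = 887040 ∧
      MulAction.IsMultiplyPretransitive (setSystemAut B) α 3 ∧
      ∃ H : Subgroup (setSystemAut B), H.index = 2 ∧ IsM22 H := by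
  obtain ⟨e, hA, hB', he⟩ := exists_place22 hα hB
  set φ := aut22 hA hB' he with hφ
  have hcard : Nat.card (setSystemAut B) = 887040 := by
    rw [← Nat.card_congr φ.toEquiv, card_duadStab]
  refine ⟨hcard, ?_, ?_⟩
  · rw [MulAction.isMultiplyPretransitive_iff]
    intro x y
    let P : (Fin 3 ↪ α) → List GolayPt := fun x =>
      ptA :: ptB :: (List.finRange 3).map fun i => place e (x i)
    have hnd : ∀ x, (P x).Nodup := fun x => by
      refine List.nodup_cons.2 ⟨?_, List.nodup_cons.2 ⟨?_,
        (List.nodup_finRange 3).map fun i j h => x.injective (place_injective e h)⟩⟩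
      · simp only [List.mem_cons, List.mem_map, not_or, not_exists, not_and]
        exact ⟨ptA_ne_ptB, fun i _ h => place_notMem hA hB' (x i) (by simp [h, duad])⟩
      · simp only [List.mem_map, not_exists, not_and]
        exact fun i _ h => place_notMem hA hB' (x i) (by simp [h, duad])
    obtain ⟨g, hg, hxy⟩ := Golay.exists_map_list (P x) (P y) (by simp [P]) (by simp [P]) (hnd x) (hnd y)
    simp only [P, List.map_cons, List.map_map, List.cons.injEq] at hxy
    have hst : (⟨g, hg⟩ : ↥M24) ∈ duadStab := by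
      rw [MulAction.mem_stabilizer_iff, duad, smul_finset_insert, smul_finset_singleton]
      exact congrArg₂ (fun a b => ({a, b} : Finset GolayPt)) hxy.1 hxy.2.1
    refine ⟨φ ⟨_, hst⟩, Function.Embedding.ext fun i => place_injective e ?_⟩
    show place e ((φ ⟨_, hst⟩ : Equiv.Perm α) (x i)) = _
    rw [hφ, aut22_apply]
    exact List.map_inj_left.1 hxy.2.2 i (List.mem_finRange i)
  · let K : Subgroup ↥M24 := MulAction.stabilizer ↥M24 ptA ⊓ MulAction.stabilizer ↥M24 ptB
    have hle : K ≤ duadStab := fun g hg => by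
      rw [MulAction.mem_stabilizer_iff, duad, smul_finset_insert, smul_finset_singleton]
      exact congrArg₂ (fun a b => ({a, b} : Finset GolayPt)) hg.1 hg.2
    refine ⟨(K.subgroupOf duadStab).map φ.toMonoidHom, ?_, ?_⟩
    · have hK : Nat.card ↥((K.subgroupOf duadStab).map φ.toMonoidHom) = 443520 := by
        rw [← Nat.card_congr (Subgroup.equivMapOfInjective _ _ φ.injective).toEquiv,
          Nat.card_congr (Subgroup.subgroupOfEquivOfLe hle).toEquiv]
        obtain ⟨i⟩ := Golay.stab2_iso ptA ptB ptA_ne_ptB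
        rw [← Nat.card_congr i.toEquiv, Golay.card_fix2]
      have h := ((K.subgroupOf duadStab).map φ.toMonoidHom).card_mul_index
      rw [hK, hcard] at h
      omega
    · haveI : IsSimpleGroup ↥K := Golay.isSimpleGroup_stab2 ptA ptB ptA_ne_ptB
      refine ⟨((Subgroup.equivMapOfInjective (K.subgroupOf duadStab) φ.toMonoidHom φ.injective).symm.trans
        (Subgroup.subgroupOfEquivOfLe hle)).isSimpleGroup, ?_⟩
      rw [← Nat.card_congr (Subgroup.equivMapOfInjective _ _ φ.injective).toEquiv,
        Nat.card_congr (Subgroup.subgroupOfEquivOfLe hle).toEquiv]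
      obtain ⟨i⟩ := Golay.stab2_iso ptA ptB ptA_ne_ptB
      rw [← Nat.card_congr i.toEquiv, Golay.card_fix2]

end Cfsg.Agent.Lib.WittAut
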