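import Cfsg.Agent.Lib.Design.HSData
import Cfsg.Agent.Lib.Design.WittAutGroups
import Cfsg.Agent.Lib.Design.Graph22

/-!
The graph on 100 vertices of an S(3, 6, 22) has 88704000 automorphisms: it is vertex transitive, and
the automorphisms fixing the extra vertex are those of the system.
-/

set_option autoImplicit false
set_option maxRecDepth 100000

namespace Cfsg.Agent.Lib.HSGraph

open Cfsg Finset
open Cfsg.Agent.Lib.WittAut
open scoped Pointwise

/-! ### The model -/

/-- Adjacency of the model, for the smaller number first. -/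
def adjLe (i j : ℕ) : Bool :=
  if i == 0 then decide (1 ≤ j && j ≤ 22)
  else if j ≤ 22 then false
  else if i ≤ 22 then (Data.blockMasks.getD (j - 23) 0).testBit i
  else i != j && (Data.blockMasks.getD (i - 23) 0) &&& (Data.blockMasks.getD (j - 23) 0) == 2 ^ 23 + 1

/-- Adjacency of the model. -/
def adjN (i j : ℕ) : Bool := if i ≤ j then adjLe i j else adjLe j i

/-- The image of a number under an image list. -/
def img (l : List ℕ) (i : Fin 100) : Fin 100 := ⟨l.getD i.val 0 % 100, Nat.mod_lt _ (by norm_num)⟩

/-- The vertices reached from a set in some steps. -/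
def reachN : ℕ → ℕ → ℕ
  | 0, m => m
  | n + 1, m => reachN n ((List.range 100).foldl (fun acc i =>
      if m.testBit i then
        Data.autLists.foldl (fun a l => a ||| (1 <<< (l.getD i 0 % 100))) acc
      else acc) m)

theorem model_checks :
    (Data.autLists.all fun l => (List.range 100).all fun i => (List.range 100).all fun j =>
      adjN (l.getD i 0 % 100) (l.getD j 0 % 100) == adjN i j) = true ∧
    (Data.autLists.all fun l =>
      (List.range 100).foldl (fun a i => a ||| (1 <<< (l.getD i 0 % 100))) 0 == 2 ^ 100 - 1) = true ∧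
    reachN 8 1 = 2 ^ 100 - 1 ∧
    Data.blockMasks.length = 77 ∧
    (Data.blockMasks.all fun m => decide (m < 2 ^ 24) && Golay.isCodeMask m &&
      Golay.popCount m == 8 && m.testBit 23 && m.testBit 0) = true ∧
    Data.blockMasks.Nodup := by
  decide +kernel

theorem adjN_zero_left (j : ℕ) : adjN 0 j = decide (1 ≤ j ∧ j ≤ 22) := by
  simp [adjN, adjLe]

theorem adjN_comm : ∀ i j : Fin 100, adjN i.val j.val = adjN j.val i.val := by
  intro i j
  unfold adjN
  rcases lt_trichotomy i.val j.val with h | h | h
  · rw [if_pos h.le, if_neg (by omega)]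
  · rw [h]
  · rw [if_neg (by omega), if_pos h.le]

theorem adjN_point_block {i k : ℕ} (h1 : 1 ≤ i) (h2 : i ≤ 22) :
    adjN i (23 + k) = (Data.blockMasks.getD k 0).testBit i := by
  unfold adjN adjLe
  rw [if_pos (by omega), if_neg (by simp; omega), if_neg (by omega), if_pos h2,
    Nat.add_sub_cancel_left]

theorem adjN_point_point {i j : ℕ} (h1 : 1 ≤ i) (h2 : i ≤ 22) (h3 : 1 ≤ j) (h4 : j ≤ 22) :
    adjN i j = false := by
  unfold adjN adjLe
  by_cases h : i ≤ j
  · rw [if_pos h, if_neg (by simp; omega), if_pos h4]
  · rw [if_neg h, if_neg (by simp; omega), if_pos h2]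

theorem adjN_block_block {k l : ℕ} (h : k ≤ l) :
    adjN (23 + k) (23 + l) = (23 + k != 23 + l &&
      Data.blockMasks.getD k 0 &&& Data.blockMasks.getD l 0 == 2 ^ 23 + 1) := by
  unfold adjN adjLe
  rw [if_pos (by omega), if_neg (by simp), if_neg (by omega), if_neg (by omega),
    Nat.add_sub_cancel_left, Nat.add_sub_cancel_left]

/-! ### Vertices of the graph -/

variable {α : Type*} [Fintype α] [DecidableEq α] {B : Set (Finset α)}
  {e : Option (Option α) ≃ GolayPt}

/-- The mask of a block with the pair added. -/
noncomputable def blockMask (e : Option (Option α) ≃ GolayPt) (s : Finset α) : ℕ :=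
  Golay.maskOf (lift2 e s)

/-- The number of a vertex in the model. -/
noncomputable def num (e : Option (Option α) ≃ GolayPt) : Option (α ⊕ B) → ℕ
  | none => 0
  | some (Sum.inl x) => (Golay.idx (place e x)).val
  | some (Sum.inr b) => 23 + Data.blockMasks.idxOf (blockMask e b.1)

variable (hA : e none = ptA) (hB : e (some none) = ptB)
  (he : ∀ s : Finset α, s ∈ B ↔ lift2 e s ∈ octads)
include hA hB he

theorem mem_lift2 (x : α) (s : Finset α) : place e x ∈ lift2 e s ↔ x ∈ s := by
  simp [lift2, place_notMem hA hB x, (place_injective e).eq_iff]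

theorem place_range (x : α) :
    1 ≤ (Golay.idx (place e x)).val ∧ (Golay.idx (place e x)).val ≤ 22 := by
  have h := place_notMem hA hB x
  simp only [duad, mem_insert, mem_singleton, not_or] at h
  have h23 : (Golay.idx (place e x)).val ≠ 23 := fun c => h.1 (by
    rw [ptA, ← Golay.pt_idx (place e x)]; exact congrArg Golay.pt (Fin.ext c))
  have h0 : (Golay.idx (place e x)).val ≠ 0 := fun c => h.2 (by
    rw [ptB, ← Golay.pt_idx (place e x)]; exact congrArg Golay.pt (Fin.ext c))
  have := (Golay.idx (place e x)).isLt
  omega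

theorem blockMask_mem (hcard : B.ncard = 77) (b : B) :
    blockMask e b.1 ∈ Data.blockMasks := by
  -- the listed masks are all images of blocks, so nothing else is
  have hsub : ((Data.blockMasks.toFinset : Finset ℕ) : Set ℕ) ⊆ blockMask e '' B := by
    intro m hm
    rw [mem_coe, List.mem_toFinset] at hm
    have h := List.all_eq_true.1 model_checks.2.2.2.2.1 m hm
    simp only [Bool.and_eq_true, beq_iff_eq, decide_eq_true_eq] at h
    obtain ⟨⟨⟨⟨hlt, hc⟩, h8⟩, hb23⟩, hb0⟩ := h
    have ho : Golay.ptsOf m ∈ octads := Golay.mem_octads_of_mask (by simp [hc, h8])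
    obtain ⟨s, hs⟩ := exists_lift2 hA hB (o := Golay.ptsOf m) (by
      simp only [duad, insert_subset_iff, singleton_subset_iff, Golay.mem_ptsOf, ptA, ptB,
        Golay.idx_pt]
      exact ⟨hb23, hb0⟩)
    exact ⟨s, (he s).2 (hs ▸ ho), by rw [blockMask, hs, Golay.maskOf_ptsOf hlt]⟩
  have heq := Set.eq_of_subset_of_ncard_le hsub (by
    rw [Set.ncard_coe_finset, List.toFinset_card_of_nodup model_checks.2.2.2.2.2,
      model_checks.2.2.2.1, ← hcard]
    exact Set.ncard_image_le (Set.toFinite B)) (Set.toFinite _)
  have : blockMask e b.1 ∈ (Data.blockMasks.toFinset : Set ℕ) := heq ▸ ⟨b.1, b.2, rfl⟩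
  rwa [mem_coe, List.mem_toFinset] at this

theorem blockMask_getD (hcard : B.ncard = 77) (b : B) :
    Data.blockMasks.idxOf (blockMask e b.1) < 77 ∧
    Data.blockMasks.getD (Data.blockMasks.idxOf (blockMask e b.1)) 0 = blockMask e b.1 := by
  have h := List.idxOf_lt_length_iff.2 (blockMask_mem hA hB he hcard b)
  refine ⟨model_checks.2.2.2.1 ▸ h, ?_⟩
  rw [List.getD_eq_getElem _ _ h, List.getElem_idxOf h]

theorem num_lt (hcard : B.ncard = 77) (v : Option (α ⊕ B)) : num e v < 100 := by
  rcases v with _ | x | b
  · simp [num]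
  · have := (place_range hA hB he x).2; simp only [num]; omega
  · have := (blockMask_getD hA hB he hcard b).1; simp only [num]; omega

theorem num_injective (hcard : B.ncard = 77) : Function.Injective (num (B := B) e) := by
  intro u v h
  rcases u with _ | x | b <;> rcases v with _ | y | c <;> simp only [num] at h
  · rfl
  · have := (place_range hA hB he y).1; omega
  · omega
  · have := (place_range hA hB he x).1; omega
  · rw [place_injective e (Golay.ptEquiv.injective (Fin.ext h))]
  · have := (place_range hA hB he x).2; omega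
  · omega
  · have := (place_range hA hB he y).2; omega
  · have h1 := (blockMask_getD hA hB he hcard b).2
    rw [Nat.add_left_cancel h, (blockMask_getD hA hB he hcard c).2] at h1
    have h2 : lift2 e b.1 = lift2 e c.1 := by
      rw [← Golay.ptsOf_maskOf (lift2 e b.1), ← Golay.ptsOf_maskOf (lift2 e c.1)]
      exact congrArg Golay.ptsOf h1.symm
    have h3 : b.1 = c.1 := Finset.ext fun p => by
      rw [← mem_lift2 hA hB he p b.1, h2, mem_lift2 hA hB he]
    rw [Subtype.ext h3]

theorem adj_iff (hα : Fintype.card α = 22) (hS : IsSteinerSystem 3 6 B) (hcard : B.ncard = 77)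
    (u v : Option (α ⊕ B)) :
    (pointBlockGraph B).Adj u v ↔ adjN (num e u) (num e v) = true := by
  have hpb : ∀ (x : α) (b : B), (pointBlockGraph B).Adj (some (Sum.inl x)) (some (Sum.inr b)) ↔
      adjN (num e (some (Sum.inl x) : Option (α ⊕ B))) (num e (some (Sum.inr b))) = true := by
    intro x b
    obtain ⟨hlo, hhi⟩ := place_range hA hB he x
    obtain ⟨-, hget⟩ := blockMask_getD hA hB he hcard b
    simp only [num]
    rw [adjN_point_block hlo hhi, hget, blockMask, ← Golay.mem_ptsOf, Golay.ptsOf_maskOf, mem_lift2 hA hB he]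
    simp [pointBlockGraph, pointBlockRel]
  have h0p : ∀ (x : α), adjN 0 (num e (some (Sum.inl x) : Option (α ⊕ B))) = true := by
    intro x
    rw [adjN_zero_left]
    exact decide_eq_true (place_range hA hB he x)
  have h0b : ∀ b : B, adjN 0 (num e (some (Sum.inr b))) = false := by
    intro b
    rw [adjN_zero_left]
    exact decide_eq_false (by simp only [num]; omega)
  have hsymm : ∀ u v : Option (α ⊕ B), adjN (num e u) (num e v) = adjN (num e v) (num e u) :=
    fun u v => adjN_comm ⟨_, num_lt hA hB he hcard u⟩ ⟨_, num_lt hA hB he hcard v⟩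
  rcases u with _ | x | b <;> rcases v with _ | y | c
  · simp [num, adjN_zero_left]
  · rw [show num e (none : Option (α ⊕ B)) = 0 from rfl, h0p y]
    simp [pointBlockGraph, pointBlockRel]
  · rw [show num e (none : Option (α ⊕ B)) = 0 from rfl, h0b c]
    simp [pointBlockGraph, pointBlockRel]
  · rw [hsymm, show num e (none : Option (α ⊕ B)) = 0 from rfl, h0p x]
    simp [pointBlockGraph, pointBlockRel]
  · obtain ⟨hxl, hxh⟩ := place_range hA hB he x
    obtain ⟨hyl, hyh⟩ := place_range hA hB he y
    refine iff_of_false (by simp [pointBlockGraph, pointBlockRel]) ?_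
    simp only [num]
    simp [adjN_point_point hxl hxh hyl hyh]
  · exact hpb x c
  · rw [hsymm, show num e (none : Option (α ⊕ B)) = 0 from rfl, h0b b]
    simp [pointBlockGraph, pointBlockRel]
  · rw [hsymm, SimpleGraph.adj_comm]
    exact hpb y b
  · obtain ⟨-, hb⟩ := blockMask_getD hA hB he hcard b
    obtain ⟨-, hc⟩ := blockMask_getD hA hB he hcard c
    have hinj := (num_injective hA hB he hcard).eq_iff (a := some (Sum.inr b)) (b := some (Sum.inr c))
    simp only [num, Option.some.injEq, Sum.inr.injEq] at hinj
    have hkey : ∀ s t : Finset α, (blockMask e s &&& blockMask e t == 2 ^ 23 + 1) = true ↔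
        Disjoint s t := by
      intro s t
      rw [beq_iff_eq]
      have hl : blockMask e s &&& blockMask e t < 2 ^ 24 :=
        lt_of_le_of_lt Nat.and_le_left (Golay.maskOf_lt _)
      have hd : Golay.ptsOf (2 ^ 23 + 1) = duad := by
        ext p
        have key : ∀ i : Fin 24, (2 ^ 23 + 1 : ℕ).testBit i.val = true ↔ i.val = 23 ∨ i.val = 0 := by
          decide +kernel
        simp only [Golay.mem_ptsOf, key (Golay.idx p), duad, mem_insert, mem_singleton]
        constructor
        · rintro (h | h)
          · left; rw [ptA, ← Golay.pt_idx p]; exact congrArg Golay.pt (Fin.ext h)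
          · right; rw [ptB, ← Golay.pt_idx p]; exact congrArg Golay.pt (Fin.ext h)
        · rintro (rfl | rfl)
          · left; simp [ptA, Golay.idx_pt]
          · right; simp [ptB, Golay.idx_pt]
      constructor
      · intro h
        have h2 := congrArg Golay.ptsOf h
        rw [Golay.ptsOf_land, blockMask, blockMask, Golay.ptsOf_maskOf, Golay.ptsOf_maskOf, hd] at h2
        rw [disjoint_left]
        intro p hp hp'
        refine place_notMem hA hB p ?_
        rw [← h2, mem_inter]
        exact ⟨(mem_lift2 hA hB he p s).2 hp, (mem_lift2 hA hB he p t).2 hp'⟩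
      · intro h
        refine Golay.ptsOf_injective hl (by norm_num) ?_
        rw [Golay.ptsOf_land, blockMask, blockMask, Golay.ptsOf_maskOf, Golay.ptsOf_maskOf, hd]
        ext p
        rw [mem_inter]
        refine ⟨fun ⟨h1, h2⟩ => ?_, fun hp => ⟨mem_union_left _ hp, mem_union_left _ hp⟩⟩
        by_contra hp
        obtain ⟨x, rfl⟩ := exists_place hA hB hp
        exact disjoint_left.1 h ((mem_lift2 hA hB he x s).1 h1) ((mem_lift2 hA hB he x t).1 h2)
    have hle : ∀ (b c : B), num e (some (Sum.inr b)) ≤ num e (some (Sum.inr c)) →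
        (adjN (num e (some (Sum.inr b))) (num e (some (Sum.inr c))) = true ↔
          b ≠ c ∧ Disjoint b.1 c.1) := by
      intro b c hbc
      obtain ⟨-, hb⟩ := blockMask_getD hA hB he hcard b
      obtain ⟨-, hc⟩ := blockMask_getD hA hB he hcard c
      have hinj := (num_injective hA hB he hcard).eq_iff (a := some (Sum.inr b)) (b := some (Sum.inr c))
      simp only [num, Option.some.injEq, Sum.inr.injEq] at hinj hbc ⊢
      rw [adjN_block_block (Nat.le_of_add_le_add_left hbc), Bool.and_eq_true,
        bne_iff_ne, hb, hc, hkey]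
      exact and_congr_left' (not_congr hinj)
    have hadj : (pointBlockGraph B).Adj (some (Sum.inr b)) (some (Sum.inr c)) ↔
        b ≠ c ∧ Disjoint b.1 c.1 := by
      simp [pointBlockGraph, pointBlockRel, disjoint_comm]
    rw [hadj]
    rcases le_total (num e (some (Sum.inr b))) (num e (some (Sum.inr c))) with h | h
    · exact (hle b c h).symm
    · rw [hsymm, hle c b h, ne_comm, disjoint_comm]

end Cfsg.Agent.Lib.HSGraph
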