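import Cfsg.Agent.Lib.Design.HSAut

/-!
Counting the automorphisms of the graph on 100 vertices.
-/

set_option autoImplicit false
set_option maxRecDepth 100000

namespace Cfsg.Agent.Lib.HSGraph

open Cfsg Finset
open Cfsg.Agent.Lib.WittAut

/-- Automorphisms of a graph as pairs of an image of a vertex and an automorphism fixing it. -/
theorem card_iso_eq {V : Type*} [Finite V] (Γ : SimpleGraph V) (v0 : V)
    (htr : ∀ v, ∃ f : Γ ≃g Γ, f v0 = v) :
    Nat.card (Γ ≃g Γ) = Nat.card V * Nat.card {f : Γ ≃g Γ // f v0 = v0} := by
  choose t ht using htr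
  rw [← Nat.card_prod]
  exact Nat.card_congr
    { toFun := fun f => (f v0, ⟨f.trans (t (f v0)).symm, by
        show (t (f v0)).symm (f v0) = v0
        exact (RelIso.symm_apply_eq _).2 (ht _).symm⟩)
      invFun := fun p => p.2.1.trans (t p.1)
      left_inv := fun f => RelIso.ext fun x => by
        show t (f v0) ((t (f v0)).symm (f x)) = f x
        simp
      right_inv := fun p => by
        obtain ⟨v, f, hf⟩ := p
        have h1 : t v (f v0) = v := by rw [hf]; exact ht v
        refine Prod.ext h1 (Subtype.ext (RelIso.ext fun x => ?_))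
        show (t (t v (f v0))).symm (t v (f x)) = f x
        rw [h1]; simp }

variable {α : Type*} [Fintype α] [DecidableEq α] {B : Set (Finset α)}
  {e : Option (Option α) ≃ GolayPt}

section

variable (hA : e none = ptA) (hB : e (some none) = ptB)
  (he : ∀ s : Finset α, s ∈ B ↔ lift2 e s ∈ octads)
include hA hB he

/-- The graph is vertex transitive. -/
theorem transitive (hα : Fintype.card α = 22) (hS : IsSteinerSystem 3 6 B) (hcard : B.ncard = 77)
    (v : Option (α ⊕ B)) : ∃ f : pointBlockGraph B ≃g pointBlockGraph B, f none = v := by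
  classical
  haveI : Fintype B := Fintype.ofFinite _
  have hcV : Fintype.card (Option (α ⊕ B)) = Fintype.card (Fin 100) := by
    rw [Fintype.card_option, Fintype.card_sum, hα, ← Nat.card_eq_fintype_card (α := B),
      Nat.card_coe_set_eq, hcard, Fintype.card_fin]
  let w : Option (α ⊕ B) → Fin 100 := fun v => ⟨num e v, num_lt hA hB he hcard v⟩
  have hwinj : Function.Injective w := fun u v h =>
    num_injective hA hB he hcard (congrArg Fin.val h)
  let W : Option (α ⊕ B) ≃ Fin 100 := Equiv.ofBijective w
    ((Fintype.bijective_iff_injective_and_card w).2 ⟨hwinj, hcV⟩)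
  have hlist : ∀ l ∈ Data.autLists, ∃ f : pointBlockGraph B ≃g pointBlockGraph B,
      ∀ v, num e (f v) = l.getD (num e v) 0 % 100 := by
    intro l hl
    have hperm : Function.Surjective (img l) := by
      intro j
      have h : ((List.range 100).foldl (fun a i => a ||| (1 <<< (l.getD i 0 % 100))) 0).testBit
          j.val = true := by
        rw [beq_iff_eq.1 (List.all_eq_true.1 model_checks.2.1 l hl), Nat.testBit_two_pow_sub_one]
        simp
      rcases Golay.testBit_foldl_lor _ _ _ _ h with h' | ⟨i, hi, hi'⟩
      · simp at h'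
      · exact ⟨⟨i, List.mem_range.1 hi⟩, Fin.ext hi'⟩
    let p : Fin 100 ≃ Fin 100 := Equiv.ofBijective (img l) (Finite.surjective_iff_bijective.1 hperm)
    have hval : ∀ v, num e ((W.trans (p.trans W.symm)) v) = l.getD (num e v) 0 % 100 := fun v => by
      have h1 : W (W.symm (p (W v))) = p (W v) := W.apply_symm_apply _
      exact congrArg Fin.val h1
    refine ⟨{ toEquiv := W.trans (p.trans W.symm), map_rel_iff' := fun {u v} => ?_ }, hval⟩
    rw [adj_iff hA hB he hα hS hcard, adj_iff hA hB he hα hS hcard, hval, hval]
    have h := List.all_eq_true.1 (List.all_eq_true.1 (List.all_eq_true.1 model_checks.1 l hl)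
      (num e u) (List.mem_range.2 (num_lt hA hB he hcard u))) (num e v)
      (List.mem_range.2 (num_lt hA hB he hcard v))
    rw [beq_iff_eq.1 h]
  -- the orbit of the extra vertex is invariant, hence contains what is reached
  let P : ℕ → Prop := fun i => ∃ (f : pointBlockGraph B ≃g pointBlockGraph B), num e (f none) = i
  have hstep : ∀ n m, (∀ i, m.testBit i = true → P i) → ∀ i, (reachN n m).testBit i = true → P i := by
    intro n
    induction n with
    | zero => intro m hm; exact hm
    | succ n ih =>
      intro m hm
      refine ih _ ?_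
      have hinner : ∀ (ls : List (List ℕ)) (i acc : ℕ), m.testBit i = true →
          (∀ l ∈ ls, l ∈ Data.autLists) → (∀ k, acc.testBit k = true → P k) →
          ∀ k, (ls.foldl (fun a l => a ||| (1 <<< (l.getD i 0 % 100))) acc).testBit k = true → P k := by
        intro ls
        induction ls with
        | nil => intro i acc _ _ ha; exact ha
        | cons l ls ihl =>
          intro i acc hi hls ha
          refine ihl i _ hi (fun x hx => hls x (List.mem_cons_of_mem _ hx)) fun k hk => ?_
          rw [Nat.testBit_lor, Bool.or_eq_true] at hk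
          rcases hk with hk | hk
          · exact ha k hk
          · rw [Nat.one_shiftLeft, Nat.testBit_two_pow, decide_eq_true_eq] at hk
            obtain ⟨f, hf⟩ := hm i hi
            obtain ⟨g, hg⟩ := hlist l (hls l List.mem_cons_self)
            exact ⟨f.trans g, by rw [← hk, ← hf]; exact hg (f none)⟩
      have houter : ∀ (is : List ℕ) (acc : ℕ), (∀ k, acc.testBit k = true → P k) →
          ∀ k, (is.foldl (fun acc i => if m.testBit i then
            Data.autLists.foldl (fun a l => a ||| (1 <<< (l.getD i 0 % 100))) acc
            else acc) acc).testBit k = true → P k := by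
        intro is
        induction is with
        | nil => intro acc ha; exact ha
        | cons i is ihi =>
          intro acc ha
          refine ihi _ ?_
          by_cases hi : m.testBit i = true
          · simp only [if_pos hi]; exact hinner _ i acc hi (fun _ h => h) ha
          · simp only [if_neg hi]; exact ha
      exact houter _ m hm
  have h1 : ∀ i, (1 : ℕ).testBit i = true → P i := by
    intro i hi
    refine ⟨RelIso.refl _, ?_⟩
    show num e (none : Option (α ⊕ B)) = i
    rw [show (1 : ℕ) = 2 ^ 0 from rfl, Nat.testBit_two_pow, decide_eq_true_eq] at hi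
    simpa [num] using hi
  obtain ⟨f, hf⟩ := hstep 8 1 h1 (num e v) (by
    rw [model_checks.2.2.1, Nat.testBit_two_pow_sub_one, decide_eq_true_eq]
    exact num_lt hA hB he hcard v)
  exact ⟨f, num_injective hA hB he hcard hf⟩

end

theorem adj_none {v : Option (α ⊕ B)} :
    (pointBlockGraph B).Adj none v ↔ ∃ x, v = some (Sum.inl x) := by
  rcases v with _ | x | b <;> simp [pointBlockGraph, pointBlockRel]

theorem adj_point_block {x : α} {b : B} :
    (pointBlockGraph B).Adj (some (Sum.inl x)) (some (Sum.inr b)) ↔ x ∈ b.1 := by
  simp [pointBlockGraph, pointBlockRel]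

/-- The automorphisms fixing the extra vertex are the automorphisms of the system. -/
theorem card_fix_none : Nat.card {f : pointBlockGraph B ≃g pointBlockGraph B // f none = none} =
    Nat.card (setSystemAut B) := by
  classical
  have hpt : ∀ (f : {f : pointBlockGraph B ≃g pointBlockGraph B // f none = none}) (x : α),
      ∃ y, f.1 (some (Sum.inl x)) = some (Sum.inl y) := fun f x => by
    have h := (f.1.map_adj_iff).2 (adj_none.2 ⟨x, rfl⟩ :
      (pointBlockGraph B).Adj none (some (Sum.inl x)))
    rw [f.2] at h
    exact adj_none.1 h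
  choose s hs using hpt
  have hsbij : ∀ f, Function.Bijective (s f) := fun f =>
    Finite.injective_iff_bijective.1 fun x y h => by
      have h2 : f.1 (some (Sum.inl x)) = f.1 (some (Sum.inl y)) := by rw [hs, hs, h]
      simpa using f.1.injective h2
  have hblock : ∀ (f : {f : pointBlockGraph B ≃g pointBlockGraph B // f none = none}) (b : B),
      ∃ c : B, f.1 (some (Sum.inr b)) = some (Sum.inr c) ∧ b.1.image (s f) = c.1 := by
    intro f b
    rcases h : f.1 (some (Sum.inr b)) with _ | y | c
    · have := f.1.injective (h.trans f.2.symm); simp at this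
    · obtain ⟨x, rfl⟩ := (hsbij f).2 y
      have := f.1.injective (h.trans (hs f x).symm); simp at this
    · refine ⟨c, rfl, Finset.ext fun y => ?_⟩
      obtain ⟨x, rfl⟩ := (hsbij f).2 y
      rw [(hsbij f).1.mem_finset_image, ← adj_point_block (b := b), ← adj_point_block (b := c),
        ← h, ← hs]
      exact f.1.map_adj_iff.symm
  have haut : ∀ f, Equiv.ofBijective _ (hsbij f) ∈ setSystemAut B := fun f => by
    rw [mem_aut_iff]
    intro t ht
    obtain ⟨c, -, hc⟩ := hblock f ⟨t, ht⟩
    rw [show t.image (Equiv.ofBijective _ (hsbij f)) = c.1 from hc]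
    exact c.2
  refine Nat.card_congr (Equiv.ofBijective
    (fun f => (⟨Equiv.ofBijective _ (hsbij f), haut f⟩ : setSystemAut B)) ⟨fun f g hfg => ?_, fun σ => ?_⟩)
  · have hsfg : s f = s g := congrArg (fun σ : setSystemAut B => ⇑(σ : Equiv.Perm α)) hfg
    apply Subtype.ext
    refine RelIso.ext fun v => ?_
    rcases v with _ | x | b
    · rw [f.2, g.2]
    · rw [hs, hs, hsfg]
    · obtain ⟨c, hc, hci⟩ := hblock f b
      obtain ⟨d, hd, hdi⟩ := hblock g b
      rw [hc, hd, Subtype.ext (hci.symm.trans (hsfg ▸ hdi))]
  · let τ : B → B := fun b => ⟨b.1.image (σ : Equiv.Perm α), mem_aut_iff.1 σ.2 b.1 b.2⟩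
    have hτ : Function.Bijective τ := Finite.injective_iff_bijective.1 fun b c h =>
      Subtype.ext (image_injective (σ : Equiv.Perm α).injective (congrArg Subtype.val h))
    let F : Option (α ⊕ B) ≃ Option (α ⊕ B) :=
      ((Equiv.sumCongr (σ : Equiv.Perm α) (Equiv.ofBijective τ hτ))).optionCongr
    have hF : ∀ u v, (pointBlockGraph B).Adj (F u) (F v) ↔ (pointBlockGraph B).Adj u v := by
      have hm : ∀ (x : α) (b : B), (σ : Equiv.Perm α) x ∈ (τ b).1 ↔ x ∈ b.1 := fun x b =>
        (σ : Equiv.Perm α).injective.mem_finset_image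
      have hd : ∀ b c : B, Disjoint (τ b).1 (τ c).1 ↔ Disjoint b.1 c.1 := fun b c =>
        disjoint_image (σ : Equiv.Perm α).injective
      intro u v
      rcases u with _ | x | b <;> rcases v with _ | y | c <;>
        simp [F, pointBlockGraph, pointBlockRel, hm, hd, hτ.1.eq_iff]
    let f : pointBlockGraph B ≃g pointBlockGraph B := { toEquiv := F, map_rel_iff' := hF _ _ }
    have hf0 : f none = none := rfl
    refine ⟨⟨f, hf0⟩, Subtype.ext (Equiv.ext fun x => ?_)⟩
    have := hs ⟨f, hf0⟩ x
    exact (Sum.inl_injective (Option.some_injective _ this)).symm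

/-- The count. -/
theorem card_aut (hα : Fintype.card α = 22) (hS : IsSteinerSystem 3 6 B) :
    Nat.card (pointBlockGraph B ≃g pointBlockGraph B) = 88704000 := by
  obtain ⟨e, hA, hB, he⟩ := exists_place22 hα hS
  have hcard : B.ncard = 77 := by
    obtain ⟨B0, rfl⟩ := Golay.exists_blocks (B' := B)
    rw [Set.ncard_coe_finset]
    exact Design.card_blocks22 hα hS
  have hV : Nat.card (Option (α ⊕ B)) = 100 := by
    rw [Finite.card_option, Nat.card_sum, Nat.card_eq_fintype_card (α := α), hα,
      Nat.card_coe_set_eq, hcard]
  rw [card_iso_eq _ none (transitive hA hB he hα hS hcard), hV, card_fix_none,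
    (result22 hα hS).1]

end Cfsg.Agent.Lib.HSGraph
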