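import Mathlib

/-!
The 77 octads through a fixed pair, and automorphisms of the graph on 100 vertices built from them
(generated).
-/

set_option autoImplicit false

namespace Cfsg.Agent.Lib.HSGraph.Data

/-- The octads through the pair, as bit masks. -/
def blockMasks : List ℕ :=
  [8391797, 8398155, 8412681, 8421811, 8431757, 8471941, 8499969, 8505411, 8524371, 8536111,
  8546577, 8593633, 8619033, 8657159, 8663097, 8675909, 8688833, 8716939, 8783649, 8922769,
  8946281, 8966165, 8983587, 9048457, 9112069, 9193633, 9240913, 9347075, 9440193, 9465987,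
  9471495, 9506893, 9519665, 9607201, 9748745, 9776129, 9830549, 9963547, 9969957, 10110017,
  10486557, 10496547, 10506593, 10557585, 10630149, 10666625, 10765331, 10846245, 10881097,
  11010247, 11046145, 11100169, 11535529, 11575377, 11731203, 12325377, 12587685, 12599513,
  12641313, 12650793, 12656663, 12717187, 12747077, 12880401, 13062145, 13121601, 13124355,
  13370381, 13636881, 13771273, 13893731, 14254209, 14716939, 14747201, 14950785, 15335473,
  15747077]

/-- Automorphisms of the graph, as image lists. -/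
def autLists : List (List ℕ) :=
  [[1, 93, 53, 50, 60, 24, 72, 45, 83, 84, 26, 64, 69, 77, 89, 36, 52, 32, 30, 95, 31, 40, 0, 87,
  25, 54, 68, 80, 71, 43, 35, 29, 66, 39, 86, 96, 46, 79, 37, 92, 63, 78, 38, 55, 34, 47, 51, 49,
  59, 41, 42, 57, 27, 74, 82, 70, 94, 75, 90, 97, 28, 48, 58, 65, 44, 56, 85, 88, 76, 67, 98, 91,
  33, 62, 23, 99, 81, 73, 61, 10, 19, 8, 13, 20, 5, 2, 11, 14, 21, 22, 15, 4, 17, 6, 12, 18, 7,
  16, 3, 9],
   [9, 53, 0, 89, 68, 40, 79, 63, 55, 25, 42, 51, 92, 29, 31, 41, 86, 64, 78, 47, 96, 38, 43, 7,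
  71, 70, 88, 8, 4, 72, 74, 49, 1, 90, 62, 54, 20, 23, 12, 30, 34, 85, 93, 76, 17, 65, 39, 11, 81,
  24, 80, 50, 48, 10, 22, 61, 44, 27, 32, 21, 37, 16, 57, 14, 98, 73, 45, 13, 94, 82, 18, 35, 2,
  95, 75, 56, 60, 46, 26, 3, 58, 99, 67, 15, 87, 5, 83, 28, 69, 97, 19, 36, 59, 33, 52, 66, 77,
  84, 91, 6]]

end Cfsg.Agent.Lib.HSGraph.Data
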