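import Cfsg.Agent.Lib.Design.WittModel
import Mathlib.Combinatorics.SimpleGraph.StronglyRegular

/-!
A strongly regular graph with parameters (100, 22, 0, 6) is the point-block graph of an S(3, 6, 22),
hence unique.
-/

set_option autoImplicit false

namespace Cfsg.Agent.Lib.Srg100

open Cfsg Finset

variable {V : Type*} [Fintype V] [DecidableEq V] {G : SimpleGraph V} [DecidableRel G.Adj]

/-- The neighbours of a vertex. -/
def nb (G : SimpleGraph V) [DecidableRel G.Adj] (v : V) : Finset V := univ.filter (G.Adj v)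

theorem mem_nb {v p : V} : p ∈ nb G v ↔ G.Adj v p := by simp [nb]

variable (h : G.IsSRGWith 100 22 0 6)
include h

theorem card_nb (v : V) : (nb G v).card = 22 := by
  rw [← h.regular v, ← SimpleGraph.card_neighborFinset_eq_degree]
  exact congrArg Finset.card (by ext; simp [mem_nb])

theorem card_common (v w : V) :
    (nb G v ∩ nb G w).card = Fintype.card (G.commonNeighbors v w) := by
  rw [← Set.toFinset_card]
  exact congrArg Finset.card (by ext; simp [mem_nb, SimpleGraph.mem_commonNeighbors])

theorem common_adj {v w : V} (ha : G.Adj v w) : nb G v ∩ nb G w = ∅ := by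
  rw [← card_eq_zero, card_common h, h.of_adj v w ha]

theorem common_not_adj {v w : V} (hne : v ≠ w) (ha : ¬ G.Adj v w) :
    (nb G v ∩ nb G w).card = 6 := by
  rw [card_common h]; exact h.of_not_adj hne ha

theorem no_triangle {a b c : V} (hab : G.Adj a b) (hbc : G.Adj b c) : ¬ G.Adj a c := fun hac => by
  have : b ∈ nb G a ∩ nb G c := mem_inter.2 ⟨mem_nb.2 hab, mem_nb.2 hbc.symm⟩
  rw [common_adj h hac] at this
  exact notMem_empty _ this

/-- Two vertices off `v` and off each other have exactly two common neighbours beside `v`. -/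
theorem meet_two {v w u : V} (hw : w ≠ v) (hvw : ¬ G.Adj v w) (hu : u ≠ v) (hvu : ¬ G.Adj v u)
    (huw : u ≠ w) (hwu : ¬ G.Adj w u) : ((nb G v ∩ nb G w) ∩ nb G u).card = 2 := by
  set S := nb G v ∩ nb G w with hS
  set T := univ \ ({v, w} ∪ (nb G v ∪ nb G w)) with hT
  have hS6 : S.card = 6 := common_not_adj h (Ne.symm hw) hvw
  have hTcard : T.card = 60 := by
    have h1 : (nb G v ∪ nb G w).card = 38 := by
      have := card_union_add_card_inter (nb G v) (nb G w)
      rw [card_nb h, card_nb h, ← hS, hS6] at this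
      omega
    have h2 : Disjoint ({v, w} : Finset V) (nb G v ∪ nb G w) := by
      simp [disjoint_left, mem_nb, hvw, G.adj_comm w]
    rw [hT, card_univ_sdiff, h.card, card_union_of_disjoint h2, card_pair (Ne.symm hw), h1]
  have hNp : ∀ p ∈ S, T ∩ nb G p = nb G p \ {v, w} := by
    intro p hp
    rw [hS, mem_inter, mem_nb, mem_nb] at hp
    ext x
    simp only [hT, mem_inter, mem_sdiff, mem_univ, true_and, mem_union, mem_nb]
    constructor
    · rintro ⟨h1, h2⟩; exact ⟨h2, fun h3 => h1 (Or.inl h3)⟩
    · rintro ⟨h1, h2⟩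
      refine ⟨?_, h1⟩
      rintro (h3 | h3 | h3)
      · exact h2 h3
      · exact no_triangle h hp.1 h1 h3
      · exact no_triangle h hp.2 h1 h3
  have hvw' : ∀ p ∈ S, ({v, w} : Finset V) ⊆ nb G p := by
    intro p hp
    rw [hS, mem_inter, mem_nb, mem_nb] at hp
    simp [insert_subset_iff, mem_nb, G.adj_comm p, hp.1, hp.2]
  have hx : ∀ y, ((S ∩ nb G y).card : ℤ) = ∑ p ∈ S, if y ∈ nb G p then 1 else 0 := by
    intro y
    rw [sum_boole]
    congr 2
    ext p
    simp [mem_nb, G.adj_comm]
  have h1 : ∑ y ∈ T, ((S ∩ nb G y).card : ℤ) = 120 := by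
    simp only [hx]
    rw [sum_comm]
    rw [sum_congr rfl (g := fun _ => (20 : ℤ)) fun p hp => by
      rw [sum_boole, filter_mem_eq_inter, hNp p hp, card_sdiff_of_subset (hvw' p hp), card_nb h,
        card_pair (Ne.symm hw)]
      norm_num]
    rw [sum_const, hS6]; norm_num
  have h2 : ∑ y ∈ T, ((S ∩ nb G y).card : ℤ) ^ 2 = 240 := by
    simp only [hx, sq, sum_mul_sum]
    rw [sum_comm]
    rw [sum_congr rfl (g := fun _ => (40 : ℤ)) fun p hp => ?_]
    · rw [sum_const, hS6]; norm_num
    rw [sum_comm]
    have e : ∀ q ∈ S, (∑ y ∈ T, (if y ∈ nb G p then (1 : ℤ) else 0) * if y ∈ nb G q then 1 else 0)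
        = if q = p then 20 else 4 := by
      intro q hq
      simp only [ite_mul, one_mul, zero_mul, ← ite_and, sum_boole]
      rw [show T.filter (fun y => y ∈ nb G p ∧ y ∈ nb G q) = (T ∩ nb G p) ∩ nb G q by
        ext; simp [and_assoc], hNp p hp]
      split
      · next e =>
        subst e
        rw [inter_eq_left.2 sdiff_subset, card_sdiff_of_subset (hvw' q hq), card_nb h,
          card_pair (Ne.symm hw)]
        norm_num
      · next e =>
        rw [show (nb G p \ {v, w}) ∩ nb G q = (nb G p ∩ nb G q) \ {v, w} by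
          ext; simp only [mem_inter, mem_sdiff]; tauto,
          card_sdiff_of_subset (subset_inter (hvw' p hp) (hvw' q hq)),
          common_not_adj h (Ne.symm e) ?_, card_pair (Ne.symm hw)]
        · norm_num
        · intro hpq
          rw [hS, mem_inter, mem_nb, mem_nb] at hp hq
          exact no_triangle h hp.1 hpq hq.1
    rw [sum_congr rfl e, sum_ite, sum_const, sum_const, filter_eq', if_pos hp, card_singleton,
      filter_ne', card_erase_of_mem hp, hS6]
    norm_num
  have h0 : ∑ y ∈ T, (((S ∩ nb G y).card : ℤ) - 2) ^ 2 = 0 := by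
    simp only [sub_sq, sum_add_distrib, sum_sub_distrib, ← sum_mul, ← mul_sum, sum_const, h1, h2,
      hTcard]
    norm_num
  have huT : u ∈ T := by simp [hT, mem_nb, hu, huw, hvu, hwu]
  have h3 := (sum_eq_zero_iff_of_nonneg fun y _ => sq_nonneg _).1 h0 u huT
  rw [sq_eq_zero_iff, sub_eq_zero] at h3
  exact_mod_cast h3

variable (v0 : V)

omit h

/-- The neighbours of the base vertex. -/
abbrev Pts (G : SimpleGraph V) (v0 : V) : Type _ := {p : V // G.Adj v0 p}

/-- The other vertices. -/
abbrev Far (G : SimpleGraph V) (v0 : V) : Type _ := {w : V // w ≠ v0 ∧ ¬ G.Adj v0 w}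

/-- The neighbours of the base vertex seen from another vertex. -/
def blk (G : SimpleGraph V) [DecidableRel G.Adj] (v0 : V) (w : Far G v0) : Finset (Pts G v0) :=
  univ.filter fun p => G.Adj w.1 p.1

theorem map_blk (w : Far G v0) :
    (blk G v0 w).map (Function.Embedding.subtype _) = nb G v0 ∩ nb G w.1 := by
  ext x
  simp only [blk, mem_map, mem_filter, mem_univ, true_and, Function.Embedding.coe_subtype,
    mem_inter, mem_nb]
  exact ⟨fun ⟨p, hp, e⟩ => e ▸ ⟨p.2, hp⟩, fun ⟨h1, h2⟩ => ⟨⟨x, h1⟩, h2, rfl⟩⟩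

theorem blk_inter (w u : Far G v0) : (blk G v0 w ∩ blk G v0 u).card
    = ((nb G v0 ∩ nb G w.1) ∩ nb G u.1).card := by
  rw [← card_map (Function.Embedding.subtype _), map_inter, map_blk, map_blk]
  congr 1
  ext; simp only [mem_inter]; tauto

include h

theorem card_blk (w : Far G v0) : (blk G v0 w).card = 6 := by
  rw [← card_map (Function.Embedding.subtype _), map_blk]
  exact common_not_adj h (Ne.symm w.2.1) w.2.2

theorem blk_adj {w u : Far G v0} (hne : w ≠ u) :
    G.Adj w.1 u.1 ↔ Disjoint (blk G v0 w) (blk G v0 u) := by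
  rw [disjoint_iff_inter_eq_empty, ← card_eq_zero, blk_inter]
  constructor
  · intro ha
    rw [inter_assoc, common_adj h ha, inter_empty, card_empty]
  · intro h0
    by_contra ha
    rw [meet_two h w.2.1 w.2.2 u.2.1 u.2.2 (fun e => hne (Subtype.ext e.symm)) ha] at h0
    omega

theorem blk_inter_le {w u : Far G v0} (hne : w ≠ u) : (blk G v0 w ∩ blk G v0 u).card ≤ 2 := by
  by_cases ha : G.Adj w.1 u.1
  · rw [disjoint_iff_inter_eq_empty.1 ((blk_adj h v0 hne).1 ha), card_empty]; omega
  · rw [blk_inter, meet_two h w.2.1 w.2.2 u.2.1 u.2.2 (fun e => hne (Subtype.ext e.symm)) ha]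

theorem blk_injective : Function.Injective (blk G v0) := fun w u e => by
  by_contra hne
  have := blk_inter_le h v0 hne
  rw [e, inter_self, card_blk h] at this
  omega

theorem card_pts : Fintype.card (Pts G v0) = 22 := by
  rw [Fintype.card_subtype]; exact card_nb h v0

theorem card_far : Fintype.card (Far G v0) = 77 := by
  rw [Fintype.card_subtype, show (univ.filter fun w => w ≠ v0 ∧ ¬ G.Adj v0 w)
    = univ \ insert v0 (nb G v0) by ext; simp [mem_nb], card_univ_sdiff, h.card,
    card_insert_of_notMem (by simp [mem_nb]), card_nb h]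

theorem steiner : IsSteinerSystem 3 6 (Set.range (blk G v0)) := by
  refine ⟨?_, fun s hs => ?_⟩
  · rintro _ ⟨w, rfl⟩; exact card_blk h v0 w
  · have hd : ((univ : Finset (Far G v0)) : Set (Far G v0)).PairwiseDisjoint
        fun w => (blk G v0 w).powersetCard 3 := by
      intro w _ u _ hne
      rw [Function.onFun, disjoint_left]
      intro t h1 h2
      rw [mem_powersetCard] at h1 h2
      have h3 := card_le_card (subset_inter h1.1 h2.1)
      have h4 := blk_inter_le h v0 hne
      omega
    have hall : (univ : Finset (Far G v0)).biUnion (fun w => (blk G v0 w).powersetCard 3)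
        = (univ : Finset (Pts G v0)).powersetCard 3 := by
      refine eq_of_subset_of_card_le (biUnion_subset.2 fun w _ =>
        powersetCard_mono (subset_univ _)) ?_
      rw [card_biUnion hd, sum_congr rfl (g := fun _ => 20) fun w _ => by
          rw [card_powersetCard, card_blk h]; rfl,
        card_powersetCard, sum_const, card_univ, card_univ, card_pts h, card_far h, smul_eq_mul]
      rw [Nat.choose_eq_descFactorial_div_factorial]
      simp [Nat.descFactorial, Nat.factorial]
    have hs' : s ∈ (univ : Finset (Far G v0)).biUnion (fun w => (blk G v0 w).powersetCard 3) := by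
      rw [hall, mem_powersetCard]; exact ⟨subset_univ _, hs⟩
    obtain ⟨w, -, hw⟩ := mem_biUnion.1 hs'
    rw [mem_powersetCard] at hw
    refine ⟨_, ⟨⟨w, rfl⟩, hw.1⟩, ?_⟩
    rintro _ ⟨⟨u, rfl⟩, hu⟩
    by_contra hne
    have h3 := card_le_card (subset_inter hw.1 hu)
    have h4 := blk_inter_le h v0 (w := w) (u := u) fun e => hne (by rw [e])
    omega

/-- The graph is a point-block graph. -/
theorem iso_pointBlock : Nonempty (pointBlockGraph (Set.range (blk G v0)) ≃g G) := by
  classical
  let f : Option (Pts G v0 ⊕ Far G v0) → V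
    | none => v0
    | some (Sum.inl p) => p.1
    | some (Sum.inr w) => w.1
  have hf : Function.Bijective f := by
    constructor
    · rintro (_ | p | w) (_ | q | u) e <;> simp only [f] at e
      · rfl
      · exact absurd q.2 (by rw [← e]; exact G.irrefl)
      · exact absurd e.symm u.2.1
      · exact absurd p.2 (by rw [e]; exact G.irrefl)
      · rw [Subtype.ext e]
      · exact absurd (e ▸ p.2) u.2.2
      · exact absurd e w.2.1
      · exact absurd (e ▸ q.2) w.2.2
      · rw [Subtype.ext e]
    · intro x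
      rcases eq_or_ne x v0 with rfl | hx
      · exact ⟨none, rfl⟩
      by_cases ha : G.Adj v0 x
      · exact ⟨some (Sum.inl ⟨x, ha⟩), rfl⟩
      · exact ⟨some (Sum.inr ⟨x, hx, ha⟩), rfl⟩
  let E : Option (Pts G v0 ⊕ Set.range (blk G v0)) ≃ V :=
    ((Equiv.sumCongr (Equiv.refl _) (Equiv.ofInjective _ (blk_injective h v0)).symm).optionCongr).trans
      (Equiv.ofBijective f hf)
  refine ⟨{ toEquiv := E, map_rel_iff' := fun {x y} => ?_ }⟩
  obtain ⟨x, rfl⟩ := ((Equiv.sumCongr (Equiv.refl _)
    (Equiv.ofInjective _ (blk_injective h v0))).optionCongr).surjective x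
  obtain ⟨y, rfl⟩ := ((Equiv.sumCongr (Equiv.refl _)
    (Equiv.ofInjective _ (blk_injective h v0))).optionCongr).surjective y
  have hE : ∀ z, E (((Equiv.sumCongr (Equiv.refl _)
      (Equiv.ofInjective _ (blk_injective h v0))).optionCongr) z) = f z := by
    rintro (_ | p | w) <;> simp [E]
  rw [hE, hE]
  have hpb : ∀ (p : Pts G v0) (w : Far G v0), G.Adj p.1 w.1 ↔ p ∈ blk G v0 w := fun p w => by
    simp [blk, G.adj_comm]
  rcases x with _ | p | w <;> rcases y with _ | q | u
  · simp [f, pointBlockGraph, pointBlockRel]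
  · simp [f, pointBlockGraph, pointBlockRel, q.2]
  · simp [f, pointBlockGraph, pointBlockRel, u.2.2]
  · simp [f, pointBlockGraph, pointBlockRel, p.2.symm]
  · refine iff_of_false ?_ (by simp [pointBlockGraph, pointBlockRel])
    exact fun ha => no_triangle h p.2 ha q.2
  · simp [f, pointBlockGraph, pointBlockRel, hpb]
  · simp [f, pointBlockGraph, pointBlockRel, G.adj_comm w.1, w.2.2]
  · simp [f, pointBlockGraph, pointBlockRel, G.adj_comm w.1, hpb]
  · rcases eq_or_ne w u with rfl | hne
    · simp [f, pointBlockGraph, pointBlockRel]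
    · simp [f, pointBlockGraph, pointBlockRel, blk_adj h v0 hne, (blk_injective h v0).eq_iff, hne,
        disjoint_comm]
      exact fun _ e => hne (blk_injective h v0 (congrArg Subtype.val e))

omit h

/-- Isomorphic systems have isomorphic point-block graphs. -/
theorem pointBlock_congr {α β : Type*} [DecidableEq α] [DecidableEq β] {B : Set (Finset α)}
    {B' : Set (Finset β)} (hiso : SetSystemIso B B') :
    Nonempty (pointBlockGraph B ≃g pointBlockGraph B') := by
  obtain ⟨e, he⟩ := hiso
  let τ : B → B' := fun b => ⟨b.1.image e, he ▸ ⟨b.1, b.2, rfl⟩⟩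
  have hτ : Function.Bijective τ := by
    refine ⟨fun b c hbc => Subtype.ext (image_injective e.injective (congrArg Subtype.val hbc)),
      fun c => ?_⟩
    obtain ⟨b, hb, hbe⟩ : (c.1 : Finset β) ∈ (fun b => b.image e) '' B := by rw [he]; exact c.2
    exact ⟨⟨b, hb⟩, Subtype.ext hbe⟩
  refine ⟨{ toEquiv := (Equiv.sumCongr e (Equiv.ofBijective τ hτ)).optionCongr,
            map_rel_iff' := fun {x y} => ?_ }⟩
  have hm : ∀ (a : α) (b : B), e a ∈ (τ b).1 ↔ a ∈ b.1 := fun a b => e.injective.mem_finset_image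
  have hd : ∀ b c : B, Disjoint (τ b).1 (τ c).1 ↔ Disjoint b.1 c.1 := fun b c =>
    disjoint_image e.injective
  rcases x with _ | a | b <;> rcases y with _ | a' | c <;>
    simp [pointBlockGraph, pointBlockRel, hm, hd, hτ.1.eq_iff]

theorem unique {W : Type*} [Fintype W] {G : SimpleGraph V} {H : SimpleGraph W}
    [DecidableRel G.Adj] [DecidableRel H.Adj] (hG : G.IsSRGWith 100 22 0 6)
    (hH : H.IsSRGWith 100 22 0 6) : Nonempty (G ≃g H) := by
  classical
  obtain ⟨v⟩ : Nonempty V := Fintype.card_pos_iff.1 (by rw [hG.card]; norm_num)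
  obtain ⟨w⟩ : Nonempty W := Fintype.card_pos_iff.1 (by rw [hH.card]; norm_num)
  obtain ⟨i⟩ := iso_pointBlock hG v
  obtain ⟨j⟩ := iso_pointBlock hH w
  obtain ⟨k⟩ := pointBlock_congr (WittModel.unique22 (card_pts hG v) (card_pts hH w)
    (steiner hG v) (steiner hH w))
  exact ⟨(i.symm.trans k).trans j⟩

end Cfsg.Agent.Lib.Srg100
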