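import Cfsg.Agent.Lib.Design.HSGraphImageData
import Cfsg.Agent.Lib.Design.HSCount
import Cfsg.Agent.Lib.Design.Srg100
import Cfsg.Agent.Lib.Compute.Leech.Outer

/-!
The certified permutation image of `Spor.HS` on 100 lattice points preserves a strongly regular
graph, so the graph of any S(3, 6, 22) has a simple group of order 44352000 of automorphisms.
-/

set_option autoImplicit false
set_option maxRecDepth 100000

namespace Cfsg.Agent.Lib.HSImage

open Cfsg
open Cfsg.Agent.Lib.Compute

/-- Adjacency in the model. -/
def adjB (i j : ℕ) : Bool := (rows.getD i 0).testBit j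

theorem rows_ok :
    ((List.range 100).all fun i => !adjB i i &&
      ((List.range 100).filter fun j => adjB i j) == nbs.getD i [] && (nbs.getD i []).length == 22 &&
      (nbs.getD i []).all fun j => adjB j i) = true := by
  decide +kernel

theorem pairs_ok :
    ((List.range 100).all fun i => (List.range 100).all fun j =>
      Nat.beq i j || ((nbs.getD i []).countP fun k => adjB j k) == if adjB i j then 0 else 6) = true := by
  decide +kernel

theorem gens_adj :
    (Compute.Leech.hsGens.all fun p => (List.range 100).all fun i =>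
      (nbs.getD i []).all fun j => adjB (getP 8 p.1 i) (getP 8 p.1 j)) = true := by
  decide +kernel

theorem gens_adj_spec : ∀ p ∈ Compute.Leech.hsGens, ∀ i < 100, ∀ j ∈ nbs.getD i [],
    adjB (getP 8 p.1 i) (getP 8 p.1 j) = true := by
  intro p hp
  have h := gens_adj
  rw [List.all_eq_true] at h
  have h := h p hp
  rw [List.all_eq_true] at h
  intro i hi
  have h := h i (List.mem_range.2 hi)
  rw [List.all_eq_true] at h
  exact h

theorem row_spec (i : Fin 100) : adjB i i = false ∧
    ((List.range 100).filter fun j => adjB i j) = nbs.getD i [] ∧ (nbs.getD i []).length = 22 ∧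
    ∀ j ∈ nbs.getD i [], adjB j i = true := by
  have := List.all_eq_true.1 rows_ok i (List.mem_range.2 i.isLt)
  simpa [Bool.and_eq_true, and_assoc] using this

theorem mem_nbs {i : Fin 100} {j : ℕ} : j ∈ nbs.getD i [] ↔ j < 100 ∧ adjB i j = true := by
  rw [← (row_spec i).2.1, List.mem_filter, List.mem_range]

/-- The graph of the model. -/
def model : SimpleGraph (Fin 100) where
  Adj i j := adjB i.val j.val = true
  symm := ⟨fun (i j : Fin 100) h => (row_spec i).2.2.2 j.val (mem_nbs.2 ⟨j.isLt, h⟩)⟩
  loopless := ⟨fun i h => by rw [(row_spec i).1] at h; exact Bool.noConfusion h⟩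

instance : DecidableRel model.Adj := fun i j => inferInstanceAs (Decidable (adjB i j = true))

theorem card_filter_fin (p : ℕ → Bool) :
    (Finset.univ.filter fun k : Fin 100 => p k.val = true).card =
      ((List.range 100).filter p).length := by
  rw [← List.toFinset_card_of_nodup (List.nodup_range.filter _)]
  refine Finset.card_bij (fun k _ => k.val) (fun k hk => ?_) (fun a _ b _ h => Fin.ext h) fun b hb => ?_
  · simp only [List.mem_toFinset, List.mem_filter, List.mem_range]
    exact ⟨k.isLt, (Finset.mem_filter.1 hk).2⟩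
  · simp only [List.mem_toFinset, List.mem_filter, List.mem_range] at hb
    exact ⟨⟨b, hb.1⟩, Finset.mem_filter.2 ⟨Finset.mem_univ _, hb.2⟩, rfl⟩

theorem model_srg : model.IsSRGWith 100 22 0 6 := by
  have hc : ∀ i j : Fin 100, i ≠ j →
      Fintype.card (model.commonNeighbors i j) = if adjB i j then 0 else 6 := by
    intro i j hij
    have h := List.all_eq_true.1 (List.all_eq_true.1 pairs_ok i (List.mem_range.2 i.isLt)) j
      (List.mem_range.2 j.isLt)
    rw [Bool.or_eq_true, beq_iff_eq] at h
    have h := h.resolve_left fun e => hij (Fin.ext (Nat.eq_of_beq_eq_true e))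
    rw [← h, ← (row_spec i).2.1, List.countP_eq_length_filter, List.filter_filter, ← card_filter_fin,
      Fintype.card_subtype]
    congr 1
    ext k
    simp [SimpleGraph.commonNeighbors, model, and_comm]
  refine { card := Fintype.card_fin 100, regular := fun i => ?_, of_adj := fun i j h => ?_,
           of_not_adj := fun i j hij h => ?_ }
  · rw [← SimpleGraph.card_neighborFinset_eq_degree, SimpleGraph.neighborFinset_eq_filter,
      ← (row_spec i).2.2.1, ← (row_spec i).2.1]
    exact card_filter_fin fun k => adjB i k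
  · rw [hc i j h.ne, if_pos (show adjB i j = true from h)]
  · rw [hc i j hij, if_neg (show ¬ adjB i j = true from h)]

/-- The image group. -/
noncomputable abbrev image : Subgroup (Equiv.Perm (Fin 100)) :=
  genGroup (permCoding 8 (Equiv.refl (Fin 100)) (by norm_num)) Compute.Leech.hsGens

theorem gens_ok :
    GensOK (permCoding 8 (Equiv.refl (Fin 100)) (by norm_num)) Compute.Leech.hsGens :=
  gensOK_literal _ _ (by decide +kernel)

theorem nonempty_image_equiv : Nonempty (Spor.HS ≃* image) := by
  haveI : Finite ↥(MulAction.stabilizer Co0 Spor.leechV ⊓ MulAction.stabilizer Co0 Spor.leechU') := by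
    haveI := Leech.finite_co0
    infer_instance
  obtain ⟨e⟩ := Compute.Leech.mulEquiv_of_vectors (b := 8) (n := 100) (by norm_num)
    (MulAction.stabilizer Co0 Spor.leechV ⊓ MulAction.stabilizer Co0 Spor.leechU')
    Compute.Leech.hsPts Compute.Leech.hsPts_length Compute.Leech.hsFixed Compute.Leech.hsWords
    Compute.Leech.hsGens
    (fun g hg => ⟨hg _ (List.mem_cons_self ..) _ Compute.Leech.vecOf_hs.1.symm,
      hg _ (List.mem_cons_of_mem _ (List.mem_cons_self ..)) _ Compute.Leech.vecOf_hs.2.symm⟩)
    gens_ok Compute.Leech.hsPts_ok Compute.Leech.hsKeys_ok Compute.Leech.hsWords_ok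
    (by decide +kernel) Compute.Leech.hsActs_ok
    (by rw [← Nat.card_congr Leech.hsEquiv.toEquiv, Leech.card_HS,
      card_genGroup _ gens_ok Compute.Leech.hsChain_ok, Compute.Leech.hsChain_size])
  exact ⟨Leech.hsEquiv.trans e⟩

theorem image_val {n w : ℕ} (hw : n ≤ 2 ^ w) {x : Equiv.Perm (Fin n)} {code : ℕ}
    (h : (permCoding w (Equiv.refl (Fin n)) hw).enc x = code) (a : Fin n) :
    ((x a : Fin n) : ℕ) = getP w code a := by
  subst h
  show _ = getP w (encP w (Equiv.refl (Fin n)) x) a
  rw [getP_encP hw _ _ a.isLt]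
  simp [imgP]

theorem image_adj {σ : Equiv.Perm (Fin 100)} (hσ : σ ∈ image) :
    ∀ i j, model.Adj (σ i) (σ j) ↔ model.Adj i j := by
  suffices h : ∀ i j, model.Adj i j → model.Adj (σ i) (σ j) by
    intro i j
    refine ⟨fun hij => ?_, h i j⟩
    have hinj : Function.Injective fun p : {p : Fin 100 × Fin 100 // model.Adj p.1 p.2} =>
        (⟨(σ p.1.1, σ p.1.2), h _ _ p.2⟩ : {p : Fin 100 × Fin 100 // model.Adj p.1 p.2}) :=
      fun p q e => Subtype.ext (Prod.ext (σ.injective (congrArg (fun r => r.1.1) e))
        (σ.injective (congrArg (fun r => r.1.2) e)))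
    obtain ⟨⟨⟨a, b⟩, hab⟩, e⟩ := (Finite.injective_iff_surjective.1 hinj) ⟨(σ i, σ j), hij⟩
    have e1 := σ.injective (congrArg (fun r => r.1.1) e)
    have e2 := σ.injective (congrArg (fun r => r.1.2) e)
    subst e1 e2
    exact hab
  induction hσ using Subgroup.closure_induction'' with
  | one => intro i j h; exact h
  | mem x hx =>
    obtain ⟨p, hp, hxp⟩ := hx
    intro i j h
    have hg := gens_adj_spec p hp i i.isLt j (mem_nbs.2 ⟨j.isLt, h⟩)
    have hv : ∀ a : Fin 100, ((x a : Fin 100) : ℕ) = getP 8 p.1 a := fun a => by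
      exact image_val _ hxp a
    show adjB (x i) (x j) = true
    rw [hv, hv]
    exact hg
  | inv_mem x hx =>
    obtain ⟨p, hp, hxp⟩ := hx
    intro i j h
    have hfwd : ∀ a b, model.Adj a b → model.Adj (x a) (x b) := by
      intro a b hab
      have hg := gens_adj_spec p hp a a.isLt b (mem_nbs.2 ⟨b.isLt, hab⟩)
      have hv : ∀ c : Fin 100, ((x c : Fin 100) : ℕ) = getP 8 p.1 c := fun c => by
        exact image_val _ hxp c
      show adjB (x a) (x b) = true
      rw [hv, hv]
      exact hg
    have hinj : Function.Injective fun p : {p : Fin 100 × Fin 100 // model.Adj p.1 p.2} =>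
        (⟨(x p.1.1, x p.1.2), hfwd _ _ p.2⟩ : {p : Fin 100 × Fin 100 // model.Adj p.1 p.2}) :=
      fun p q e => Subtype.ext (Prod.ext (x.injective (congrArg (fun r => r.1.1) e))
        (x.injective (congrArg (fun r => r.1.2) e)))
    obtain ⟨⟨⟨a, b⟩, hab⟩, e⟩ := (Finite.injective_iff_surjective.1 hinj) ⟨(i, j), h⟩
    have e1 : x a = i := congrArg (fun r => r.1.1) e
    have e2 : x b = j := congrArg (fun r => r.1.2) e
    rw [← e1, ← e2]
    simpa using hab
  | mul x y _ _ hx hy => intro i j h; exact hx _ _ (hy _ _ h)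

/-- The Higman–Sims group as automorphisms of the graph of an S(3, 6, 22). -/
theorem exists_isHS {α : Type*} [Fintype α] (hα : Fintype.card α = 22) {B : Set (Finset α)}
    (hB : IsSteinerSystem 3 6 B) :
    ∃ H : Subgroup (pointBlockGraph B ≃g pointBlockGraph B), IsHS H := by
  classical
  haveI : Fintype B := Fintype.ofFinite _
  obtain ⟨i⟩ := Srg100.unique model_srg (Design.pointBlock_srg_set hα hB)
  let φ : image →* (pointBlockGraph B ≃g pointBlockGraph B) :=
    { toFun := fun σ => i.symm.trans
        ((⟨σ.1, fun {a b} => image_adj σ.2 a b⟩ : model ≃g model).trans i)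
      map_one' := RelIso.ext fun v => by simp
      map_mul' := fun σ τ => RelIso.ext fun v => by simp }
  have hφ : Function.Injective φ := fun σ τ e => Subtype.ext (Equiv.ext fun k => by
    have := DFunLike.congr_fun e (i k)
    simpa [φ] using this)
  obtain ⟨e⟩ := nonempty_image_equiv
  refine ⟨φ.range, ?_, ?_⟩
  · haveI := Leech.isSimpleGroup_HS
    exact (e.trans (MonoidHom.ofInjective hφ)).symm.isSimpleGroup
  · rw [← Nat.card_congr (e.trans (MonoidHom.ofInjective hφ)).toEquiv, Leech.card_HS]

end Cfsg.Agent.Lib.HSImage
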