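import Cfsg.Agent.Lib.Design.Srg100
import Cfsg.Agent.Lib.Design.HSCount
import Mathlib.GroupTheory.Perm.Cycle.Type
import Mathlib.GroupTheory.GroupAction.Quotient

/-!
A transitive group on 100 points with suborbits of sizes 1, 22, 77 preserves a strongly regular
graph with parameters (100, 22, 0, 6); consequently two such faithful simple groups of order
44352000 are isomorphic.
-/

set_option autoImplicit false

namespace Cfsg.Agent.Lib.RankThree100

open Cfsg Finset MulAction

variable {G V : Type*} [Group G] [MulAction G V] [Fintype V]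

/-- The orbital relation of the pair `(a, b)`. -/
def orbital (G : Type*) {V : Type*} [Group G] [MulAction G V] (a b x y : V) : Prop :=
  ∃ g : G, g • a = x ∧ g • b = y

theorem orbital_smul {a b x y : V} (g : G) :
    orbital G a b (g • x) (g • y) ↔ orbital G a b x y := by
  constructor
  · rintro ⟨h, h1, h2⟩
    exact ⟨g⁻¹ * h, by rw [mul_smul, h1, inv_smul_smul], by rw [mul_smul, h2, inv_smul_smul]⟩
  · rintro ⟨h, h1, h2⟩
    exact ⟨g * h, by rw [mul_smul, h1], by rw [mul_smul, h2]⟩

variable {a b c : V} (hcard : Fintype.card V = 100) [IsPretransitive G V]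
  (hb : (orbit (stabilizer G a) b).ncard = 22) (hc : (orbit (stabilizer G a) c).ncard = 77)

omit [Fintype V] [IsPretransitive G V] in
theorem orbital_base (y : V) : orbital G a b a y ↔ y ∈ orbit (stabilizer G a) b :=
  ⟨fun ⟨g, h1, h2⟩ => ⟨⟨g, h1⟩, h2⟩, fun ⟨g, hg⟩ => ⟨g.1, g.2, hg⟩⟩

include hcard hb hc

theorem orbits_cover (y : V) :
    y = a ∨ y ∈ orbit (stabilizer G a) b ∨ y ∈ orbit (stabilizer G a) c := by
  classical
  have hbc : Disjoint (orbit (stabilizer G a) b) (orbit (stabilizer G a) c) := by
    rw [Set.disjoint_left]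
    intro z h1 h2
    rw [← orbit_eq_iff.2 h1] at hb
    rw [← orbit_eq_iff.2 h2] at hc
    omega
  have ha : ∀ d : V, (orbit (stabilizer G a) d).ncard ≠ 1 → a ∉ orbit (stabilizer G a) d := by
    intro d hd h
    refine hd ?_
    rw [← orbit_eq_iff.2 h, show orbit (stabilizer G a) a = {a} from ?_, Set.ncard_singleton]
    ext z
    exact ⟨fun ⟨g, hg⟩ => hg ▸ g.2, fun hz => (Set.mem_singleton_iff.1 hz).symm ▸ mem_orbit_self a⟩
  have hu : insert a (orbit (stabilizer G a) b ∪ orbit (stabilizer G a) c) = Set.univ := by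
    refine Set.eq_of_subset_of_ncard_le (Set.subset_univ _) ?_ Set.finite_univ
    rw [Set.ncard_insert_of_notMem (fun h => h.elim (ha b (by omega)) (ha c (by omega))),
      Set.ncard_union_eq hbc, Set.ncard_univ, Nat.card_eq_fintype_card, hcard, hb, hc]
  have := hu.symm ▸ Set.mem_univ y
  simpa using this

theorem out_ncard (x : V) : {y | orbital G a b x y}.ncard = 22 := by
  obtain ⟨g, rfl⟩ := exists_smul_eq G a x
  have h : {y | orbital G a b (g • a) y} = (g • ·) '' orbit (stabilizer G a) b := by
    ext y
    constructor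
    · intro hy
      refine ⟨g⁻¹ • y, ?_, smul_inv_smul g y⟩
      rw [← orbital_base, ← orbital_smul g, smul_inv_smul]
      exact hy
    · rintro ⟨z, hz, rfl⟩
      exact (orbital_smul g).2 ((orbital_base z).2 hz)
  rw [h, Set.ncard_image_of_injective _ (MulAction.injective g), hb]

theorem orbital_symm {x y : V} (h : orbital G a b x y) : orbital G a b y x := by
  classical
  have key : orbital G a b b a := by
    have inN : ∀ z, {w | orbital G a b w z}.ncard = {w | orbital G a b w a}.ncard := by
      intro z
      obtain ⟨g, rfl⟩ := exists_smul_eq G a z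
      have h : {w | orbital G a b w (g • a)} = (g • ·) '' {w | orbital G a b w a} := by
        ext w
        constructor
        · intro hw
          refine ⟨g⁻¹ • w, ?_, smul_inv_smul g w⟩
          show orbital G a b _ _
          rw [← orbital_smul g, smul_inv_smul]
          exact hw
        · rintro ⟨v, hv, rfl⟩
          exact (orbital_smul g).2 hv
      rw [h, Set.ncard_image_of_injective _ (MulAction.injective g)]
    have hnc : ∀ p : V → Prop, {w | p w}.ncard = (univ.filter p).card := fun p => by
      rw [← Set.ncard_coe_finset]; congr 1; ext; simp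
    have hsum : {w | orbital G a b w a}.ncard = 22 := by
      have h1 := sum_card_bipartiteAbove_eq_sum_card_bipartiteBelow (s := (univ : Finset V))
        (t := (univ : Finset V)) (orbital G a b)
      simp only [bipartiteAbove, bipartiteBelow, ← hnc, out_ncard hcard hb hc, inN, sum_const,
        card_univ, hcard, smul_eq_mul] at h1
      omega
    by_contra hba
    -- no element of the small suborbit is an in-neighbour of `a`
    have h2 : ∀ z ∈ orbit (stabilizer G a) b, ¬ orbital G a b z a := by
      rintro z ⟨g, rfl⟩ hz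
      have : orbital G a b (g.1 • b) (g.1 • a) := by rw [show g.1 • a = a from g.2]; exact hz
      exact hba ((orbital_smul g.1).1 this)
    have hne : b ≠ a := by
      intro e
      rw [e, show orbit (stabilizer G a) a = {a} from Set.ext fun z =>
        ⟨fun ⟨g, hg⟩ => hg ▸ g.2, fun hz => (Set.mem_singleton_iff.1 hz).symm ▸ mem_orbit_self a⟩, Set.ncard_singleton] at hb
      omega
    have h3 : ¬ orbital G a b a a := by
      rintro ⟨g, h1, h2⟩
      exact hne (MulAction.injective g (h2.trans h1.symm))
    obtain ⟨w, hw⟩ := Set.nonempty_of_ncard_ne_zero (s := {w | orbital G a b w a}) (by omega)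
    have hw' : orbital G a b w a := hw
    have hwc : w ∈ orbit (stabilizer G a) c :=
      ((orbits_cover hcard hb hc w).resolve_left (fun e => h3 (e ▸ hw'))).resolve_left
        (fun e => h2 w e hw')
    have hsub : orbit (stabilizer G a) c ⊆ {v | orbital G a b v a} := by
      rw [← orbit_eq_iff.2 hwc]
      rintro v ⟨g, rfl⟩
      have := (orbital_smul g.1).2 hw'
      rwa [show g.1 • a = a from g.2] at this
    have := Set.ncard_le_ncard hsub (Set.toFinite _)
    omega
  obtain ⟨g, rfl, rfl⟩ := h
  exact (orbital_smul g).2 key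

theorem orbital_ne {x y : V} (h : orbital G a b x y) : x ≠ y := by
  rintro rfl
  obtain ⟨g, h1, h2⟩ := h
  obtain rfl : a = b := MulAction.injective g (h1.trans h2.symm)
  rw [show orbit (stabilizer G a) a = {a} from Set.ext fun z =>
      ⟨fun ⟨g, hg⟩ => hg ▸ g.2, fun hz => (Set.mem_singleton_iff.1 hz).symm ▸ mem_orbit_self a⟩, Set.ncard_singleton] at hb
  omega

/-- The group preserves a graph with parameters (100, 22, 0, 6). -/
theorem exists_srg : ∃ (Γ : SimpleGraph V) (_ : DecidableRel Γ.Adj),
    Γ.IsSRGWith 100 22 0 6 ∧ ∀ (g : G) (x y : V), Γ.Adj (g • x) (g • y) ↔ Γ.Adj x y := by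
  classical
  let Γ : SimpleGraph V :=
    { Adj := orbital G a b
      symm := ⟨fun _ _ h => orbital_symm hcard hb hc h⟩
      loopless := ⟨fun _ h => orbital_ne hcard hb hc h rfl⟩ }
  have hinv : ∀ (g : G) (x y : V), Γ.Adj (g • x) (g • y) ↔ Γ.Adj x y := fun g _ _ => orbital_smul g
  refine ⟨Γ, inferInstance, ?_, hinv⟩
  have hnc : ∀ (g : G) (x y : V), Fintype.card (Γ.commonNeighbors (g • x) (g • y))
      = Fintype.card (Γ.commonNeighbors x y) := by
    intro g x y
    rw [← Nat.card_eq_fintype_card, ← Nat.card_eq_fintype_card, Nat.card_coe_set_eq,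
      Nat.card_coe_set_eq]
    conv_rhs => rw [← Set.ncard_image_of_injective _ (MulAction.injective g)]
    refine congrArg Set.ncard (Set.ext fun z => ?_)
    constructor
    · intro hz
      refine ⟨g⁻¹ • z, ⟨?_, ?_⟩, smul_inv_smul g z⟩
      · rw [SimpleGraph.mem_neighborSet, ← hinv g, smul_inv_smul]; exact hz.1
      · rw [SimpleGraph.mem_neighborSet, ← hinv g, smul_inv_smul]; exact hz.2
    · rintro ⟨w, hw, rfl⟩
      exact ⟨(hinv g _ _).2 hw.1, (hinv g _ _).2 hw.2⟩
  have hS : Γ.IsSRGWith 100 22 (Fintype.card (Γ.commonNeighbors a b))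
      (Fintype.card (Γ.commonNeighbors a c)) := by
    refine ⟨hcard, fun v => ?_, ?_, ?_⟩
    · rw [← SimpleGraph.card_neighborSet_eq_degree, ← Nat.card_eq_fintype_card,
        Nat.card_coe_set_eq]
      exact out_ncard hcard hb hc v
    · rintro v w ⟨g, rfl, rfl⟩
      exact hnc g a b
    · intro v w hne hnadj
      obtain ⟨g, rfl⟩ := exists_smul_eq G a v
      obtain ⟨w, rfl⟩ : ∃ u, g • u = w := ⟨g⁻¹ • w, smul_inv_smul g w⟩
      rcases orbits_cover hcard hb hc w with rfl | h | h
      · exact absurd rfl hne
      · exact absurd ((hinv g a w).2 ((orbital_base w).2 h)) hnadj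
      · obtain ⟨k, rfl⟩ := h
        calc Fintype.card (Γ.commonNeighbors (g • a) (g • k.1 • c))
            = Fintype.card (Γ.commonNeighbors (k.1 • a) (k.1 • c)) := by
              rw [hnc, show k.1 • a = a from k.2]
          _ = _ := hnc _ _ _
  generalize Fintype.card (Γ.commonNeighbors a b) = l at hS
  generalize Fintype.card (Γ.commonNeighbors a c) = m at hS
  have hpar := hS.param_eq Γ (by norm_num)
  -- the number of ordered triangles is divisible by 3
  have h3 : 3 ∣ 100 * 22 * l := by
    let T := {p : V × V × V // Γ.Adj p.1 p.2.1 ∧ p.2.2 ∈ Γ.commonNeighbors p.1 p.2.1}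
    let f : Function.End T := fun p => ⟨(p.1.2.1, p.1.2.2, p.1.1),
      (show Γ.Adj p.1.2.1 p.1.2.2 from p.2.2.2),
      ⟨(show Γ.Adj p.1.2.1 p.1.1 from p.2.1.symm),
        (show Γ.Adj p.1.2.2 p.1.1 from Γ.adj_symm p.2.2.1)⟩⟩
    have hf : f ^ 3 ^ 1 = 1 := by
      funext p
      rfl
    haveI : Fact (Nat.Prime 3) := ⟨by norm_num⟩
    have hmod := Equiv.Perm.card_fixedPoints_modEq (p := 3) (n := 1) hf
    have hfix : Fintype.card (Function.fixedPoints f) = 0 := by
      rw [Fintype.card_eq_zero_iff]
      exact ⟨fun ⟨p, hp⟩ => p.2.1.ne (congrArg (fun q : T => q.1.1) hp).symm⟩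
    rw [hfix] at hmod
    have hT : Fintype.card T = 100 * 22 * l := by
      have e : T ≃ Σ v : V, Σ w : Γ.neighborSet v, Γ.commonNeighbors v w.1 :=
        { toFun := fun p => ⟨p.1.1, ⟨p.1.2.1, p.2.1⟩, ⟨p.1.2.2, p.2.2⟩⟩
          invFun := fun p => ⟨(p.1, p.2.1.1, p.2.2.1), p.2.1.2, p.2.2.2⟩
          left_inv := fun _ => rfl
          right_inv := fun _ => rfl }
      rw [Fintype.card_congr e]
      simp only [Fintype.card_sigma]
      rw [sum_congr rfl (g := fun _ => 22 * l) fun v _ => ?_, sum_const, card_univ, hcard,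
        smul_eq_mul]
      · ring
      rw [sum_congr rfl (g := fun _ => l) fun w _ => hS.of_adj v w.1 w.2, sum_const, card_univ,
        SimpleGraph.card_neighborSet_eq_degree, hS.regular v, smul_eq_mul]
    rw [← hT]
    exact Nat.modEq_zero_iff_dvd.1 hmod
  have hl : l = 0 ∧ m = 6 ∨ l = 21 ∧ m = 0 := by
    have h22 : l < 22 := by
      have h := hS.of_adj a b ⟨1, one_smul _ _, one_smul _ _⟩
      rw [← h, ← hS.regular a, ← SimpleGraph.card_neighborSet_eq_degree]
      refine Set.card_lt_card ?_
      refine ⟨Set.inter_subset_left, fun hsub => ?_⟩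
      exact Γ.irrefl (hsub (show b ∈ Γ.neighborSet a from ⟨1, one_smul _ _, one_smul _ _⟩)).2
    interval_cases l <;> omega
  rcases hl with ⟨rfl, rfl⟩ | ⟨rfl, rfl⟩
  · exact hS
  exfalso
  -- cliques of size 23 would partition 100 points
  let C : V → Finset V := fun x => insert x (Γ.neighborFinset x)
  have htr : ∀ x y z, Γ.Adj x y → Γ.Adj y z → x = z ∨ Γ.Adj x z := by
    intro x y z h1 h2
    by_contra h
    push Not at h
    have h0 := hS.of_not_adj h.1 h.2
    rw [Fintype.card_eq_zero_iff] at h0
    exact h0.false ⟨y, h1, h2.symm⟩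
  have hC : ∀ x y, y ∈ C x → C y = C x := by
    intro x y hy
    rcases mem_insert.1 hy with rfl | hy
    · rfl
    rw [SimpleGraph.mem_neighborFinset] at hy
    ext z
    simp only [C, mem_insert, SimpleGraph.mem_neighborFinset]
    constructor
    · rintro (rfl | hz)
      · exact Or.inr hy
      · exact (htr x y z hy hz).imp Eq.symm id
    · rintro (rfl | hz)
      · exact Or.inr hy.symm
      · exact (htr y x z hy.symm hz).imp Eq.symm id
  have h100 := card_eq_sum_card_image C (univ : Finset V)
  rw [sum_congr rfl (g := fun _ => 23) fun s hs => ?_, sum_const, card_univ, hcard,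
    smul_eq_mul] at h100
  · omega
  obtain ⟨x, -, rfl⟩ := mem_image.1 hs
  have : univ.filter (fun y => C y = C x) = C x := by
    ext y
    simp only [mem_filter, mem_univ, true_and]
    exact ⟨fun e => e ▸ mem_insert_self y _, hC x y⟩
  rw [this, card_insert_of_notMem (by simp), SimpleGraph.card_neighborFinset_eq_degree,
    hS.regular x]

omit hcard hb hc in
/-- Automorphisms of a graph coming from an action that preserves it, transported along an
isomorphism. -/
theorem exists_hom_aut [FaithfulSMul G V] {W : Type*} {Γ : SimpleGraph V} {Δ : SimpleGraph W}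
    (hinv : ∀ (g : G) (x y : V), Γ.Adj (g • x) (g • y) ↔ Γ.Adj x y) (e : Γ ≃g Δ) :
    ∃ φ : G →* (Δ ≃g Δ), Function.Injective φ := by
  let τ : G → (Γ ≃g Γ) := fun g =>
    { toEquiv := MulAction.toPerm g, map_rel_iff' := fun {x y} => hinv g x y }
  refine ⟨{ toFun := fun g => (e.symm.trans (τ g)).trans e, map_one' := ?_, map_mul' := ?_ }, ?_⟩
  · refine RelIso.ext fun x => ?_
    show e ((1 : G) • e.symm x) = x
    rw [one_smul, RelIso.apply_symm_apply]
  · intro g h
    refine RelIso.ext fun x => ?_
    show e ((g * h) • e.symm x) = e (g • e.symm (e (h • e.symm x)))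
    rw [mul_smul, RelIso.symm_apply_apply]
  · intro g h hgh
    refine eq_of_smul_eq_smul (α := V) fun x => e.injective ?_
    have := DFunLike.congr_fun hgh (e x)
    change e (g • e.symm (e x)) = e (h • e.symm (e x)) at this
    simpa only [RelIso.symm_apply_apply] using this

end Cfsg.Agent.Lib.RankThree100

namespace Cfsg.Agent.Lib.RankThree100

open Cfsg Finset MulAction

/-- Two faithful rank 3 groups on 100 points with subdegrees 1, 22, 77 and order 44352000, one of
them simple, are isomorphic. -/
theorem mulEquiv_of_actions {G H V W : Type*} [Group G] [Group H] [Fintype V] [Fintype W]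
    [MulAction G V] [MulAction H W] [FaithfulSMul G V] [FaithfulSMul H W]
    [IsPretransitive G V] [IsPretransitive H W] [IsSimpleGroup H]
    (hV : Fintype.card V = 100) (hW : Fintype.card W = 100)
    (hG : Nat.card G = 44352000) (hH : Nat.card H = 44352000) {a b c : V} {a' b' c' : W}
    (hb : (orbit (stabilizer G a) b).ncard = 22) (hc : (orbit (stabilizer G a) c).ncard = 77)
    (hb' : (orbit (stabilizer H a') b').ncard = 22)
    (hc' : (orbit (stabilizer H a') c').ncard = 77) : Nonempty (G ≃* H) := by
  classical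
  obtain ⟨Γ, _, hΓ, iΓ⟩ := exists_srg hV hb hc
  obtain ⟨Δ, _, hΔ, iΔ⟩ := exists_srg hW hb' hc'
  obtain ⟨e⟩ := Srg100.unique hΓ hΔ
  obtain ⟨i⟩ := Srg100.iso_pointBlock hΔ a'
  have hA : Nat.card (Δ ≃g Δ) = 88704000 := by
    rw [← HSGraph.card_aut (Srg100.card_pts hΔ a') (Srg100.steiner hΔ a')]
    exact Nat.card_congr
      { toFun := fun f => (i.trans f).trans i.symm
        invFun := fun f => (i.symm.trans f).trans i
        left_inv := fun f => RelIso.ext fun x => by simp
        right_inv := fun f => RelIso.ext fun x => by simp }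
  obtain ⟨φ, hφ⟩ := exists_hom_aut iΓ e
  obtain ⟨ψ, hψ⟩ := exists_hom_aut iΔ (RelIso.refl _ : Δ ≃g Δ)
  haveI : Finite (Δ ≃g Δ) := Nat.finite_of_card_ne_zero (by omega)
  have hφc : Nat.card φ.range = 44352000 :=
    (Nat.card_congr (MonoidHom.ofInjective hφ).toEquiv).symm.trans hG
  have hψc : Nat.card ψ.range = 44352000 :=
    (Nat.card_congr (MonoidHom.ofInjective hψ).toEquiv).symm.trans hH
  have hidx : φ.range.index = 2 := by
    have := φ.range.card_mul_index
    rw [hA, hφc] at this
    omega
  haveI := Subgroup.normal_of_index_eq_two hidx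
  have hle : ψ.range ≤ φ.range := by
    rcases (inferInstance : (φ.range.comap ψ).Normal).eq_bot_or_eq_top with h | h
    · exfalso
      have hd : (φ.range.comap ψ).index ∣ 2 := by
        rw [← hidx, Subgroup.index_comap]
        exact Subgroup.relIndex_dvd_index_of_normal _ _
      rw [h, Subgroup.index_bot, hH] at hd
      omega
    · rintro _ ⟨x, rfl⟩
      exact (h ▸ Subgroup.mem_top x : x ∈ φ.range.comap ψ)
  have heq : ψ.range = φ.range := Subgroup.eq_of_le_of_card_ge hle (by omega)
  exact ⟨(MonoidHom.ofInjective hφ).trans ((MulEquiv.subgroupCongr heq.symm).trans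
    (MonoidHom.ofInjective hψ).symm)⟩

end Cfsg.Agent.Lib.RankThree100
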