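import Cfsg.Agent.Lib.Design.CodeExtend
import Cfsg.Agent.Lib.Design.Count
import Cfsg.Agent.Lib.Golay.Steiner
import Cfsg.Agent.Lib.Golay.UniqueMap
import Cfsg.Agent.Lib.Golay.Transitive

/-!
The large Witt systems S(5, 8, 24), S(4, 7, 23) and S(3, 6, 22) are carried onto the octad system,
hence are unique.
-/

set_option autoImplicit false

namespace Cfsg.Agent.Lib.WittModel

open Cfsg Finset
open scoped Pointwise

variable {α : Type*} [Fintype α] [DecidableEq α]

theorem exists_code_equiv (hα : Fintype.card α = 24) (S : Set (Finset α))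
    (h4 : ∀ b ∈ S, 4 ∣ b.card) (heven : ∀ b ∈ S, ∀ c ∈ S, Even (b ∩ c).card)
    (hno : ∀ T : Finset α, T.card = 4 → ∃ b ∈ S, ¬ Even (T ∩ b).card) :
    ∃ e : α ≃ GolayPt, ∀ b ∈ S, Golay.IsCodeSet (b.image e) := by
  obtain ⟨C, hC, hS⟩ := CodeExtend.exists_isGolay hα S h4 heven hno
  obtain ⟨e, he⟩ := Golay.Unique.exists_equiv hC
  refine ⟨e, fun b hb => ?_⟩
  have h := (he (Golay.word (b.image e))).2 ?_
  · exact h
  · convert hS b hb using 1
    funext i
    simp [Golay.word, BinCode24.word]

/-- A block through `S` missing `x`. -/
theorem exists_avoid {t k : ℕ} {B : Finset (Finset α)}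
    (hB : IsSteinerSystem t k (B : Set (Finset α))) {S : Finset α} {x : α} (hx : x ∉ S)
    (hS : S.card + 1 ≤ t)
    (hlt : (Fintype.card α - (S.card + 1)).choose (t - (S.card + 1)) * (k - S.card).choose (t - S.card)
      < (Fintype.card α - S.card).choose (t - S.card) * (k - (S.card + 1)).choose (t - (S.card + 1))) :
    ∃ b ∈ B, S ⊆ b ∧ x ∉ b := by
  have h1 := Design.card_blocks_through hB (S := S) (by omega)
  have h2 := Design.card_blocks_through hB (S := insert x S)
    (by rw [card_insert_of_notMem hx]; exact hS)
  rw [card_insert_of_notMem hx] at h2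
  by_contra hno
  push Not at hno
  have e : (B.filter fun b => S ⊆ b) = B.filter fun b => insert x S ⊆ b :=
    filter_congr fun b hb => ⟨fun h => insert_subset (hno b hb h) h,
      fun h => (subset_insert _ _).trans h⟩
  rw [← e] at h2
  rw [← h1, ← h2] at hlt
  simp [mul_right_comm] at hlt

/-- Octads of the model are exactly the images of the given family. -/
theorem octad_iff {e : α ≃ GolayPt} {s : Finset α} :
    s.image e ∈ octads ↔ Golay.IsCodeSet (s.image e) ∧ s.card = 8 := by
  rw [Golay.mem_octads_iff, card_image_of_injective _ e.injective]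

theorem model24 (hα : Fintype.card α = 24) {B : Set (Finset α)} (hB : IsSteinerSystem 5 8 B) :
    ∃ e : α ≃ GolayPt, ∀ s : Finset α, s ∈ B ↔ s.image e ∈ octads := by
  obtain ⟨B, rfl⟩ := Golay.exists_blocks (B' := B)
  have heven : ∀ b ∈ (B : Set (Finset α)), ∀ c ∈ (B : Set (Finset α)), Even (b ∩ c).card := by
    intro b hb c hc
    rcases eq_or_ne b c with rfl | hne
    · rw [inter_self, hB.1 b hb]; decide
    · rcases Golay.inter_24_cases hα hB hb hc hne with h | h | h <;> rw [h] <;> decide
  obtain ⟨e, he⟩ := exists_code_equiv hα (B : Set (Finset α))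
    (fun b hb => by rw [hB.1 b hb]; norm_num) heven fun T hT => by
      obtain ⟨x, hx⟩ : T.Nonempty := card_pos.1 (by omega)
      have h3 : (T.erase x).card = 3 := by rw [card_erase_of_mem hx]; omega
      obtain ⟨b, hb, hsub, hxb⟩ := exists_avoid hB (S := T.erase x) (x := x) (notMem_erase x T)
        (by omega) (by rw [h3, hα]; decide)
      refine ⟨b, mem_coe.2 hb, ?_⟩
      have : T ∩ b = T.erase x := by
        ext p
        simp only [mem_inter, mem_erase]
        exact ⟨fun h => ⟨fun e => hxb (e ▸ h.2), h.1⟩,
          fun h => ⟨h.2, hsub (mem_erase.2 h)⟩⟩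
      rw [this, h3]; decide
  refine ⟨e, fun s => ⟨fun hs => octad_iff.2 ⟨he s hs, hB.1 s hs⟩, fun hs => ?_⟩⟩
  obtain ⟨u, hu, hu5⟩ := exists_subset_card_eq (s := s) (n := 5) (by
    have := (octad_iff.1 hs).2; omega)
  obtain ⟨b, ⟨hb, hub⟩, -⟩ := hB.2 u hu5
  have := Golay.octad_eq_of_five_le (octad_iff.2 ⟨he b hb, hB.1 b hb⟩) hs (by
    refine le_trans ?_ (card_le_card (show u.image e ⊆ _ from
      subset_inter (image_subset_image hub) (image_subset_image hu)))
    rw [card_image_of_injective _ e.injective, hu5])
  rwa [← image_injective e.injective this]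

theorem image_smul' (g : Equiv.Perm GolayPt) (e : α ≃ GolayPt) (s : Finset α) :
    s.image (e.trans g) = g • s.image e := by
  rw [Golay.smul_finset_eq_image, image_image]; rfl

theorem inter_insertNone (s t : Finset α) : insertNone s ∩ insertNone t = insertNone (s ∩ t) := by
  ext (_ | a) <;> simp

theorem eq_insertNone {s : Finset (Option α)} (h : none ∈ s) : s = insertNone (eraseNone s) := by
  rw [insertNone_eraseNone, insert_eq_of_mem h]

theorem even_card_insertNone (s : Finset α) : Even (insertNone s).card ↔ ¬ Even s.card := by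
  rw [card_insertNone, Nat.even_add_one]

theorem model23 (hα : Fintype.card α = 23) {B : Set (Finset α)} (hB : IsSteinerSystem 4 7 B) :
    ∃ e : Option α ≃ GolayPt, e none = Golay.pt ⟨23, by norm_num⟩ ∧
      ∀ s : Finset α, s ∈ B ↔ (insertNone s).image e ∈ octads := by
  obtain ⟨B, rfl⟩ := Golay.exists_blocks (B' := B)
  have hO : Fintype.card (Option α) = 24 := by rw [Fintype.card_option, hα]
  let S : Set (Finset (Option α)) := (fun b => insertNone b) '' (B : Set (Finset α))
  obtain ⟨e0, he0⟩ := exists_code_equiv hO S
    (by rintro _ ⟨b, hb, rfl⟩; rw [card_insertNone, hB.1 b hb]; try norm_num)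
    (by
      rintro _ ⟨b, hb, rfl⟩ _ ⟨c, hc, rfl⟩
      rw [inter_insertNone, even_card_insertNone]
      rcases eq_or_ne b c with rfl | hne
      · rw [inter_self, hB.1 b hb]; decide
      · rcases Golay.inter_23_cases hα hB hb hc hne with h | h <;> rw [h] <;> decide)
    fun T hT => by
      by_cases hn : none ∈ T
      · -- the set contains the new point
        have h3 : (eraseNone T).card = 3 := by
          have := congrArg Finset.card (eq_insertNone hn)
          rw [hT, card_insertNone] at this; omega
        obtain ⟨x, hx⟩ : (eraseNone T).Nonempty := card_pos.1 (by omega)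
        have h2 : ((eraseNone T).erase x).card = 2 := by rw [card_erase_of_mem hx]; omega
        obtain ⟨b, hb, hsub, hxb⟩ := exists_avoid hB (S := (eraseNone T).erase x) (x := x)
          (notMem_erase _ _) (by omega) (by rw [h2, hα]; decide)
        refine ⟨insertNone b, ⟨b, mem_coe.2 hb, rfl⟩, ?_⟩
        have : eraseNone T ∩ b = (eraseNone T).erase x := by
          ext p
          simp only [mem_inter, mem_erase]
          exact ⟨fun h => ⟨fun e => hxb (e ▸ h.2), h.1⟩,
            fun h => ⟨h.2, hsub (mem_erase.2 h)⟩⟩
        rw [eq_insertNone hn, inter_insertNone, even_card_insertNone, this, h2]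
        decide
      · -- the set is inside the old points
        have h4 : (eraseNone T).card = 4 := by
          have e1 : T = (eraseNone T).map Function.Embedding.some := by
            rw [map_some_eraseNone, erase_eq_of_notMem hn]
          have := congrArg Finset.card e1
          rw [hT, card_map] at this; omega
        obtain ⟨x, hx⟩ : (eraseNone T).Nonempty := card_pos.1 (by omega)
        have h3 : ((eraseNone T).erase x).card = 3 := by rw [card_erase_of_mem hx]; omega
        obtain ⟨b, hb, hsub, hxb⟩ := exists_avoid hB (S := (eraseNone T).erase x) (x := x)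
          (notMem_erase _ _) (by omega) (by rw [h3, hα]; decide)
        refine ⟨insertNone b, ⟨b, mem_coe.2 hb, rfl⟩, ?_⟩
        have : T ∩ insertNone b = ((eraseNone T).erase x).map Function.Embedding.some := by
          ext (_ | p)
          · simp [hn]
          · simp only [mem_inter, some_mem_insertNone, mem_map, mem_erase,
              Function.Embedding.some_apply, Option.some.injEq, exists_eq_right, mem_eraseNone]
            exact ⟨fun h => ⟨fun e => hxb (e ▸ h.2), h.1⟩,
              fun h => ⟨h.2, hsub (mem_erase.2 ⟨h.1, mem_eraseNone.2 h.2⟩)⟩⟩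
        rw [this, card_map, h3]
        decide
  obtain ⟨g, hg, hgm⟩ := Golay.exists_map_list [e0 none] [Golay.pt ⟨23, by norm_num⟩] rfl
    (by simp) (by simp) (by simp)
  refine ⟨e0.trans g, (List.cons.inj hgm).1, fun s => ?_⟩
  rw [image_smul']
  have hfwd : ∀ b ∈ B, (insertNone b).image e0 ∈ octads := fun b hb =>
    octad_iff.2 ⟨he0 _ ⟨b, mem_coe.2 hb, rfl⟩, by rw [card_insertNone, hB.1 b (mem_coe.2 hb)]⟩
  constructor
  · intro hs; exact Golay.M24_octad hg (hfwd s hs)
  · intro hs
    have hs' := Golay.M24_octad (inv_mem hg) hs
    rw [inv_smul_smul] at hs'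
    have h7 : s.card = 7 := by
      have := (octad_iff.1 hs').2; rw [card_insertNone] at this; omega
    obtain ⟨u, hu, hu4⟩ := exists_subset_card_eq (s := s) (n := 4) (by omega)
    obtain ⟨b, ⟨hb, hub⟩, -⟩ := hB.2 u hu4
    have := Golay.octad_eq_of_five_le (hfwd b hb) hs' (by
      refine le_trans ?_ (card_le_card (show (insertNone u).image e0 ⊆ _ from
        subset_inter (image_subset_image (insertNone.monotone hub))
          (image_subset_image (insertNone.monotone hu))))
      rw [card_image_of_injective _ e0.injective, card_insertNone, hu4])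
    have e1 := insertNone.injective (image_injective e0.injective this)
    rwa [← e1]

theorem model22 (hα : Fintype.card α = 22) {B : Set (Finset α)} (hB : IsSteinerSystem 3 6 B) :
    ∃ e : Option (Option α) ≃ GolayPt, e none = Golay.pt ⟨23, by norm_num⟩ ∧
      e (some none) = Golay.pt ⟨0, by norm_num⟩ ∧
      ∀ s : Finset α, s ∈ B ↔ (insertNone (insertNone s)).image e ∈ octads := by
  obtain ⟨B, rfl⟩ := Golay.exists_blocks (B' := B)
  have hO : Fintype.card (Option (Option α)) = 24 := by
    rw [Fintype.card_option, Fintype.card_option, hα]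
  let S : Set (Finset (Option (Option α))) :=
    (fun b => insertNone (insertNone b)) '' (B : Set (Finset α))
  have hval : ∀ (T : Finset (Option (Option α))) (b : Finset α),
      (T ∩ insertNone (insertNone b)).card = (if none ∈ T then 1 else 0) +
        (if some none ∈ T then 1 else 0) + (eraseNone (eraseNone T) ∩ b).card := by
    intro T b
    have h1 : ∀ {γ : Type _} [DecidableEq γ] (U : Finset (Option γ)) (c : Finset γ),
        (U ∩ insertNone c).card = (if none ∈ U then 1 else 0) + (eraseNone U ∩ c).card := by
      intro γ _ U c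
      split
      · next h =>
        conv_lhs => rw [show U = insertNone (eraseNone U) by
          rw [insertNone_eraseNone, insert_eq_of_mem h]]
        rw [show insertNone (eraseNone U) ∩ insertNone c = insertNone (eraseNone U ∩ c) by
          ext (_ | a) <;> simp, card_insertNone, add_comm]
      · next h =>
        rw [zero_add, show U ∩ insertNone c = (eraseNone U ∩ c).map Function.Embedding.some by
          ext (_ | a) <;> simp [h], card_map]
    rw [h1, h1, ← add_assoc]
    simp only [mem_eraseNone]
  obtain ⟨e0, he0⟩ := exists_code_equiv hO S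
    (by rintro _ ⟨b, hb, rfl⟩; rw [card_insertNone, card_insertNone, hB.1 b hb]; try norm_num)
    (by
      rintro _ ⟨b, hb, rfl⟩ _ ⟨c, hc, rfl⟩
      rw [inter_insertNone, inter_insertNone, card_insertNone, card_insertNone]
      rcases eq_or_ne b c with rfl | hne
      · rw [inter_self, hB.1 b hb]; decide
      · rcases Golay.inter_22_cases hα hB hb hc hne with h | h <;> rw [h] <;> decide)
    fun T hT => by
      set U := eraseNone (eraseNone T) with hU
      have hcard : (if none ∈ T then 1 else 0) + (if some none ∈ T then 1 else 0) + U.card = 4 := by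
        have := hval T Finset.univ
        rw [inter_univ, show insertNone (insertNone (univ : Finset α)) = univ by
          ext (_ | _ | a) <;> simp, inter_univ, hT] at this
        exact this.symm
      suffices ∃ b ∈ B, ¬ Even ((if none ∈ T then 1 else 0) + (if some none ∈ T then 1 else 0) +
          (U ∩ b).card) by
        obtain ⟨b, hb, hodd⟩ := this
        exact ⟨_, ⟨b, mem_coe.2 hb, rfl⟩, by rw [hval]; exact hodd⟩
      have avoid1 : ∀ x ∈ U, ((U.erase x).card = 1 ∨ (U.erase x).card = 2) →
          ∃ b ∈ B, (U ∩ b).card = (U.erase x).card := by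
        intro x hx hc
        obtain ⟨b, hb, hsub, hxb⟩ := exists_avoid hB (S := U.erase x) (x := x) (notMem_erase _ _)
          (by omega) (by rcases hc with h | h <;> rw [h, hα] <;> decide)
        refine ⟨b, hb, congrArg Finset.card ?_⟩
        ext p
        simp only [mem_inter, mem_erase]
        exact ⟨fun h => ⟨fun e => hxb (e ▸ h.2), h.1⟩, fun h => ⟨h.2, hsub (mem_erase.2 h)⟩⟩
      by_cases hn : none ∈ T <;> by_cases hsn : some none ∈ T <;>
        simp only [hn, hsn, if_true, if_false] at hcard ⊢
      · obtain ⟨x, hx⟩ : U.Nonempty := card_pos.1 (by omega)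
        obtain ⟨b, hb, e⟩ := avoid1 x hx (by rw [card_erase_of_mem hx]; omega)
        refine ⟨b, hb, ?_⟩
        rw [e, card_erase_of_mem hx, show U.card = 2 by omega]; decide
      · obtain ⟨x, hx⟩ : U.Nonempty := card_pos.1 (by omega)
        obtain ⟨b, hb, e⟩ := avoid1 x hx (by rw [card_erase_of_mem hx]; omega)
        refine ⟨b, hb, ?_⟩
        rw [e, card_erase_of_mem hx, show U.card = 3 by omega]; decide
      · obtain ⟨x, hx⟩ : U.Nonempty := card_pos.1 (by omega)
        obtain ⟨b, hb, e⟩ := avoid1 x hx (by rw [card_erase_of_mem hx]; omega)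
        refine ⟨b, hb, ?_⟩
        rw [e, card_erase_of_mem hx, show U.card = 3 by omega]; decide
      · -- a block through one point of the four missing the other three
        obtain ⟨q, hq⟩ : U.Nonempty := card_pos.1 (by omega)
        have h21 := Design.card_blocks_through hB (S := {q}) (by simp)
        simp only [singleton_subset_iff, hα, card_singleton] at h21
        norm_num [Nat.choose] at h21
        have h5 : ∀ r ∈ U.erase q, (B.filter fun d => q ∈ d ∧ r ∈ d).card ≤ 5 := by
          intro r hr
          have hqr : q ≠ r := (mem_erase.1 hr).1.symm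
          have h := Design.card_blocks_through hB (S := {q, r}) (by rw [card_pair hqr]; norm_num)
          simp only [insert_subset_iff, singleton_subset_iff, hα, card_pair hqr] at h
          norm_num [Nat.choose] at h
          omega
        have h15 : ((U.erase q).biUnion fun r => B.filter fun d => q ∈ d ∧ r ∈ d).card ≤ 15 :=
          card_biUnion_le.trans ((sum_le_card_nsmul _ _ 5 h5).trans (by
            rw [card_erase_of_mem hq, smul_eq_mul]; omega))
        obtain ⟨b, hb, hnb⟩ := exists_mem_notMem_of_card_lt_card
          (s := (U.erase q).biUnion fun r => B.filter fun d => q ∈ d ∧ r ∈ d)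
          (t := B.filter fun d => q ∈ d) (by omega)
        rw [mem_filter] at hb
        refine ⟨b, hb.1, ?_⟩
        have : U ∩ b = {q} := by
          ext p
          simp only [mem_inter, mem_singleton]
          refine ⟨fun h => ?_, by rintro rfl; exact ⟨hq, hb.2⟩⟩
          by_contra hne
          exact hnb (mem_biUnion.2 ⟨p, mem_erase.2 ⟨hne, h.1⟩, mem_filter.2 ⟨hb.1, hb.2, h.2⟩⟩)
        rw [this, card_singleton]; decide
  obtain ⟨g, hg, hgm⟩ := Golay.exists_map_list [e0 none, e0 (some none)]
    [Golay.pt ⟨23, by norm_num⟩, Golay.pt ⟨0, by norm_num⟩] rfl (by simp)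
    (by simp) (List.nodup_cons.2 ⟨fun h => by
      have e := congrArg (fun p => (Golay.idx p).val) (List.mem_singleton.1 h)
      simp only [Golay.idx_pt] at e
      omega, List.nodup_singleton _⟩)
  simp only [List.map_cons, List.map_nil, List.cons.injEq, and_true] at hgm
  refine ⟨e0.trans g, hgm.1, hgm.2, fun s => ?_⟩
  rw [image_smul']
  have hfwd : ∀ b ∈ B, (insertNone (insertNone b)).image e0 ∈ octads := fun b hb =>
    octad_iff.2 ⟨he0 _ ⟨b, mem_coe.2 hb, rfl⟩,
      by rw [card_insertNone, card_insertNone, hB.1 b (mem_coe.2 hb)]⟩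
  constructor
  · intro hs; exact Golay.M24_octad hg (hfwd s hs)
  · intro hs
    have hs' := Golay.M24_octad (inv_mem hg) hs
    rw [inv_smul_smul] at hs'
    have h6 : s.card = 6 := by
      have := (octad_iff.1 hs').2; rw [card_insertNone, card_insertNone] at this; omega
    obtain ⟨u, hu, hu3⟩ := exists_subset_card_eq (s := s) (n := 3) (by omega)
    obtain ⟨b, ⟨hb, hub⟩, -⟩ := hB.2 u hu3
    have := Golay.octad_eq_of_five_le (hfwd b hb) hs' (by
      refine le_trans ?_ (card_le_card (show (insertNone (insertNone u)).image e0 ⊆ _ from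
        subset_inter (image_subset_image (insertNone.monotone (insertNone.monotone hub)))
          (image_subset_image (insertNone.monotone (insertNone.monotone hu)))))
      rw [card_image_of_injective _ e0.injective, card_insertNone, card_insertNone, hu3])
    have e1 := insertNone.injective (insertNone.injective (image_injective e0.injective this))
    rwa [← e1]

/-! ### Isomorphisms -/

variable {β : Type*} [Fintype β] [DecidableEq β]

theorem iso_of_forall {B : Set (Finset α)} {B' : Set (Finset β)} (E : α ≃ β)
    (h : ∀ s : Finset α, s ∈ B ↔ s.image E ∈ B') : SetSystemIso B B' := by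
  refine ⟨E, Set.ext fun t => ⟨?_, fun ht => ?_⟩⟩
  · rintro ⟨s, hs, rfl⟩; exact (h s).1 hs
  · refine ⟨t.image E.symm, (h _).2 ?_, ?_⟩ <;> simp [image_image, Function.comp_def, ht]

theorem image_insertNone (E : Option α ≃ Option β) (hE : E none = none) (s : Finset α) :
    (insertNone s).image E = insertNone (s.image E.removeNone) := by
  have hsome : ∀ a, some (E.removeNone a) = E (some a) := fun a => by
    refine E.removeNone_some ?_
    cases h : E (some a) with
    | none => exact absurd (E.injective (h.trans hE.symm)) (by simp)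
    | some b => exact ⟨b, rfl⟩
  ext (_ | b)
  · simp only [mem_image, none_mem_insertNone, iff_true]
    exact ⟨none, none_mem_insertNone, hE⟩
  · simp only [mem_image, some_mem_insertNone]
    constructor
    · rintro ⟨(_ | a), ha, e⟩
      · rw [hE] at e; exact absurd e (by simp)
      · exact ⟨a, some_mem_insertNone.1 ha, Option.some_injective _ ((hsome a).trans e)⟩
    · rintro ⟨a, ha, rfl⟩; exact ⟨some a, some_mem_insertNone.2 ha, (hsome a).symm⟩

theorem image_trans_symm {γ : Type*} [DecidableEq γ] (e : α ≃ γ) (e' : β ≃ γ) (s : Finset α) :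
    (s.image (e.trans e'.symm)).image e' = s.image e := by
  rw [image_image]
  exact image_congr fun x _ => by simp

theorem unique24 (hα : Fintype.card α = 24) (hβ : Fintype.card β = 24) {B : Set (Finset α)}
    {B' : Set (Finset β)} (hB : IsSteinerSystem 5 8 B) (hB' : IsSteinerSystem 5 8 B') :
    SetSystemIso B B' := by
  obtain ⟨e, he⟩ := model24 hα hB
  obtain ⟨e', he'⟩ := model24 hβ hB'
  exact iso_of_forall (e.trans e'.symm) fun s => by rw [he, he', image_trans_symm]

theorem unique23 (hα : Fintype.card α = 23) (hβ : Fintype.card β = 23) {B : Set (Finset α)}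
    {B' : Set (Finset β)} (hB : IsSteinerSystem 4 7 B) (hB' : IsSteinerSystem 4 7 B') :
    SetSystemIso B B' := by
  obtain ⟨e, hn, he⟩ := model23 hα hB
  obtain ⟨e', hn', he'⟩ := model23 hβ hB'
  have hE : (e.trans e'.symm) none = none := by
    rw [Equiv.trans_apply, hn, ← hn', Equiv.symm_apply_apply]
  exact iso_of_forall (e.trans e'.symm).removeNone fun s => by
    rw [he, he', ← image_insertNone _ hE, image_trans_symm]

theorem unique22 (hα : Fintype.card α = 22) (hβ : Fintype.card β = 22) {B : Set (Finset α)}
    {B' : Set (Finset β)} (hB : IsSteinerSystem 3 6 B) (hB' : IsSteinerSystem 3 6 B') :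
    SetSystemIso B B' := by
  obtain ⟨e, hn, hn1, he⟩ := model22 hα hB
  obtain ⟨e', hn', hn1', he'⟩ := model22 hβ hB'
  have hE : (e.trans e'.symm) none = none := by
    rw [Equiv.trans_apply, hn, ← hn', Equiv.symm_apply_apply]
  have hE1 : (e.trans e'.symm).removeNone none = none := by
    have hs : (e.trans e'.symm) (some none) = some none := by
      rw [Equiv.trans_apply, hn1, ← hn1', Equiv.symm_apply_apply]
    have := (e.trans e'.symm).removeNone_some (x := none) ⟨none, hs⟩
    rw [hs] at this
    exact Option.some_injective _ this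
  exact iso_of_forall (e.trans e'.symm).removeNone.removeNone fun s => by
    rw [he, he', ← image_insertNone _ hE1, ← image_insertNone _ hE, image_trans_symm]

end Cfsg.Agent.Lib.WittModel
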