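import Cfsg.Agent.Lib.Design.Classes15
import Cfsg.Agent.Lib.Design.WittModel
import Mathlib.Combinatorics.SimpleGraph.StronglyRegular
import Mathlib.Data.Fin.VecNotation

/-!
A strongly regular graph with parameters (77, 16, 0, 4) is the disjointness graph of the blocks of
an S(3, 6, 22): the points are recovered as the independent sets of size 21.
-/

set_option autoImplicit false

namespace Cfsg.Agent.Lib.Srg77

open Cfsg Finset

variable {V : Type*} [Fintype V] [DecidableEq V] {G : SimpleGraph V} [DecidableRel G.Adj]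

/-- The neighbours of a vertex. -/
def nb (G : SimpleGraph V) [DecidableRel G.Adj] (v : V) : Finset V := univ.filter (G.Adj v)

theorem mem_nb {v p : V} : p ∈ nb G v ↔ G.Adj v p := by simp [nb]

/-- The Gram matrix. -/
def wt (G : SimpleGraph V) [DecidableRel G.Adj] (x y : V) : ℤ :=
  (if x = y then 2 else 0) + 1 - (if G.Adj x y then 1 else 0)

omit [Fintype V] in
theorem wt_self (x : V) : wt G x x = 3 := by simp [wt]

omit [Fintype V] in
theorem wt_adj {x y : V} (ha : G.Adj x y) : wt G x y = 0 := by simp [wt, ha, ha.ne]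

omit [Fintype V] in
theorem wt_far {x y : V} (hne : x ≠ y) (ha : ¬ G.Adj x y) : wt G x y = 1 := by simp [wt, ha, hne]

omit [Fintype V] in
theorem wt_comm (x y : V) : wt G x y = wt G y x := by simp [wt, eq_comm, G.adj_comm]

variable (h : G.IsSRGWith 77 16 0 4)
include h

theorem card_nb (v : V) : (nb G v).card = 16 := by
  rw [← h.regular v, ← SimpleGraph.card_neighborFinset_eq_degree]
  exact congrArg Finset.card (by ext; simp [mem_nb])

theorem card_common (v w : V) :
    (nb G v ∩ nb G w).card = Fintype.card (G.commonNeighbors v w) := by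
  rw [← Set.toFinset_card]
  exact congrArg Finset.card (by ext; simp [mem_nb, SimpleGraph.mem_commonNeighbors])

theorem common_adj {v w : V} (ha : G.Adj v w) : nb G v ∩ nb G w = ∅ := by
  rw [← card_eq_zero, card_common h, h.of_adj v w ha]

theorem common_not_adj {v w : V} (hne : v ≠ w) (ha : ¬ G.Adj v w) :
    (nb G v ∩ nb G w).card = 4 := by
  rw [card_common h]; exact h.of_not_adj hne ha

theorem no_triangle {a b c : V} (hab : G.Adj a b) (hbc : G.Adj b c) : ¬ G.Adj a c := fun hac => by
  have : b ∈ nb G a ∩ nb G c := mem_inter.2 ⟨mem_nb.2 hab, mem_nb.2 hbc.symm⟩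
  rw [common_adj h hac] at this
  exact notMem_empty _ this

/-- Two distinct vertices with a common neighbour have weight 1. -/
theorem wt_two {a b c : V} (ha : G.Adj c a) (hb : G.Adj c b) (hne : a ≠ b) : wt G a b = 1 :=
  wt_far hne fun hab => no_triangle h ha hab hb

theorem wt_sum (x : V) (S : Finset V) :
    ∑ e ∈ S, wt G x e = (if x ∈ S then 2 else 0) + (S.card : ℤ) - ((S ∩ nb G x).card : ℤ) := by
  simp only [wt, sum_sub_distrib, sum_add_distrib, sum_ite_eq, sum_const, sum_boole, nsmul_eq_mul,
    mul_one]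
  congr 3
  ext e; simp [mem_nb]

theorem wt_row (x : V) : ∑ y, wt G x y = 63 := by
  rw [wt_sum h, if_pos (mem_univ x), univ_inter, card_nb h, card_univ, h.card]; norm_num

theorem wt_sq (x y : V) : ∑ z, wt G x z * wt G y z = 8 * wt G x y + 45 := by
  have e : ∀ z, wt G x z * wt G y z = (if x = z then 2 * wt G y z else 0)
      + (if y = z then 2 * (1 - if G.Adj x z then (1 : ℤ) else 0) else 0)
      + (1 - (if G.Adj x z then 1 else 0) - (if G.Adj y z then 1 else 0)
        + if G.Adj x z ∧ G.Adj y z then 1 else 0) := by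
    intro z
    unfold wt
    split_ifs <;> first | rfl | (exfalso; tauto) | norm_num
  simp only [e, sum_add_distrib, sum_sub_distrib, sum_ite_eq, mem_univ, if_true, sum_boole,
    sum_const, card_univ, h.card, nsmul_eq_mul, mul_one]
  rw [show univ.filter (fun z => G.Adj x z ∧ G.Adj y z) = nb G x ∩ nb G y by ext; simp [mem_nb],
    show univ.filter (fun z => G.Adj x z) = nb G x from rfl,
    show univ.filter (fun z => G.Adj y z) = nb G y from rfl, card_nb h, card_nb h, wt_comm y x]
  rcases eq_or_ne x y with rfl | hne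
  · simp [wt_self, card_nb h]
  by_cases ha : G.Adj x y
  · simp [wt_adj ha, ha, common_adj h ha]
  · simp [wt_far hne ha, ha, common_not_adj h hne ha]

/-- Positivity of the form on the complement of the all-one vector. -/
theorem wt_psd {ι : Type*} [Fintype ι] (f : ι → V) (a : ι → ℤ) :
    9 * (∑ i, a i) ^ 2 ≤ 11 * ∑ i, ∑ j, a i * a j * wt G (f i) (f j) := by
  set s := ∑ i, a i with hs
  set Q := ∑ i, ∑ j, a i * a j * wt G (f i) (f j) with hQ
  let φ : V → ℤ := fun z => ∑ i, a i * wt G (f i) z
  have h1 : ∑ z, φ z = 63 * s := by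
    simp only [φ]
    rw [sum_comm, hs, mul_sum]
    exact sum_congr rfl fun i _ => by rw [← mul_sum, wt_row h]; ring
  have h2 : ∑ z, φ z * φ z = 8 * Q + 45 * (s * s) := by
    simp only [φ, sum_mul_sum]
    rw [sum_comm, hs, hQ, sum_mul_sum, mul_sum, mul_sum, ← sum_add_distrib]
    refine sum_congr rfl fun i _ => ?_
    rw [sum_comm, mul_sum, mul_sum, ← sum_add_distrib]
    refine sum_congr rfl fun j _ => ?_
    rw [sum_congr rfl (g := fun z => a i * a j * (wt G (f i) z * wt G (f j) z)) fun z _ => by ring,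
      ← mul_sum, wt_sq h]
    ring
  have h3 : 0 ≤ ∑ z, (11 * φ z - 9 * s) ^ 2 := sum_nonneg fun z _ => sq_nonneg _
  rw [sum_congr rfl (g := fun z => 121 * (φ z * φ z) - 198 * s * φ z + 81 * (s * s))
      fun z _ => by ring, sum_add_distrib, sum_sub_distrib, ← mul_sum, ← mul_sum, h1, h2,
    sum_const, card_univ, h.card, nsmul_eq_mul] at h3
  push_cast at h3
  nlinarith

omit h

/-- The profile of a pair of distinct non-adjacent vertices. -/
def prof (G : SimpleGraph V) [DecidableRel G.Adj] (v w x : V) : ℤ :=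
  2 * wt G v x + 2 * wt G w x + ∑ e ∈ nb G v ∩ nb G w, wt G e x - 6

include h

theorem prof_eq {v w : V} (hne : v ≠ w) (ha : ¬ G.Adj v w) (x : V) :
    prof G v w x = 2 * wt G v x + 2 * wt G w x + (if x ∈ nb G v ∩ nb G w then 2 else 0) + 4
      - ((nb G v ∩ nb G w ∩ nb G x).card : ℤ) - 6 := by
  rw [prof, sum_congr rfl fun e _ => wt_comm e x, wt_sum h, common_not_adj h hne ha]
  push_cast
  ring

/-- Weights inside a pair of common neighbourhoods. -/
theorem card_triple_le {v w x : V} (hvw : v ≠ w) (avw : ¬ G.Adj v w) (hvx : v ≠ x)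
    (avx : ¬ G.Adj v x) (hwx : w ≠ x) (awx : ¬ G.Adj w x) :
    (nb G v ∩ nb G w ∩ nb G x).card ≤ 2 := by
  set E := nb G v ∩ nb G w with hE
  have hE4 : E.card = 4 := common_not_adj h hvw avw
  have hle : (E ∩ nb G x).card ≤ 4 := hE4 ▸ card_le_card inter_subset_left
  by_contra hc
  have adjE : ∀ e ∈ E ∩ nb G x, G.Adj v e ∧ G.Adj w e ∧ G.Adj x e := fun e he => by
    simp only [hE, mem_inter, mem_nb] at he; tauto
  rcases (by omega : (E ∩ nb G x).card = 4 ∨ (E ∩ nb G x).card = 3) with hc | hc
  · obtain ⟨e1, e2, e3, e4, n12, n13, n14, n23, n24, n34, he⟩ := card_eq_four.1 hc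
    obtain ⟨v1, w1, x1⟩ := adjE e1 (by simp [he])
    obtain ⟨v2, w2, x2⟩ := adjE e2 (by simp [he])
    obtain ⟨v3, w3, x3⟩ := adjE e3 (by simp [he])
    obtain ⟨v4, w4, x4⟩ := adjE e4 (by simp [he])
    have := wt_psd h ![v, w, x, e1, e2, e3, e4] ![10, 10, 10, 9, 9, 9, 9]
    simp [Fin.sum_univ_succ, wt_self, wt_far hvw avw, wt_far hvx avx, wt_far hwx awx,
      wt_far hvw.symm (fun a => avw a.symm), wt_far hvx.symm (fun a => avx a.symm),
      wt_far hwx.symm (fun a => awx a.symm), wt_adj v1, wt_adj v2, wt_adj v3, wt_adj v4,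
      wt_adj w1, wt_adj w2, wt_adj w3, wt_adj w4, wt_adj x1, wt_adj x2, wt_adj x3, wt_adj x4,
      wt_adj v1.symm, wt_adj v2.symm, wt_adj v3.symm, wt_adj v4.symm,
      wt_adj w1.symm, wt_adj w2.symm, wt_adj w3.symm, wt_adj w4.symm,
      wt_adj x1.symm, wt_adj x2.symm, wt_adj x3.symm, wt_adj x4.symm,
      wt_two h v1 v2 n12, wt_two h v2 v1 n12.symm, wt_two h v1 v3 n13, wt_two h v3 v1 n13.symm,
      wt_two h v1 v4 n14, wt_two h v4 v1 n14.symm, wt_two h v2 v3 n23, wt_two h v3 v2 n23.symm,
      wt_two h v2 v4 n24, wt_two h v4 v2 n24.symm, wt_two h v3 v4 n34,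
      wt_two h v4 v3 n34.symm] at this
  · obtain ⟨e1, e2, e3, n12, n13, n23, he⟩ := card_eq_three.1 hc
    obtain ⟨v1, w1, x1⟩ := adjE e1 (by simp [he])
    obtain ⟨v2, w2, x2⟩ := adjE e2 (by simp [he])
    obtain ⟨v3, w3, x3⟩ := adjE e3 (by simp [he])
    have fourth : ∀ a b c : V, a ≠ b → ¬ G.Adj a b → (nb G a ∩ nb G b ∩ nb G c).card = 3 →
        ∃ e, G.Adj a e ∧ G.Adj b e ∧ ¬ G.Adj c e := by
      intro a b c hab nab h3
      obtain ⟨e, he, hne⟩ := exists_mem_notMem_of_card_lt_card
        (s := nb G a ∩ nb G b ∩ nb G c) (t := nb G a ∩ nb G b)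
        (by rw [h3, common_not_adj h hab nab]; norm_num)
      simp only [mem_inter, mem_nb] at he hne
      exact ⟨e, he.1, he.2, fun hce => hne ⟨⟨he.1, he.2⟩, hce⟩⟩
    obtain ⟨e, ve, we, xe⟩ := fourth v w x hvw avw hc
    obtain ⟨f, vf, xf, wf⟩ := fourth v x w hvx avx (by
      rw [inter_right_comm]; exact hc)
    obtain ⟨g, wg, xg, vg⟩ := fourth w x v hwx awx (by
      rw [inter_comm _ (nb G v), ← inter_assoc]; exact hc)
    have nef : e ≠ f := fun r => xe (r ▸ xf)
    have neg' : e ≠ g := fun r => xe (r ▸ xg)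
    have nfg : f ≠ g := fun r => wf (r ▸ wg)
    have n1e : e1 ≠ e := fun r => xe (r ▸ x1)
    have n2e : e2 ≠ e := fun r => xe (r ▸ x2)
    have n3e : e3 ≠ e := fun r => xe (r ▸ x3)
    have n1f : e1 ≠ f := fun r => wf (r ▸ w1)
    have n2f : e2 ≠ f := fun r => wf (r ▸ w2)
    have n3f : e3 ≠ f := fun r => wf (r ▸ w3)
    have n1g : e1 ≠ g := fun r => vg (r ▸ v1)
    have n2g : e2 ≠ g := fun r => vg (r ▸ v2)
    have n3g : e3 ≠ g := fun r => vg (r ▸ v3)
    have nxe : x ≠ e := by rintro rfl; exact avx ve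
    have nwf : w ≠ f := by rintro rfl; exact avw vf
    have nvg : v ≠ g := by rintro rfl; exact avw wg.symm
    have := wt_psd h ![v, w, x, e1, e2, e3, e, f, g] ![5, 5, 5, 4, 4, 4, 2, 2, 2]
    simp [Fin.sum_univ_succ, wt_self, wt_far hvw avw, wt_far hvx avx, wt_far hwx awx,
      wt_far hvw.symm (fun a => avw a.symm), wt_far hvx.symm (fun a => avx a.symm),
      wt_far hwx.symm (fun a => awx a.symm), wt_adj v1, wt_adj v2, wt_adj v3,
      wt_adj w1, wt_adj w2, wt_adj w3, wt_adj x1, wt_adj x2, wt_adj x3,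
      wt_adj v1.symm, wt_adj v2.symm, wt_adj v3.symm,
      wt_adj w1.symm, wt_adj w2.symm, wt_adj w3.symm,
      wt_adj x1.symm, wt_adj x2.symm, wt_adj x3.symm,
      wt_adj ve, wt_adj ve.symm, wt_adj we, wt_adj we.symm, wt_adj vf, wt_adj vf.symm,
      wt_adj xf, wt_adj xf.symm, wt_adj wg, wt_adj wg.symm, wt_adj xg, wt_adj xg.symm,
      wt_far nxe xe, wt_far nxe.symm (fun a => xe a.symm),
      wt_far nwf wf, wt_far nwf.symm (fun a => wf a.symm),
      wt_far nvg vg, wt_far nvg.symm (fun a => vg a.symm),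
      wt_two h v1 v2 n12, wt_two h v2 v1 n12.symm, wt_two h v1 v3 n13, wt_two h v3 v1 n13.symm,
      wt_two h v2 v3 n23, wt_two h v3 v2 n23.symm,
      wt_two h v1 ve n1e, wt_two h ve v1 n1e.symm, wt_two h v2 ve n2e, wt_two h ve v2 n2e.symm,
      wt_two h v3 ve n3e, wt_two h ve v3 n3e.symm,
      wt_two h v1 vf n1f, wt_two h vf v1 n1f.symm, wt_two h v2 vf n2f, wt_two h vf v2 n2f.symm,
      wt_two h v3 vf n3f, wt_two h vf v3 n3f.symm,
      wt_two h w1 wg n1g, wt_two h wg w1 n1g.symm, wt_two h w2 wg n2g, wt_two h wg w2 n2g.symm,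
      wt_two h w3 wg n3g, wt_two h wg w3 n3g.symm,
      wt_two h ve vf nef, wt_two h vf ve nef.symm, wt_two h we wg neg', wt_two h wg we neg'.symm,
      wt_two h xf xg nfg, wt_two h xg xf nfg.symm] at this

omit h

/-- The vertices distinct from and not adjacent to `v`. -/
abbrev Far (G : SimpleGraph V) (v : V) : Type _ := {w : V // w ≠ v ∧ ¬ G.Adj v w}

include h

section

variable {v : V} (w : Far G v)

theorem prof_root : prof G v w v = 2 := by
  rw [prof_eq h w.2.1.symm w.2.2, wt_self, wt_far w.2.1 (fun a => w.2.2 a.symm), inter_right_comm,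
    inter_self, common_not_adj h w.2.1.symm w.2.2, if_neg (by simp [mem_nb])]
  norm_num

theorem prof_self : prof G v w w = 2 := by
  rw [prof_eq h w.2.1.symm w.2.2, wt_self, wt_far w.2.1.symm w.2.2, inter_assoc,
    inter_self, common_not_adj h w.2.1.symm w.2.2, if_neg (by simp [mem_nb])]
  norm_num

theorem prof_near {x : V} (hx : G.Adj v x) : prof G v w x = 0 := by
  have e : nb G v ∩ nb G w ∩ nb G x = ∅ := by
    rw [inter_right_comm, common_adj h hx, empty_inter]
  rw [prof_eq h w.2.1.symm w.2.2, wt_adj hx, e, card_empty]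
  by_cases ha : G.Adj w x
  · rw [wt_adj ha, if_pos (by simp [mem_nb, hx, ha])]; norm_num
  · rw [wt_far (fun e : (w : V) = x => w.2.2 (e ▸ hx)) ha, if_neg (by simp [mem_nb, ha])]
    norm_num

theorem prof_adj (u : Far G v) (ha : G.Adj w.1 u.1) : prof G v w u = 0 := by
  have e : nb G v ∩ nb G w ∩ nb G u = ∅ := by
    rw [inter_assoc, common_adj h ha, inter_empty]
  rw [prof_eq h w.2.1.symm w.2.2, wt_far u.2.1.symm u.2.2, wt_adj ha,
    if_neg (by simp [mem_nb, u.2.2]), e, card_empty]
  norm_num

theorem prof_far (u : Far G v) (hne : w ≠ u) (ha : ¬ G.Adj w.1 u.1) :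
    prof G v w u = 2 - ((nb G v ∩ nb G w ∩ nb G u).card : ℤ) := by
  rw [prof_eq h w.2.1.symm w.2.2, wt_far u.2.1.symm u.2.2,
    wt_far (fun e => hne (Subtype.ext e)) ha, if_neg (by simp [mem_nb, u.2.2])]
  ring

theorem prof_bounds (u : Far G v) : 0 ≤ prof G v w u ∧ prof G v w u ≤ 2 := by
  rcases eq_or_ne w u with rfl | hne
  · rw [prof_self h]; norm_num
  by_cases ha : G.Adj w.1 u.1
  · rw [prof_adj h w u ha]; norm_num
  · rw [prof_far h w u hne ha]
    have := card_triple_le h w.2.1.symm w.2.2 u.2.1.symm u.2.2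
      (fun e => hne (Subtype.ext e)) ha
    omega

theorem prof_symm (u : Far G v) : prof G v w u = prof G v u w := by
  rcases eq_or_ne w u with rfl | hne
  · rfl
  by_cases ha : G.Adj w.1 u.1
  · rw [prof_adj h w u ha, prof_adj h u w ha.symm]
  · rw [prof_far h w u hne ha, prof_far h u w hne.symm fun a => ha a.symm, inter_right_comm]

theorem prof_corr (x : V) :
    ∑ z, (prof G v w z + 6) * wt G x z = 8 * (prof G v w x + 6) + 360 := by
  simp only [prof, sub_add_cancel, add_mul, sum_add_distrib, mul_assoc, ← mul_sum, sum_mul,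
    wt_sq h]
  rw [sum_comm (t := nb G v ∩ nb G w)]
  simp only [wt_sq h, sum_add_distrib, ← mul_sum, sum_const,
    common_not_adj h w.2.1.symm w.2.2, nsmul_eq_mul, wt_comm (G := G) _ x]
  push_cast
  ring

theorem sum_prof : ∑ z, prof G v w z = 42 := by
  simp only [prof, sum_sub_distrib, sum_add_distrib, ← mul_sum, wt_row h, sum_const, card_univ,
    h.card]
  rw [sum_comm]
  simp only [wt_row h, sum_const, common_not_adj h w.2.1.symm w.2.2]
  norm_num

theorem sum_prof_mul (u : Far G v) :
    ∑ z, prof G v w z * prof G v u z = 20 + 16 * prof G v w u := by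
  have hexp : ∑ z, (prof G v w z + 6) * (prof G v u z + 6) = 3296 + 16 * prof G v w u := by
    have e : ∀ z, (prof G v w z + 6) * (prof G v u z + 6) =
        2 * ((prof G v w z + 6) * wt G v z) + 2 * ((prof G v w z + 6) * wt G u z)
          + ∑ e ∈ nb G v ∩ nb G u, (prof G v w z + 6) * wt G e z := fun z => by
      rw [← mul_sum]
      simp only [prof]
      ring
    simp only [e, sum_add_distrib]
    rw [sum_comm (t := nb G v ∩ nb G u), ← mul_sum, ← mul_sum, prof_corr h, prof_corr h,
      sum_congr rfl (g := fun _ => 408) fun e he => ?_, sum_const,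
      common_not_adj h u.2.1.symm u.2.2, prof_root h]
    · simp only [nsmul_eq_mul]; push_cast; ring
    · rw [prof_corr h, prof_near h w (mem_nb.1 (mem_inter.1 he).1)]; norm_num
  have e : ∀ z, prof G v w z * prof G v u z = (prof G v w z + 6) * (prof G v u z + 6)
      - 6 * prof G v w z - 6 * prof G v u z - 36 := fun z => by ring
  simp only [e, sum_sub_distrib, hexp, ← mul_sum, sum_prof h, sum_const, card_univ, h.card,
    nsmul_eq_mul]
  push_cast
  ring

theorem prof_ext (u : Far G v) (h2 : prof G v w u = 2) : prof G v w.1 = prof G v u.1 := by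
  have hs : ∑ z, (prof G v w z - prof G v u z) ^ 2 = 0 := by
    have e : ∀ z, (prof G v w z - prof G v u z) ^ 2 = prof G v w z * prof G v w z
        + prof G v u z * prof G v u z - 2 * (prof G v w z * prof G v u z) := fun z => by ring
    simp only [e, sum_sub_distrib, sum_add_distrib, ← mul_sum, sum_prof_mul h, prof_self h, h2]
    norm_num
  funext z
  have := (sum_eq_zero_iff_of_nonneg fun z _ => sq_nonneg _).1 hs z (mem_univ z)
  rw [sq_eq_zero_iff] at this
  omega

theorem sum_far (f : V → ℤ) (hf : ∀ x, G.Adj v x → f x = 0) :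
    ∑ u : Far G v, f u = ∑ z, f z - f v := by
  rw [← add_sum_erase univ f (mem_univ v), add_sub_cancel_left,
    ← sum_subtype ((univ.erase v).filter fun x => ¬ G.Adj v x) (by simp) f, sum_filter]
  refine sum_congr rfl fun x _ => ?_
  split_ifs with ha
  · exact (hf x ha).symm
  · rfl

theorem sum_far_prof : ∑ u : Far G v, prof G v w u = 40 := by
  rw [sum_far h (prof G v w) fun x hx => prof_near h w hx, sum_prof h, prof_root h]
  norm_num

theorem sum_far_mul (u : Far G v) :
    ∑ t : Far G v, prof G v w t * prof G v u t = 16 + 16 * prof G v w u := by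
  rw [sum_far h (fun z => prof G v w z * prof G v u z) fun x hx => by
    rw [prof_near h w hx, zero_mul], sum_prof_mul h, prof_root h, prof_root h]
  ring

theorem card_class : (univ.filter fun u : Far G v => prof G v u.1 = prof G v w.1).card = 4 := by
  have hset : (univ.filter fun u : Far G v => prof G v u.1 = prof G v w.1)
      = univ.filter fun u : Far G v => prof G v w.1 u.1 = 2 := by
    ext u
    simp only [mem_filter, mem_univ, true_and]
    exact ⟨fun e => (congrFun e u.1).symm.trans (prof_self h u),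
      fun e => (prof_ext h w u e).symm⟩
  have e : ∀ u : Far G v, 2 * (if prof G v w.1 u.1 = 2 then (1 : ℤ) else 0)
      = prof G v w u * prof G v w u - prof G v w u := by
    intro u
    obtain ⟨h0, h2⟩ := prof_bounds h w u
    rcases (by omega : prof G v w u = 0 ∨ prof G v w u = 1 ∨ prof G v w u = 2) with e | e | e <;>
      simp [e]
  have hs := sum_congr (s₁ := (univ : Finset (Far G v))) rfl (fun u _ => e u)
  rw [← mul_sum, sum_boole, sum_sub_distrib, sum_far_mul h, sum_far_prof h, prof_self h] at hs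
  rw [hset]
  omega

end

omit h

/-- The classes seen from `v`. -/
noncomputable abbrev Cls (G : SimpleGraph V) [DecidableRel G.Adj] (v : V) : Type _ :=
  {q : V → ℤ // q ∈ (univ : Finset (Far G v)).image fun w => prof G v w.1}

/-- The class of a vertex. -/
noncomputable def cls (v : V) (w : Far G v) : Cls G v := ⟨prof G v w.1, mem_image_of_mem _ (mem_univ w)⟩

/-- The value on two classes. -/
noncomputable def clsVal (v : V) (q q' : Cls G v) : ℤ :=
  q.1 (Classical.choose (mem_image.1 q'.2)).1

theorem cls_surjective (v : V) (q : Cls G v) : ∃ w, cls v w = q := by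
  obtain ⟨w, -, hw⟩ := mem_image.1 q.2
  exact ⟨w, Subtype.ext hw⟩

include h

variable {v : V}

theorem clsVal_cls (w u : Far G v) : clsVal v (cls v w) (cls v u) = prof G v w u := by
  set t := Classical.choose (mem_image.1 (cls v u).2) with ht
  have hspec : prof G v t.1 = prof G v u.1 := (Classical.choose_spec (mem_image.1 (cls v u).2)).2
  show prof G v w t = prof G v w u
  rw [prof_symm h, hspec, prof_symm h]

theorem card_fibre (q : Cls G v) : (univ.filter fun u : Far G v => cls v u = q).card = 4 := by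
  obtain ⟨w, rfl⟩ := cls_surjective v q
  simp only [cls, Subtype.mk.injEq]
  exact card_class h w

theorem sum_fibre (g : Cls G v → ℤ) : ∑ u : Far G v, g (cls v u) = 4 * ∑ q, g q := by
  rw [← sum_fiberwise univ (cls v) (fun u => g (cls v u)), mul_sum]
  refine sum_congr rfl fun q _ => ?_
  rw [sum_congr rfl (g := fun _ => g q) fun u hu => by rw [(mem_filter.1 hu).2], sum_const,
    card_fibre h, nsmul_eq_mul]
  push_cast
  rfl

theorem card_far : Fintype.card (Far G v) = 60 := by
  rw [Fintype.card_subtype, show (univ.filter fun w => w ≠ v ∧ ¬ G.Adj v w)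
    = univ \ insert v (nb G v) by ext; simp [mem_nb], card_univ_sdiff, h.card,
    card_insert_of_notMem (by simp [mem_nb]), card_nb h]

theorem rel15 : Classes15.Rel15 (clsVal (G := G) v) := by
  refine ⟨?_, ?_, ?_, ?_, ?_, ?_, ?_⟩
  · have h1 := sum_fibre h (v := v) (fun _ => (1 : ℤ))
    simp only [sum_const, card_univ, card_far h, nsmul_eq_mul, mul_one] at h1
    omega
  · intro q
    obtain ⟨w, rfl⟩ := cls_surjective v q
    rw [clsVal_cls h, prof_self h]
  · intro q q'
    obtain ⟨w, rfl⟩ := cls_surjective v q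
    obtain ⟨u, rfl⟩ := cls_surjective v q'
    rw [clsVal_cls h]; exact (prof_bounds h w u).1
  · intro q q' hne
    obtain ⟨w, rfl⟩ := cls_surjective v q
    obtain ⟨u, rfl⟩ := cls_surjective v q'
    rw [clsVal_cls h]
    have h2 : prof G v w u ≠ 2 := fun e => hne (Subtype.ext (prof_ext h w u e))
    have := (prof_bounds h w u).2
    omega
  · intro q q'
    obtain ⟨w, rfl⟩ := cls_surjective v q
    obtain ⟨u, rfl⟩ := cls_surjective v q'
    rw [clsVal_cls h, clsVal_cls h, prof_symm h]
  · intro q
    obtain ⟨w, rfl⟩ := cls_surjective v q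
    have h1 := sum_fibre h (v := v) (fun q' => clsVal v (cls v w) q')
    simp only [clsVal_cls h, sum_far_prof h] at h1
    omega
  · intro q q'
    obtain ⟨w, rfl⟩ := cls_surjective v q
    obtain ⟨u, rfl⟩ := cls_surjective v q'
    have h1 := sum_fibre h (v := v) (fun t => clsVal v (cls v w) t * clsVal v (cls v u) t)
    simp only [clsVal_cls h, sum_far_mul h] at h1
    rw [clsVal_cls h]
    omega

omit h

/-- An independent set of size 21. -/
def IsCo (G : SimpleGraph V) (C : Finset V) : Prop :=
  C.card = 21 ∧ ∀ x ∈ C, ∀ y ∈ C, ¬ G.Adj x y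

/-- The vertices of the classes in `K`, with the base vertex. -/
noncomputable def lift (v : V) (K : Finset (Cls G v)) : Finset V :=
  insert v ((univ.filter fun u : Far G v => cls v u ∈ K).map (Function.Embedding.subtype _))

theorem mem_lift {v : V} {K : Finset (Cls G v)} (u : Far G v) :
    u.1 ∈ lift v K ↔ cls v u ∈ K := by
  simp only [lift, mem_insert, mem_map, mem_filter, mem_univ, true_and,
    Function.Embedding.coe_subtype]
  exact ⟨fun hh => hh.elim (fun e => absurd e u.2.1) fun ⟨t, ht, e⟩ => Subtype.ext e ▸ ht,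
    fun hh => Or.inr ⟨u, hh, rfl⟩⟩

include h

theorem card_lift (K : Finset (Cls G v)) : (lift v K).card = 4 * K.card + 1 := by
  have hK : (univ.filter fun u : Far G v => cls v u ∈ K).card = 4 * K.card := by
    have hm : Set.MapsTo (cls v) (univ.filter fun u : Far G v => cls v u ∈ K : Set (Far G v)) K :=
      fun u hu => (mem_filter.1 hu).2
    rw [card_eq_sum_card_fiberwise hm,
      sum_congr rfl (g := fun _ => 4) fun q hq => ?_, sum_const, smul_eq_mul, mul_comm]
    rw [filter_filter, ← card_fibre h q]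
    congr 1
    ext u
    simp only [mem_filter, mem_univ, true_and]
    exact ⟨fun hh => hh.2, fun hh => ⟨hh ▸ hq, hh⟩⟩
  rw [lift, card_insert_of_notMem, card_map, hK]
  · simp only [mem_map, Function.Embedding.coe_subtype, not_exists, not_and]
    exact fun u _ e => u.2.1 e

theorem co_lift {K : Finset (Cls G v)} (hK : Classes15.IsStar (clsVal v) K) : IsCo G (lift v K) := by
  refine ⟨by rw [card_lift h, hK.1], fun x hx y hy ha => ?_⟩
  simp only [lift, mem_insert, mem_map, mem_filter, mem_univ, true_and,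
    Function.Embedding.coe_subtype] at hx hy
  rcases hx with rfl | ⟨w, hw, rfl⟩ <;> rcases hy with rfl | ⟨u, hu, rfl⟩
  · exact G.irrefl ha
  · exact u.2.2 ha
  · exact w.2.2 ha.symm
  · have h0 : clsVal v (cls v w) (cls v u) = 0 := by rw [clsVal_cls h, prof_adj h w u ha]
    rcases eq_or_ne (cls v w) (cls v u) with e | e
    · rw [e, (rel15 h).self] at h0; omega
    · rw [hK.2 _ hw _ hu e] at h0; omega

theorem co_card_nb {C : Finset V} (hC : IsCo G C) {x : V} (hx : x ∉ C) :
    (C ∩ nb G x).card = 6 := by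
  have hd : ∀ y, ((C ∩ nb G y).card : ℤ) = ∑ c ∈ C, if G.Adj c y then 1 else 0 := fun y => by
    rw [sum_boole]; congr 2; ext; simp [mem_nb, G.adj_comm]
  have hin : ∀ y ∈ C, (C ∩ nb G y).card = 0 := fun y hy => by
    rw [card_eq_zero, eq_empty_iff_forall_notMem]
    exact fun z hz => hC.2 y hy z (mem_inter.1 hz).1 (mem_nb.1 (mem_inter.1 hz).2)
  have h1 : ∑ y, ((C ∩ nb G y).card : ℤ) = 336 := by
    simp only [hd]
    rw [sum_comm, sum_congr rfl (g := fun _ => (16 : ℤ)) fun c _ => by
      rw [sum_boole, show univ.filter (G.Adj c) = nb G c from rfl, card_nb h]; rfl, sum_const,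
      hC.1]
    norm_num
  have h2 : ∑ y, ((C ∩ nb G y).card : ℤ) ^ 2 = 2016 := by
    simp only [hd, sq, sum_mul_sum]
    rw [sum_comm, sum_congr rfl (g := fun _ => (96 : ℤ)) fun c hc => ?_, sum_const, hC.1]
    · norm_num
    rw [sum_comm, sum_congr rfl (g := fun c' => if c' = c then (16 : ℤ) else 4) fun c' hc' => ?_]
    · rw [sum_ite, sum_const, sum_const, filter_eq', if_pos hc, card_singleton, filter_ne',
        card_erase_of_mem hc, hC.1]
      norm_num
    simp only [ite_mul, one_mul, zero_mul, ← ite_and, sum_boole]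
    rw [show univ.filter (fun y => G.Adj c y ∧ G.Adj c' y) = nb G c ∩ nb G c' by
      ext; simp [mem_nb]]
    split
    · next e => subst e; rw [inter_self, card_nb h]; rfl
    · next e => rw [common_not_adj h (Ne.symm e) (hC.2 c hc c' hc')]; rfl
  have h3 : ∑ y, (((C ∩ nb G y).card : ℤ) - if y ∈ C then 0 else 6) ^ 2 = 0 := by
    have e : ∀ y, (((C ∩ nb G y).card : ℤ) - if y ∈ C then 0 else 6) ^ 2
        = ((C ∩ nb G y).card : ℤ) ^ 2 - 12 * ((C ∩ nb G y).card : ℤ)
          + (36 - if y ∈ C then 36 else 0) := by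
      intro y
      split_ifs with hy
      · rw [hin y hy]; norm_num
      · ring
    simp only [e, sum_add_distrib, sum_sub_distrib, ← mul_sum, h1, h2, sum_ite_mem, univ_inter,
      sum_const, card_univ, h.card, hC.1]
    norm_num
  have := (sum_eq_zero_iff_of_nonneg fun y _ => sq_nonneg _).1 h3 x (mem_univ x)
  rw [if_neg hx, sq_eq_zero_iff] at this
  omega

theorem co_wt_sum {C : Finset V} (hC : IsCo G C) (x : V) :
    ∑ y ∈ C, wt G x y = if x ∈ C then 23 else 15 := by
  rw [wt_sum h, hC.1]
  split_ifs with hx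
  · rw [show C ∩ nb G x = ∅ from eq_empty_iff_forall_notMem.2 fun z hz =>
      hC.2 x hx z (mem_inter.1 hz).1 (mem_nb.1 (mem_inter.1 hz).2), card_empty]
    norm_num
  · rw [co_card_nb h hC hx]; norm_num

theorem co_prof_sum {C : Finset V} (hC : IsCo G C) (hv : v ∈ C) (w : Far G v) :
    ∑ y ∈ C, prof G v w y = if w.1 ∈ C then 26 else 10 := by
  simp only [prof, sum_sub_distrib, sum_add_distrib, ← mul_sum, co_wt_sum h hC, if_pos hv]
  rw [sum_comm, sum_congr rfl (g := fun _ => (15 : ℤ)) fun e he => ?_, sum_const, sum_const, hC.1,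
    common_not_adj h w.2.1.symm w.2.2]
  · split_ifs <;> norm_num
  · rw [co_wt_sum h hC, if_neg fun hm => hC.2 v hv e hm (mem_nb.1 (mem_inter.1 he).1)]

theorem exists_lift {C : Finset V} (hC : IsCo G C) (hv : v ∈ C) :
    ∃ K : Finset (Cls G v), Classes15.IsStar (clsVal v) K ∧ lift v K = C := by
  classical
  refine ⟨(univ.filter fun u : Far G v => u.1 ∈ C).image (cls v), ?_⟩
  set K := (univ.filter fun u : Far G v => u.1 ∈ C).image (cls v) with hKdef
  have hclosed : ∀ u : Far G v, cls v u ∈ K → u.1 ∈ C := by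
    intro u hu
    obtain ⟨w, hw, e⟩ := mem_image.1 hu
    have h1 := co_prof_sum h hC hv w
    have h2 := co_prof_sum h hC hv u
    have e' : prof G v w.1 = prof G v u.1 := congrArg Subtype.val e
    rw [if_pos (mem_filter.1 hw).2, e'] at h1
    by_contra hn
    rw [if_neg hn] at h2
    omega
  have heq : lift v K = C := by
    ext x
    rcases eq_or_ne x v with rfl | hx
    · simp [lift, hv]
    by_cases ha : G.Adj v x
    · refine iff_of_false ?_ fun hx' => hC.2 v hv x hx' ha
      simp only [lift, mem_insert, mem_map, mem_filter, mem_univ, true_and,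
        Function.Embedding.coe_subtype, not_or, not_exists, not_and]
      exact ⟨hx, fun u _ e => u.2.2 (e ▸ ha)⟩
    · rw [mem_lift (⟨x, hx, ha⟩ : Far G v)]
      exact ⟨hclosed ⟨x, hx, ha⟩, fun hm =>
        mem_image_of_mem _ (mem_filter.2 ⟨mem_univ _, hm⟩)⟩
  refine ⟨⟨?_, ?_⟩, heq⟩
  · have := card_lift h K
    rw [heq, hC.1] at this
    omega
  have hK5 : K.card = 5 := by
    have := card_lift h K
    rw [heq, hC.1] at this
    omega
  intro q hq q' hq' hne
  obtain ⟨w, rfl⟩ := cls_surjective v q
  have h1 := co_prof_sum h hC hv w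
  rw [if_pos (hclosed w hq), ← heq, lift, sum_insert, sum_map, prof_root h] at h1
  swap
  · simp only [mem_map, Function.Embedding.coe_subtype, not_exists, not_and]
    exact fun u _ e => u.2.1 e
  simp only [Function.Embedding.coe_subtype, ← clsVal_cls h] at h1
  rw [sum_filter, sum_fibre h (fun t => if t ∈ K then clsVal v (cls v w) t else 0),
    sum_ite_mem, univ_inter, ← add_sum_erase K _ hq, (rel15 h).self] at h1
  have h4 : ∑ t ∈ K.erase (cls v w), clsVal v (cls v w) t = ∑ t ∈ K.erase (cls v w), (1 : ℤ) := by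
    rw [sum_const, card_erase_of_mem hq, hK5]
    norm_num
    omega
  exact (sum_eq_sum_iff_of_le fun t ht => (rel15 h).le_one _ _ (mem_erase.1 ht).1.symm).1 h4 q'
    (mem_erase.2 ⟨hne.symm, hq'⟩)

omit h

/-- The recovered points. -/
abbrev Pts (G : SimpleGraph V) : Type _ := {C : Finset V // IsCo G C}

open Classical in
/-- The points of a vertex. -/
noncomputable def blk (G : SimpleGraph V) (v : V) : Finset (Pts G) :=
  (univ : Finset (Pts G)).filter fun C => v ∈ C.1

theorem mem_blk {v : V} {C : Pts G} : C ∈ blk G v ↔ v ∈ C.1 := by simp [blk]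

include h

open Classical in
theorem card_blk_filter (v : V) (P : Finset V → Prop) :
    ((blk G v).filter fun C => P C.1).card
      = (univ.filter fun K : Finset (Cls G v) =>
          Classes15.IsStar (clsVal v) K ∧ P (lift v K)).card := by
  symm
  refine card_bij (fun K hK => ⟨lift v K, co_lift h (mem_filter.1 hK).2.1⟩) ?_ ?_ ?_
  · intro K hK
    simp only [mem_filter, mem_univ, true_and] at hK
    simp only [mem_filter, mem_blk, hK.2, and_true]
    exact mem_insert_self _ _
  · intro K _ K' _ e
    have e' : lift v K = lift v K' := congrArg Subtype.val e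
    ext q
    obtain ⟨u, rfl⟩ := cls_surjective v q
    rw [← mem_lift, e', mem_lift]
  · intro C hC
    obtain ⟨K, hK, e⟩ := exists_lift h C.2 (mem_blk.1 (mem_filter.1 hC).1)
    exact ⟨K, mem_filter.2 ⟨mem_univ _, hK, e.symm ▸ (mem_filter.1 hC).2⟩, Subtype.ext e⟩

theorem card_blk (v : V) : (blk G v).card = 6 := by
  classical
  have := card_blk_filter h v (fun _ => True)
  simp only [filter_true, and_true] at this
  rw [this]
  exact Classes15.card_stars (rel15 h) _ fun K => by simp

theorem blk_adj_disjoint {v w : V} (ha : G.Adj v w) : Disjoint (blk G v) (blk G w) := by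
  rw [disjoint_left]
  exact fun C h1 h2 => C.2.2 v (mem_blk.1 h1) w (mem_blk.1 h2) ha

open Classical in
theorem blk_inter {v w : V} (hne : v ≠ w) (ha : ¬ G.Adj v w) :
    (blk G v ∩ blk G w).card = 2 := by
  have e := card_blk_filter h v (fun C => w ∈ C)
  have e2 : blk G v ∩ blk G w = (blk G v).filter fun C => w ∈ C.1 := by ext; simp [mem_blk]
  have e3 := Classes15.card_stars_through (rel15 h) (cls v ⟨w, hne.symm, ha⟩)
    (univ.filter fun K => Classes15.IsStar (clsVal v) K) fun K => by simp
  rw [e2]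
  refine Eq.trans ?_ (e.trans (Eq.trans ?_ e3))
  · congr! 2
  rw [filter_filter]
  congr 1
  ext K
  simp only [mem_filter, mem_univ, true_and]
  exact and_congr_right fun _ => mem_lift (⟨w, hne.symm, ha⟩ : Far G v)

open Classical in
theorem blk_inter_le {v w : V} (hne : v ≠ w) : (blk G v ∩ blk G w).card ≤ 2 := by
  by_cases ha : G.Adj v w
  · rw [disjoint_iff_inter_eq_empty.1 (blk_adj_disjoint h ha), card_empty]; norm_num
  · rw [blk_inter h hne ha]

theorem adj_iff {v w : V} : G.Adj v w ↔ Disjoint (blk G v) (blk G w) := by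
  classical
  refine ⟨blk_adj_disjoint h, fun hd => ?_⟩
  rcases eq_or_ne v w with rfl | hne
  · have := card_blk h v
    rw [disjoint_self_iff_empty] at hd
    rw [hd, card_empty] at this
    omega
  · by_contra ha
    have := blk_inter h hne ha
    rw [disjoint_iff_inter_eq_empty.1 hd, card_empty] at this
    omega

theorem blk_injective : Function.Injective (blk G) := fun v w e => by
  classical
  by_contra hne
  have := blk_inter_le h hne
  rw [e, inter_self, card_blk h] at this
  omega

open Classical in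
theorem card_pts : Fintype.card (Pts G) = 22 := by
  have key := sum_card_bipartiteAbove_eq_sum_card_bipartiteBelow
    (s := (univ : Finset V)) (t := (univ : Finset (Pts G))) (fun v C => v ∈ C.1)
  have e1 : ∀ v ∈ (univ : Finset V),
      ((univ : Finset (Pts G)).bipartiteAbove (fun v C => v ∈ C.1) v).card = 6 :=
    fun v _ => card_blk h v
  have e2 : ∀ C ∈ (univ : Finset (Pts G)),
      ((univ : Finset V).bipartiteBelow (fun v C => v ∈ C.1) C).card = 21 := fun C _ => by
    rw [bipartiteBelow, filter_mem_eq_inter, univ_inter]; exact C.2.1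
  rw [sum_congr rfl e1, sum_congr rfl e2, sum_const, sum_const, card_univ, card_univ, h.card,
    smul_eq_mul, smul_eq_mul] at key
  omega

open Classical in
theorem steiner : IsSteinerSystem 3 6 (Set.range (blk G)) := by
  refine ⟨?_, fun s hs => ?_⟩
  · rintro _ ⟨v, rfl⟩; exact card_blk h v
  · have hd : ((univ : Finset V) : Set V).PairwiseDisjoint fun v => (blk G v).powersetCard 3 := by
      intro v _ w _ hne
      rw [Function.onFun, disjoint_left]
      intro t h1 h2
      rw [mem_powersetCard] at h1 h2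
      have h3 := card_le_card (subset_inter h1.1 h2.1)
      have h4 := blk_inter_le h hne
      omega
    have hall : (univ : Finset V).biUnion (fun v => (blk G v).powersetCard 3)
        = (univ : Finset (Pts G)).powersetCard 3 := by
      refine eq_of_subset_of_card_le (biUnion_subset.2 fun v _ =>
        powersetCard_mono (subset_univ _)) ?_
      rw [card_biUnion hd, sum_congr rfl (g := fun _ => 20) fun v _ => by
          rw [card_powersetCard, card_blk h]; rfl,
        card_powersetCard, sum_const, card_univ, card_univ, card_pts h, h.card, smul_eq_mul]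
      rw [Nat.choose_eq_descFactorial_div_factorial]
      simp [Nat.descFactorial, Nat.factorial]
    have hs' : s ∈ (univ : Finset V).biUnion (fun v => (blk G v).powersetCard 3) := by
      rw [hall, mem_powersetCard]; exact ⟨subset_univ _, hs⟩
    obtain ⟨v, -, hv⟩ := mem_biUnion.1 hs'
    rw [mem_powersetCard] at hv
    refine ⟨_, ⟨⟨v, rfl⟩, hv.1⟩, ?_⟩
    rintro _ ⟨⟨w, rfl⟩, hw⟩
    by_contra hne
    have h3 := card_le_card (subset_inter hv.1 hw)
    have h4 := blk_inter_le h (v := v) (w := w) fun e => hne (by rw [e])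
    omega

omit h

open Classical in
theorem unique {W : Type*} [Fintype W] [DecidableEq W] {H : SimpleGraph W} [DecidableRel H.Adj]
    (hG : G.IsSRGWith 77 16 0 4) (hH : H.IsSRGWith 77 16 0 4) : Nonempty (G ≃g H) := by
  obtain ⟨e, he⟩ := WittModel.unique22 (card_pts hG) (card_pts hH) (steiner hG) (steiner hH)
  have hex : ∀ v, ∃ w, blk H w = (blk G v).image e := fun v => by
    have : (blk G v).image e ∈ Set.range (blk H) := he ▸ ⟨_, ⟨v, rfl⟩, rfl⟩
    exact this
  choose τ hτ using hex
  have hinj : Function.Injective τ := fun v w hvw =>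
    blk_injective hG (image_injective e.injective (by
      show (blk G v).image e = (blk G w).image e
      rw [← hτ, ← hτ, hvw]))
  have hbij : Function.Bijective τ :=
    (Fintype.bijective_iff_injective_and_card τ).2 ⟨hinj, hG.card.trans hH.card.symm⟩
  refine ⟨{ toEquiv := Equiv.ofBijective τ hbij, map_rel_iff' := fun {v w} => ?_ }⟩
  show H.Adj (τ v) (τ w) ↔ G.Adj v w
  rw [adj_iff hH, adj_iff hG, hτ, hτ, disjoint_image e.injective]

end Cfsg.Agent.Lib.Srg77
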