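import Cfsg.Agent.Lib.Design.WittAut

/-!
The automorphism group of an S(3, 6, 22) is the stabiliser of a pair of points in the group of the
Golay code.
-/

set_option autoImplicit false
set_option maxRecDepth 20000

namespace Cfsg.Agent.Lib.WittAut

open Cfsg Finset
open scoped symmDiff Pointwise

variable {α : Type*} [Fintype α] [DecidableEq α]

/-- The pair of base points. -/
noncomputable def duad : Finset GolayPt := {ptA, ptB}

theorem card_duad : duad.card = 2 := card_pair ptA_ne_ptB

/-- The stabiliser of the pair. -/
noncomputable abbrev duadStab : Subgroup ↥M24 := MulAction.stabilizer ↥M24 duad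

theorem swap_notMem : Equiv.swap ptA ptB ∉ M24 := by
  intro h
  obtain ⟨ho, hA, hB⟩ := oneOct_props
  have ho8 : Golay.ptsOf oneOct ∈ octads := Golay.mem_octads_iff.2 ⟨ho, by
    rw [Golay.card_ptsOf]; decide⟩
  have hoct := Golay.M24_octad h ho8
  have hsub : (Golay.ptsOf oneOct).erase ptA ⊆
      Golay.ptsOf oneOct ∩ Equiv.swap ptA ptB • Golay.ptsOf oneOct := fun p hp => by
    obtain ⟨h1, h2⟩ := mem_erase.1 hp
    refine mem_inter.2 ⟨h2, (swap_smul_mem _ _).2 ?_⟩
    rwa [Equiv.swap_apply_of_ne_of_ne h1 fun e => hB (by rwa [← e])]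
  have := Golay.octad_eq_of_five_le ho8 hoct (by
    refine le_trans ?_ (card_le_card hsub)
    rw [card_erase_of_mem hA, Golay.octad_card ho8]
    norm_num)
  rw [this, swap_smul_mem, Equiv.swap_apply_left] at hA
  exact hB hA

variable (e : Option (Option α) ≃ GolayPt)

/-- The points other than the pair. -/
def place (x : α) : GolayPt := e (some (some x))

theorem place_injective : Function.Injective (place e) := fun _ _ h =>
  Option.some_injective _ (Option.some_injective _ (e.injective h))

/-- The block of an S(3, 6, 22) with the pair added. -/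
noncomputable def lift2 (s : Finset α) : Finset GolayPt := duad ∪ s.image (place e)

variable {e}

theorem place_notMem (hA : e none = ptA) (hB : e (some none) = ptB) (x : α) :
    place e x ∉ duad := by
  simp [duad, place, ← hA, ← hB]

theorem exists_place (hA : e none = ptA) (hB : e (some none) = ptB) {p : GolayPt}
    (hp : p ∉ duad) : ∃ x, place e x = p := by
  obtain ⟨(_ | _ | x), rfl⟩ := e.surjective p
  · simp [duad, hA] at hp
  · simp [duad, hB] at hp
  · exact ⟨x, rfl⟩

theorem lift2_eq (hA : e none = ptA) (hB : e (some none) = ptB) (s : Finset α) :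
    lift2 e s = (insertNone (insertNone s)).image e := by
  rw [lift2, duad, ← hA, ← hB]
  ext p
  obtain ⟨x, rfl⟩ := e.surjective p
  rw [e.injective.mem_finset_image]
  rcases x with _ | _ | x <;> simp [place, e.injective.eq_iff]

theorem exists_lift2 (hA : e none = ptA) (hB : e (some none) = ptB) {o : Finset GolayPt}
    (ho : duad ⊆ o) : ∃ s : Finset α, lift2 e s = o := by
  classical
  refine ⟨univ.filter fun x => place e x ∈ o, ?_⟩
  ext p
  by_cases hp : p ∈ duad
  · simp [lift2, hp, ho hp]
  · obtain ⟨x, rfl⟩ := exists_place hA hB hp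
    simp [lift2, hp, (place_injective e).eq_iff]

theorem stab_notMem {g : Equiv.Perm GolayPt} (hg : g • duad = duad) {p : GolayPt} :
    g p ∈ duad ↔ p ∈ duad := by
  conv_lhs => rw [← hg]
  exact Finset.smul_mem_smul_finset_iff g

theorem smul_lift2 {g : Equiv.Perm GolayPt} {σ : α → α} (hg : g • duad = duad)
    (hσ : ∀ x, g (place e x) = place e (σ x)) (s : Finset α) :
    g • lift2 e s = lift2 e (s.image σ) := by
  rw [lift2, lift2, smul_finset_union, hg, Golay.smul_finset_eq_image, image_image, image_image]
  exact congrArg _ (image_congr fun x _ => hσ x)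

section
variable (hA : e none = ptA) (hB : e (some none) = ptB)

/-- The points outside the pair, as the points of the system. -/
noncomputable def placeEquiv : α ≃ {p : GolayPt // p ∉ duad} :=
  Equiv.ofBijective (fun x => ⟨place e x, place_notMem hA hB x⟩)
    ⟨fun _ _ h => place_injective e (congrArg Subtype.val h), fun p => by
      obtain ⟨x, hx⟩ := exists_place hA hB p.2
      exact ⟨x, Subtype.ext hx⟩⟩

theorem placeEquiv_val (x : α) : (placeEquiv hA hB x).1 = place e x := rfl

/-- Restriction of the pair stabiliser to the other points. -/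
noncomputable def restrict2 : ↥duadStab →* Equiv.Perm α where
  toFun g := (placeEquiv hA hB).symm.permCongr
    ((g.1 : Equiv.Perm GolayPt).subtypePerm fun p =>
      not_congr (stab_notMem (MulAction.mem_stabilizer_iff.1 g.2)))
  map_one' := Equiv.ext fun x => (placeEquiv hA hB).injective (by
    simp [Equiv.permCongr_apply])
  map_mul' g h := Equiv.ext fun x => (placeEquiv hA hB).injective (by
    simp [Equiv.permCongr_apply])

theorem place_restrict2 (g : ↥duadStab) (x : α) :
    place e (restrict2 hA hB g x) = (g.1 : Equiv.Perm GolayPt) (place e x) := by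
  rw [← placeEquiv_val hA hB]
  simp [restrict2, Equiv.permCongr_apply, placeEquiv_val]

theorem restrict2_injective : Function.Injective (restrict2 hA hB) := by
  rw [injective_iff_map_eq_one]
  intro g hg
  have hfix : ∀ p, p ∉ duad → (g.1 : Equiv.Perm GolayPt) p = p := by
    intro p hp
    obtain ⟨x, rfl⟩ := exists_place hA hB hp
    rw [← place_restrict2 hA hB, hg, Equiv.Perm.one_apply]
  have hst := MulAction.mem_stabilizer_iff.1 g.2
  set h : Equiv.Perm GolayPt := g.1.1
  have hmem : h ptA ∈ duad := (stab_notMem hst).2 (by simp [duad])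
  have hmemB : h ptB ∈ duad := (stab_notMem hst).2 (by simp [duad])
  simp only [duad, mem_insert, mem_singleton] at hmem hmemB hfix
  apply Subtype.ext; apply Subtype.ext
  show h = 1
  rcases hmem with hmem | hmem
  · have hB' : h ptB = ptB := hmemB.resolve_left fun e' =>
      ptA_ne_ptB (h.injective (hmem.trans e'.symm))
    refine Equiv.ext fun p => ?_
    rcases eq_or_ne p ptA with rfl | h1
    · simpa using hmem
    rcases eq_or_ne p ptB with rfl | h2
    · simpa using hB'
    simpa using hfix p (by simp [h1, h2])
  · exfalso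
    have hB' : h ptB = ptA := hmemB.resolve_right fun e' =>
      ptA_ne_ptB (h.injective (hmem.trans e'.symm))
    refine swap_notMem ?_
    have : h = Equiv.swap ptA ptB := Equiv.ext fun p => by
      rcases eq_or_ne p ptA with rfl | h1
      · rw [hmem, Equiv.swap_apply_left]
      rcases eq_or_ne p ptB with rfl | h2
      · rw [hB', Equiv.swap_apply_right]
      rw [hfix p (by simp [h1, h2]), Equiv.swap_apply_of_ne_of_ne h1 h2]
    rw [← this]
    exact g.1.2

variable {B : Set (Finset α)} (he : ∀ s : Finset α, s ∈ B ↔ lift2 e s ∈ octads)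
include he

theorem range_restrict2 : (restrict2 hA hB).range = setSystemAut B := by
  ext σ
  constructor
  · rintro ⟨g, rfl⟩
    rw [mem_aut_iff]
    intro s hs
    rw [he, ← smul_lift2 (MulAction.mem_stabilizer_iff.1 g.2 :
      (g.1 : Equiv.Perm GolayPt) • duad = duad) fun x => (place_restrict2 hA hB g x).symm]
    exact Golay.M24_octad g.1.2 ((he s).1 hs)
  · intro hσ
    set g : Equiv.Perm GolayPt := Equiv.Perm.ofSubtype ((placeEquiv hA hB).permCongr σ) with hg
    have hfix : ∀ p ∈ duad, g p = p := fun p hp =>
      Equiv.Perm.ofSubtype_apply_of_not_mem _ (fun h => h hp)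
    have hgx : ∀ x, g (place e x) = place e (σ x) := fun x => by
      rw [hg, Equiv.Perm.ofSubtype_apply_of_mem ((placeEquiv hA hB).permCongr σ) (place_notMem hA hB x)]
      rw [show (⟨place e x, place_notMem hA hB x⟩ : {p // p ∉ duad}) = placeEquiv hA hB x from rfl]
      simp [Equiv.permCongr_apply, placeEquiv_val]
    have hgd : g • duad = duad := by
      rw [Golay.smul_finset_eq_image]
      exact (image_congr fun p hp => hfix p hp).trans image_id
    have hgA : g ptA = ptA := hfix _ (by simp [duad])
    have hgB : g ptB = ptB := hfix _ (by simp [duad])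
    have hoct : ∀ o ∈ octads, ptA ∈ o → ptB ∈ o → g • o ∈ octads := by
      intro o ho h1 h2
      obtain ⟨s, rfl⟩ := exists_lift2 hA hB (o := o) (by simp [duad, insert_subset_iff, h1, h2])
      rw [smul_lift2 hgd hgx, ← he]
      exact mem_aut_iff.1 hσ s ((he s).2 ho)
    have hswd : Equiv.swap ptA ptB • duad = duad := swap_fix (by simp [duad])
    rcases ext22_cases hgA hgB hoct with h | h
    · refine ⟨⟨⟨g, h⟩, MulAction.mem_stabilizer_iff.2 hgd⟩, Equiv.ext fun x => place_injective e ?_⟩
      rw [place_restrict2]; exact hgx x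
    · refine ⟨⟨⟨Equiv.swap ptA ptB * g, h⟩, MulAction.mem_stabilizer_iff.2
        (show (Equiv.swap ptA ptB * g) • duad = duad by rw [mul_smul, hgd, hswd])⟩,
        Equiv.ext fun x => place_injective e ?_⟩
      rw [place_restrict2]
      show (Equiv.swap ptA ptB * g) (place e x) = _
      rw [Equiv.Perm.mul_apply, hgx]
      have hne := place_notMem hA hB (σ x)
      simp only [duad, mem_insert, mem_singleton, not_or] at hne
      exact Equiv.swap_apply_of_ne_of_ne hne.1 hne.2

/-- The pair stabiliser is the automorphism group. -/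
noncomputable def aut22 : ↥duadStab ≃* ↥(setSystemAut B) :=
  (MonoidHom.ofInjective (restrict2_injective hA hB)).trans
    (MulEquiv.subgroupCongr (range_restrict2 hA hB he))

theorem aut22_apply (g : ↥duadStab) (x : α) :
    place e ((aut22 hA hB he g : Equiv.Perm α) x) = (g.1 : Equiv.Perm GolayPt) (place e x) :=
  place_restrict2 hA hB g x

end

theorem exists_place22 (hα : Fintype.card α = 22) {B : Set (Finset α)}
    (hB' : IsSteinerSystem 3 6 B) : ∃ (e : Option (Option α) ≃ GolayPt),
      e none = ptA ∧ e (some none) = ptB ∧ ∀ s : Finset α, s ∈ B ↔ lift2 e s ∈ octads := by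
  obtain ⟨e, h1, h2, h3⟩ := WittModel.model22 hα hB'
  exact ⟨e, h1, h2, fun s => by rw [lift2_eq h1 h2]; exact h3 s⟩

/-! ### Orders -/

theorem index_duadStab : duadStab.index = 276 := by
  classical
  have he : MulAction.orbit ↥M24 duad = ((univ : Finset GolayPt).powersetCard 2 : Finset _) := by
    ext t
    rw [Finset.mem_coe, mem_powersetCard]
    constructor
    · rintro ⟨g, rfl⟩
      exact ⟨subset_univ _, (card_smul_finset g duad).trans card_duad⟩
    · rintro ⟨-, ht⟩
      obtain ⟨c, d, hcd, rfl⟩ := card_eq_two.1 ht
      obtain ⟨g, hg, e⟩ := Golay.exists_map_list [ptA, ptB] [c, d] rfl (by simp)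
        (by simp [ptA_ne_ptB]) (by simp [hcd])
      simp only [List.map_cons, List.map_nil, List.cons.injEq, and_true] at e
      refine ⟨⟨g, hg⟩, ?_⟩
      show (⟨g, hg⟩ : ↥M24) • duad = {c, d}
      rw [duad, smul_finset_insert, smul_finset_singleton,
        show (⟨g, hg⟩ : ↥M24) • ptA = c from e.1, show (⟨g, hg⟩ : ↥M24) • ptB = d from e.2]
  refine (MulAction.index_stabilizer ↥M24 duad).trans ?_
  rw [he, Set.ncard_coe_finset]
  refine (card_powersetCard 2 _).trans ?_
  rw [card_univ, Golay.card_golayPt]
  rfl

theorem card_duadStab : Nat.card ↥duadStab = 887040 := by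
  have h : Nat.card ↥duadStab * duadStab.index = Nat.card ↥M24 := Subgroup.card_mul_index _
  have h2 : duadStab.index = 276 := index_duadStab
  have h3 : Nat.card ↥M24 = 244823040 := Golay.card_M24
  rw [h2, h3] at h
  omega

end Cfsg.Agent.Lib.WittAut
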